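import Cfsg.Prelude.Def_OddOrderChar
import Cfsg.Agent.Chars.Frob
import Cfsg.Agent.Chars.Induced

/-!
# The Dade map

The elementary theory of the Dade hypothesis, the counting identity for the Dade map, reciprocity,
and Dade's alternating sum of induced characters showing that the map preserves generalised
characters.
-/

namespace Cfsg.Lib.Dade

open scoped ComplexConjugate
open Cfsg.Lib.Chars

universe u

variable {G : Type u} [Group G] {A : Set G} {L : Subgroup G} {H : G → Subgroup G}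

/-- The centraliser in `L`. -/
abbrev cL (L : Subgroup G) (a : G) : Subgroup G := L ⊓ Subgroup.centralizer ({a} : Set G)

theorem pow_card_mem {K : Subgroup G} {u : G} (hu : u ∈ K) : u ^ Nat.card K = 1 := by
  calc u ^ Nat.card K = (((⟨u, hu⟩ : K) ^ Nat.card K : K) : G) := rfl
    _ = 1 := by rw [pow_card_eq_one', OneMemClass.coe_one]

theorem mem_cL_self (hD : Cfsg.DadeHypothesis A L H) {a : G} (ha : a ∈ A) : a ∈ cL L a :=
  ⟨hD.subset ha, Subgroup.mem_centralizer_singleton_iff.mpr rfl⟩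

/-- Elements of the centraliser of order prime to the centraliser in `L` lie in `H`. -/
theorem mem_H (hD : Cfsg.DadeHypothesis A L H) {b : G} (hb : b ∈ A) {y : G}
    (hy : y ∈ Subgroup.centralizer ({b} : Set G)) {n : ℕ} (hn : y ^ n = 1)
    (hcop : Nat.Coprime n (Nat.card (cL L b))) : y ∈ H b := by
  classical
  set C := cL L b with hCdef
  have hy' : y ∈ H b ⊔ C := (hD.sup_eq b hb).ge hy
  have hnorm : C ≤ Subgroup.normalizer (H b : Set G) := fun c hc => by
    rw [Subgroup.mem_normalizer_iff]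
    exact fun u => ⟨fun hu => hD.conj_mem_H b hb c hc.2 u hu,
      fun hu => by simpa [mul_assoc] using hD.conj_mem_H b hb c⁻¹ (inv_mem hc.2) _ hu⟩
  rw [← SetLike.mem_coe, Subgroup.coe_mul_of_right_le_normalizer_left _ _ hnorm] at hy'
  obtain ⟨u, hu, c, hc, rfl⟩ := Set.mem_mul.mp hy'
  have hind : ∀ j : ℕ, (u * c) ^ j * (c ^ j)⁻¹ ∈ H b := by
    intro j
    induction j with
    | zero => simp
    | succ j ih =>
      have h1 : c ^ j * u * (c ^ j)⁻¹ ∈ H b :=
        (Subgroup.mem_normalizer_iff.mp (hnorm (pow_mem hc j)) u).mp hu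
      have h2 : (u * c) ^ (j + 1) * (c ^ (j + 1))⁻¹ =
          ((u * c) ^ j * (c ^ j)⁻¹) * (c ^ j * u * (c ^ j)⁻¹) := by
        rw [pow_succ, pow_succ]; group
      rw [h2]
      exact mul_mem ih h1
  have hcn : c ^ n = 1 := by
    have h1 := hind n
    rw [hn, one_mul] at h1
    exact Subgroup.mem_bot.mp ((hD.inf_eq_bot b hb).le ⟨by simpa using inv_mem h1, pow_mem hc n⟩)
  have hc1 : c = 1 := by
    have h4 := (pow_gcd_eq_one (m := n) (n := Nat.card C)).mpr ⟨hcn, pow_card_mem hc⟩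
    rwa [show Nat.gcd n (Nat.card C) = 1 from hcop, pow_one] at h4
  rw [hc1, mul_one]
  exact hu

theorem conj_mem_H' (hD : Cfsg.DadeHypothesis A L H) {a₁ a₂ y : G} (h1 : a₁ ∈ A) (h2 : a₂ ∈ A)
    (he : y * a₁ * y⁻¹ = a₂) {u : G} (hu : u ∈ H a₁) : y * u * y⁻¹ ∈ H a₂ := by
  refine mem_H hD h2 ?_ (n := Nat.card (H a₁))
    (by rw [conj_pow, pow_card_mem hu, mul_one, mul_inv_cancel]) (hD.coprime a₁ h1 a₂ h2)
  have hu' := Subgroup.mem_centralizer_singleton_iff.mp (hD.le_centralizer a₁ h1 hu)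
  rw [Subgroup.mem_centralizer_singleton_iff, ← he]
  calc y * u * y⁻¹ * (y * a₁ * y⁻¹) = y * (u * a₁) * y⁻¹ := by group
    _ = y * a₁ * y⁻¹ * (y * u * y⁻¹) := by rw [hu']; group

theorem commute_H (hD : Cfsg.DadeHypothesis A L H) {a : G} (ha : a ∈ A) {u : G} (hu : u ∈ H a) :
    Commute a u :=
  (Subgroup.mem_centralizer_singleton_iff.mp (hD.le_centralizer a ha hu)).symm

variable [Finite G]

theorem coprime_orderOf (hD : Cfsg.DadeHypothesis A L H) {a b : G} (ha : a ∈ A) (hb : b ∈ A) :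
    Nat.Coprime (Nat.card (H b)) (orderOf a) :=
  (hD.coprime b hb a ha).coprime_dvd_right
    ((Subgroup.orderOf_mk a (mem_cL_self hD ha)) ▸ orderOf_dvd_natCard _)

/-- An element of a coset `a H(a)` determines `a`. -/
theorem coset_conj (hD : Cfsg.DadeHypothesis A L H) {a b : G} (ha : a ∈ A) (hb : b ∈ A) {u v g : G}
    (hu : u ∈ H a) (hv : v ∈ H b) (he : g * (a * u) * g⁻¹ = b * v) :
    g * a * g⁻¹ = b ∧ g * u * g⁻¹ = v := by
  obtain ⟨t, ht0, ht1⟩ := Nat.chineseRemainder
    (show Nat.Coprime (Nat.card (H a) * Nat.card (H b)) (orderOf a * orderOf b) from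
      ((coprime_orderOf hD ha ha).mul_left (coprime_orderOf hD ha hb)).mul_right
        ((coprime_orderOf hD hb ha).mul_left (coprime_orderOf hD hb hb))) 0 1
  have hpow : ∀ c w : G, c ∈ A → w ∈ H c → Nat.card (H c) ∣ Nat.card (H a) * Nat.card (H b) →
      orderOf c ∣ orderOf a * orderOf b → (c * w) ^ t = c := by
    intro c w hc hw hd1 hd2
    rw [(commute_H hD hc hw).mul_pow]
    have h1 : w ^ t = 1 := by
      obtain ⟨d, hd⟩ := hd1.trans (Nat.modEq_zero_iff_dvd.mp ht0)
      rw [hd, pow_mul, pow_card_mem hw, one_pow]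
    rw [h1, mul_one]
    conv_rhs => rw [← pow_one c]
    exact pow_eq_pow_iff_modEq.mpr (ht1.of_dvd hd2)
  have h := congrArg (fun x => x ^ t) he
  simp only [conj_pow] at h
  rw [hpow a u ha hu (dvd_mul_right _ _) (dvd_mul_right _ _),
    hpow b v hb hv (dvd_mul_left _ _) (dvd_mul_left _ _)] at h
  refine ⟨h, mul_left_cancel (a := b) ?_⟩
  rw [← he, ← h]
  group

theorem fusion_coset (hD : Cfsg.DadeHypothesis A L H) {a b : G} (ha : a ∈ A) (hb : b ∈ A) {u v g : G}
    (hu : u ∈ H a) (hv : v ∈ H b) (he : g * (a * u) * g⁻¹ = b * v) :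
    ∃ x ∈ L, x * a * x⁻¹ = b := by
  obtain ⟨h1, -⟩ := coset_conj hD ha hb hu hv he
  obtain ⟨x, hx, hxe⟩ := hD.fusion a ha g (by rw [h1]; exact hb)
  exact ⟨x, hx, hxe.trans h1⟩

theorem normalizer_coset (hD : Cfsg.DadeHypothesis A L H) {a : G} (ha : a ∈ A) :
    Subgroup.normalizer ((fun u : G => a * u) '' (H a : Set G)) =
      Subgroup.centralizer ({a} : Set G) := by
  ext g
  rw [Subgroup.mem_set_normalizer_iff]
  constructor
  · intro hg
    obtain ⟨v, hv, he⟩ := (hg a).mp ⟨1, one_mem _, mul_one a⟩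
    obtain ⟨h1, -⟩ := coset_conj hD ha ha (u := 1) (one_mem _) hv
      (g := g) (by rw [mul_one]; exact he.symm)
    rw [Subgroup.mem_centralizer_singleton_iff]
    calc g * a = g * a * g⁻¹ * g := by group
      _ = a * g := by rw [h1]
  · intro hg n
    have hga : g * a * g⁻¹ = a := by
      rw [mul_inv_eq_iff_eq_mul]; exact Subgroup.mem_centralizer_singleton_iff.mp hg
    constructor
    · rintro ⟨u, hu, rfl⟩
      refine ⟨g * u * g⁻¹, hD.conj_mem_H a ha g hg u hu, ?_⟩
      show a * (g * u * g⁻¹) = g * (a * u) * g⁻¹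
      conv_lhs => rw [← hga]
      group
    · rintro ⟨u, hu, he⟩
      refine ⟨g⁻¹ * u * g, by simpa using hD.conj_mem_H a ha g⁻¹ (inv_mem hg) u hu, ?_⟩
      have he' : a * u = g * n * g⁻¹ := he
      show a * (g⁻¹ * u * g) = n
      calc a * (g⁻¹ * u * g) = g⁻¹ * (g * a * g⁻¹ * u) * g := by group
        _ = n := by rw [hga, he']; group

/-! ## Values of the Dade map -/

theorem dade_apply (hD : Cfsg.DadeHypothesis A L H) {α : L → ℂ} (hα : Cfsg.IsClassFunction L α)
    (a : L) (ha : (a : G) ∈ A) {u : G} (hu : u ∈ H a) {x g : G}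
    (he : x * g * x⁻¹ = (a : G) * u) : Cfsg.dadeIsometry A L H α g = α a := by
  have hex : ∃ a : L, (a : G) ∈ A ∧ ∃ x : G, ∃ u ∈ H (a : G), x * g * x⁻¹ = (a : G) * u :=
    ⟨a, ha, x, u, hu, he⟩
  simp only [Cfsg.dadeIsometry, dif_pos hex]
  obtain ⟨hA', y, v, hv, hy⟩ := Classical.choose_spec hex
  obtain ⟨l, hl, hla⟩ := fusion_coset hD ha hA' hu hv (g := y * x⁻¹) (by
    rw [← he, ← hy]; group)
  rw [← hα a ⟨l, hl⟩]
  congr 1
  exact Subtype.ext (by simpa using hla.symm)

theorem dade_eq_zero (α : L → ℂ) {g : G}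
    (h : ∀ a : L, (a : G) ∈ A → ∀ x : G, ∀ u ∈ H (a : G), x * g * x⁻¹ ≠ (a : G) * u) :
    Cfsg.dadeIsometry A L H α g = 0 := by
  simp only [Cfsg.dadeIsometry]
  rw [dif_neg]
  rintro ⟨a, ha, x, u, hu, he⟩
  exact h a ha x u hu he

theorem dade_one (hD : Cfsg.DadeHypothesis A L H) (α : L → ℂ) :
    Cfsg.dadeIsometry A L H α 1 = 0 := by
  refine dade_eq_zero α fun a ha x u hu he => hD.one_not_mem ?_
  obtain ⟨h1, -⟩ := coset_conj hD ha ha hu (v := u) hu (g := 1) (by simp)
  rw [mul_one, mul_inv_cancel] at he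
  have h2 : (a : G) = u⁻¹ := eq_inv_of_mul_eq_one_left he.symm
  have h3 : orderOf (a : G) ∣ Nat.card (H a) :=
    orderOf_dvd_of_pow_eq_one (pow_card_mem
      ((congrArg (fun z => z ∈ H (a : G)) h2).mpr (inv_mem hu)))
  have h4 := Nat.eq_one_of_dvd_coprimes (coprime_orderOf hD ha ha) h3 dvd_rfl
  rw [orderOf_eq_one_iff] at h4
  exact h4 ▸ ha

theorem isClassFunction_dade (hD : Cfsg.DadeHypothesis A L H) {α : L → ℂ}
    (hα : Cfsg.IsClassFunction L α) : Cfsg.IsClassFunction G (Cfsg.dadeIsometry A L H α) := by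
  intro g y
  by_cases h : ∃ a : L, (a : G) ∈ A ∧ ∃ x : G, ∃ u ∈ H (a : G), x * g * x⁻¹ = (a : G) * u
  · obtain ⟨a, ha, x, u, hu, he⟩ := h
    rw [dade_apply hD hα a ha hu he, dade_apply hD hα a ha hu (x := x * y⁻¹) (by rw [← he]; group)]
  · push Not at h
    rw [dade_eq_zero α h, dade_eq_zero α fun a ha x u hu he => h a ha (x * y) u hu (by
      rw [← he]; group)]

/-! ## Counting -/

/-- The number of `x` with `x⁻¹ g x = y`. -/
noncomputable def cnt (g y : G) : ℕ := Nat.card {x : G // x⁻¹ * g * x = y}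

theorem cnt_conj (g y k : G) : cnt g (k * y * k⁻¹) = cnt g y :=
  Nat.card_congr ((Equiv.mulRight k).subtypeEquiv fun x => by
    simp only [Equiv.coe_mulRight, mul_inv_rev]
    constructor
    · intro h
      rw [show k⁻¹ * x⁻¹ * g * (x * k) = k⁻¹ * (x⁻¹ * g * x) * k by group, h]; group
    · intro h
      rw [← h]; group)

variable [Fintype G] [Fintype L]

/-- The Dade map, counted over `G`. -/
theorem card_mul_dade (hD : Cfsg.DadeHypothesis A L H) {α : L → ℂ}
    (hα : Cfsg.IsClassFunction L α) (hαA : ∀ x : L, (x : G) ∉ A → α x = 0) (g : G) :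
    (Nat.card L : ℂ) * Cfsg.dadeIsometry A L H α g =
      ∑ n : L, α n * ((Nat.card (H n) : ℂ)⁻¹ * ∑ᶠ u ∈ (H n : Set G), (cnt g ((n : G) * u) : ℂ)) := by
  classical
  simp only [finsum_mem_eq_finite_toFinset_sum _ (Set.toFinite _)]
  by_cases hs : ∃ a : L, (a : G) ∈ A ∧ ∃ x : G, ∃ u ∈ H (a : G), x * g * x⁻¹ = (a : G) * u
  swap
  · push Not at hs
    rw [dade_eq_zero α hs, mul_zero]
    refine (Finset.sum_eq_zero fun n _ => ?_).symm
    by_cases hn : (n : G) ∈ A
    · rw [Finset.sum_eq_zero fun u hu => ?_, mul_zero, mul_zero]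
      rw [cnt, Nat.cast_eq_zero, Nat.card_eq_zero]
      left
      exact ⟨fun x => hs n hn x.1⁻¹ u ((Set.Finite.mem_toFinset _).mp hu) (by rw [inv_inv]; exact x.2)⟩
    · rw [hαA n hn, zero_mul]
  obtain ⟨a, ha, x₀, u₀, hu₀, he⟩ := hs
  rw [dade_apply hD hα a ha hu₀ he]
  -- one count for each `n`
  have hterm : ∀ n : L, (n : G) ∈ A →
      ∑ u ∈ (Set.toFinite (H n : Set G)).toFinset, (cnt g ((n : G) * u) : ℂ) =
        ((Finset.univ.filter fun x : G => x⁻¹ * (a : G) * x = n).card : ℂ) := by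
    intro n hn
    rw [← Nat.cast_sum]
    congr 1
    have hcnt : ∀ y, cnt g y =
        (Finset.univ.filter fun x : G => x⁻¹ * ((a : G) * u₀) * x = y).card := by
      intro y
      rw [cnt, ← Fintype.card_subtype, ← Nat.card_eq_fintype_card]
      exact Nat.card_congr ((Equiv.mulLeft x₀).subtypeEquiv fun x => by
        simp only [Equiv.coe_mulLeft, mul_inv_rev, ← he]
        constructor
        · intro h; rw [← h]; group
        · intro h; rw [← h]; group)
    simp only [hcnt]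
    rw [← Finset.card_biUnion]
    · congr 1
      ext x
      simp only [Finset.mem_biUnion, Finset.mem_filter, Finset.mem_univ, true_and,
        Set.Finite.mem_toFinset, SetLike.mem_coe]
      constructor
      · rintro ⟨u, hu, hx⟩
        have := (coset_conj hD ha hn hu₀ hu (g := x⁻¹) (by rw [inv_inv]; exact hx)).1
        rwa [inv_inv] at this
      · intro hx
        have hu := conj_mem_H' hD ha hn (y := x⁻¹) (by rw [inv_inv]; exact hx) hu₀
        rw [inv_inv] at hu
        exact ⟨_, hu, by rw [← hx]; group⟩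
    · intro u _ v _ huv
      rw [Function.onFun, Finset.disjoint_left]
      intro x hx hx'
      rw [Finset.mem_filter] at hx hx'
      exact huv (mul_left_cancel (hx.2.symm.trans hx'.2))
  rw [Finset.sum_congr rfl (g := fun n : L => α a * ((Nat.card (H a) : ℂ)⁻¹ *
    if (n : G) ∈ A then ((Finset.univ.filter fun x : G => x⁻¹ * (a : G) * x = n).card : ℂ) else 0))
    fun n _ => ?_]
  swap
  · by_cases hn : (n : G) ∈ A
    · rw [if_pos hn, hterm n hn]
      by_cases hx : ∃ x : G, x⁻¹ * (a : G) * x = n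
      · obtain ⟨x, hx⟩ := hx
        have hx' : x⁻¹ * (a : G) * x⁻¹⁻¹ = n := by rwa [inv_inv]
        obtain ⟨l, hl, hle⟩ := hD.fusion a ha x⁻¹ (by rw [hx']; exact hn)
        have hle' : l * (a : G) * l⁻¹ = n := hle.trans hx'
        have h1 : α n = α a := by
          rw [← hα a ⟨l, hl⟩]
          exact congrArg α (Subtype.ext (by simpa using hle'.symm))
        have h2 : Nat.card (H (n : G)) = Nat.card (H (a : G)) := by
          refine Nat.card_congr ((MulAut.conj l⁻¹).toEquiv.subtypeEquiv fun u => ?_)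
          simp only [MulEquiv.toEquiv_eq_coe, EquivLike.coe_coe, MulAut.conj_apply]
          refine ⟨fun hu => conj_mem_H' hD hn ha (by rw [← hle']; group) hu, fun hu => ?_⟩
          have := conj_mem_H' hD ha hn hle' hu
          simpa [mul_assoc] using this
        rw [h1, h2]
      · push Not at hx
        rw [Finset.filter_eq_empty_iff.mpr fun x _ => hx x]
        simp
    · rw [hαA n hn, if_neg hn]
      simp
  rw [← Finset.mul_sum, ← Finset.mul_sum, ← Finset.sum_filter]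
  suffices hcount : ∑ n ∈ Finset.univ.filter (fun n : L => (n : G) ∈ A),
      (Finset.univ.filter fun x : G => x⁻¹ * (a : G) * x = n).card =
        Nat.card (H a) * Nat.card L by
    rw [← Nat.cast_sum, hcount, Nat.cast_mul,
      inv_mul_cancel_left₀ (Nat.cast_ne_zero.mpr Nat.card_pos.ne'), mul_comm]
  rw [← Finset.card_biUnion]
  swap
  · intro n _ m _ hnm
    rw [Function.onFun, Finset.disjoint_left]
    intro x hx hx'
    rw [Finset.mem_filter] at hx hx'
    exact hnm (Subtype.ext (hx.2.symm.trans hx'.2))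
  rw [← Nat.card_prod]
  have hmem : ∀ p : H (a : G) × L, (p.1 : G) * (p.2 : G) ∈
      (Finset.univ.filter fun n : L => (n : G) ∈ A).biUnion
        fun n => Finset.univ.filter fun x : G => x⁻¹ * (a : G) * x = n := by
    intro p
    have hn : ((p.2 : G))⁻¹ * (a : G) * (p.2 : G) ∈ A := by
      simpa using hD.conj_mem _ (inv_mem p.2.2) a ha
    simp only [Finset.mem_biUnion, Finset.mem_filter, Finset.mem_univ, true_and]
    refine ⟨⟨_, hD.subset hn⟩, hn, ?_⟩
    have hc : (a : G) * (p.1 : G) = (p.1 : G) * (a : G) := commute_H hD ha p.1.2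
    calc ((p.1 : G) * (p.2 : G))⁻¹ * (a : G) * ((p.1 : G) * (p.2 : G))
        = (p.2 : G)⁻¹ * ((p.1 : G)⁻¹ * ((a : G) * (p.1 : G))) * (p.2 : G) := by group
      _ = (p.2 : G)⁻¹ * (a : G) * (p.2 : G) := by rw [hc]; group
  refine (Nat.card_eq_finsetCard _).symm.trans (Nat.card_congr (Equiv.ofBijective
    (fun p : H (a : G) × L => ⟨(p.1 : G) * (p.2 : G), hmem p⟩) ⟨?_, ?_⟩).symm)
  · rintro ⟨h, l⟩ ⟨h', l'⟩ heq
    have h1 : (h : G) * (l : G) = (h' : G) * (l' : G) := congrArg Subtype.val heq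
    have h2 : (h' : G)⁻¹ * (h : G) = (l' : G) * (l : G)⁻¹ := by
      rw [eq_mul_inv_iff_mul_eq, mul_assoc, h1, inv_mul_cancel_left]
    have hH : (h' : G)⁻¹ * (h : G) ∈ H (a : G) := (H (a : G)).mul_mem ((H (a : G)).inv_mem h'.2) h.2
    have hLm : (h' : G)⁻¹ * (h : G) ∈ L := by
      rw [h2]; exact L.mul_mem l'.2 (L.inv_mem l.2)
    have h3 : (h' : G)⁻¹ * (h : G) ∈ H a ⊓ cL L a := ⟨hH, hLm, hD.le_centralizer a ha hH⟩
    rw [hD.inf_eq_bot a ha, Subgroup.mem_bot] at h3
    rw [h3] at h2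
    exact Prod.ext (Subtype.ext (inv_mul_eq_one.mp h3).symm)
      (Subtype.ext (mul_inv_eq_one.mp h2.symm).symm)
  · rintro ⟨x, hx⟩
    simp only [Finset.mem_biUnion, Finset.mem_filter, Finset.mem_univ, true_and] at hx
    obtain ⟨n, hn, hx⟩ := hx
    have hx' : x⁻¹ * (a : G) * x⁻¹⁻¹ = n := by rwa [inv_inv]
    obtain ⟨l, hl, hle⟩ := hD.fusion a ha x⁻¹ (by rw [hx']; exact hn)
    have hz : x * l ∈ Subgroup.centralizer ({(a : G)} : Set G) := by
      rw [Subgroup.mem_centralizer_singleton_iff]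
      calc x * l * (a : G) = x * (l * (a : G) * l⁻¹) * l := by group
        _ = (a : G) * (x * l) := by rw [hle]; group
    have hnorm : cL L (a : G) ≤ Subgroup.normalizer (H (a : G) : Set G) := fun c hc => by
      rw [Subgroup.mem_normalizer_iff]
      exact fun u => ⟨fun hu => hD.conj_mem_H _ ha c hc.2 u hu,
        fun hu => by simpa [mul_assoc] using hD.conj_mem_H _ ha c⁻¹ (inv_mem hc.2) _ hu⟩
    rw [← hD.sup_eq a ha, ← SetLike.mem_coe,
      Subgroup.coe_mul_of_right_le_normalizer_left _ _ hnorm] at hz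
    obtain ⟨h, hh, c, hc, hhc⟩ := Set.mem_mul.mp hz
    refine ⟨(⟨h, hh⟩, ⟨c * l⁻¹, mul_mem hc.1 (inv_mem hl)⟩), Subtype.ext ?_⟩
    show h * (c * l⁻¹) = x
    rw [← mul_assoc, hhc]; group

/-- Sums against the Dade map. -/
theorem sum_dade_mul (hD : Cfsg.DadeHypothesis A L H) {α : L → ℂ}
    (hα : Cfsg.IsClassFunction L α) (hαA : ∀ x : L, (x : G) ∉ A → α x = 0) {f : G → ℂ}
    (hf : Cfsg.IsClassFunction G f) :
    ∑ g : G, Cfsg.dadeIsometry A L H α g * f g =
      (Nat.card G : ℂ) * (Nat.card L : ℂ)⁻¹ *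
        ∑ n : L, α n * ((Nat.card (H n) : ℂ)⁻¹ * ∑ᶠ u ∈ (H n : Set G), f ((n : G) * u)) := by
  classical
  simp only [finsum_mem_eq_finite_toFinset_sum _ (Set.toFinite _)]
  have hL : (Nat.card L : ℂ) ≠ 0 := Nat.cast_ne_zero.mpr Nat.card_pos.ne'
  have key : ∀ y : G, ∑ g : G, (cnt g y : ℂ) * f g = (Nat.card G : ℂ) * f y := by
    intro y
    have h1 : ∀ g : G, (cnt g y : ℂ) * f g = ∑ x : G, if x⁻¹ * g * x = y then f g else 0 := by
      intro g
      rw [← Finset.sum_filter, Finset.sum_const, nsmul_eq_mul, cnt, Nat.card_eq_fintype_card,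
        Fintype.card_subtype]
    simp only [h1]
    rw [Finset.sum_comm, Nat.card_eq_fintype_card, ← Finset.card_univ, ← nsmul_eq_mul,
      ← Finset.sum_const]
    refine Finset.sum_congr rfl fun x _ => ?_
    rw [Finset.sum_eq_single (x * y * x⁻¹)]
    · rw [if_pos (by group), hf]
    · intro g _ hg
      rw [if_neg]
      intro h
      exact hg (by rw [← h]; group)
    · simp
  have h2 : ∀ g, Cfsg.dadeIsometry A L H α g = (Nat.card L : ℂ)⁻¹ * ∑ n : L, α n *
      ((Nat.card (H n) : ℂ)⁻¹ * ∑ u ∈ (Set.toFinite (H n : Set G)).toFinset, (cnt g ((n : G) * u) : ℂ)) := by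
    intro g
    have := card_mul_dade hD hα hαA g
    simp only [finsum_mem_eq_finite_toFinset_sum _ (Set.toFinite _)] at this
    rw [← this, inv_mul_cancel_left₀ hL]
  simp only [h2, Finset.mul_sum, Finset.sum_mul]
  rw [Finset.sum_comm]
  refine Finset.sum_congr rfl fun n _ => ?_
  rw [Finset.sum_comm]
  refine Finset.sum_congr rfl fun u _ => ?_
  rw [show (Nat.card G : ℂ) * (Nat.card L : ℂ)⁻¹ * (α n * ((Nat.card (H n) : ℂ)⁻¹ * f ((n : G) * u))) =
    (Nat.card L : ℂ)⁻¹ * α n * (Nat.card (H n) : ℂ)⁻¹ * ((Nat.card G : ℂ) * f ((n : G) * u)) by ring,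
    ← key, Finset.mul_sum]
  exact Finset.sum_congr rfl fun g _ => by ring

theorem classInner_dade (hD : Cfsg.DadeHypothesis A L H) {α : L → ℂ}
    (hα : Cfsg.IsClassFunction L α) (hαA : ∀ x : L, (x : G) ∉ A → α x = 0) {χ : G → ℂ}
    (hχ : Cfsg.IsClassFunction G χ) {ψ : L → ℂ}
    (hψ : ∀ a : L, (a : G) ∈ A →
      ψ a = (Nat.card (H a) : ℂ)⁻¹ * ∑ᶠ u ∈ (H a : Set G), χ (a * u)) :
    Cfsg.classInner (Cfsg.dadeIsometry A L H α) χ = Cfsg.classInner α ψ := by
  classical
  simp only [classInner_def]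
  rw [sum_dade_mul hD hα hαA (f := fun g => conj (χ g))
    (fun a b => congrArg conj (hχ a b)), ← mul_assoc, ← mul_assoc,
    inv_mul_cancel₀ (Nat.cast_ne_zero.mpr Nat.card_pos.ne'), one_mul]
  congr 1
  refine Finset.sum_congr rfl fun n _ => ?_
  by_cases hn : (n : G) ∈ A
  · rw [hψ n hn]
    simp only [finsum_mem_eq_finite_toFinset_sum _ (Set.toFinite _)]
    rw [map_mul, map_inv₀, Complex.conj_natCast, map_sum]
  · rw [hαA n hn, zero_mul, zero_mul]

theorem classInner_dade_dade (hD : Cfsg.DadeHypothesis A L H) {α β : L → ℂ}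
    (hα : Cfsg.IsClassFunction L α) (hαA : ∀ x : L, (x : G) ∉ A → α x = 0)
    (hβ : Cfsg.IsClassFunction L β) :
    Cfsg.classInner (Cfsg.dadeIsometry A L H α) (Cfsg.dadeIsometry A L H β) =
      Cfsg.classInner α β := by
  classical
  refine classInner_dade hD hα hαA (isClassFunction_dade hD hβ) fun a ha => ?_
  simp only [finsum_mem_eq_finite_toFinset_sum _ (Set.toFinite _)]
  rw [Finset.sum_congr rfl (g := fun _ => β a) fun u hu =>
    dade_apply hD hβ a ha ((Set.Finite.mem_toFinset _).mp hu) (x := 1) (by simp),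
    Finset.sum_const, nsmul_eq_mul, ← Nat.card_eq_card_finite_toFinset]
  exact (inv_mul_cancel_left₀ (Nat.cast_ne_zero.mpr Nat.card_pos.ne') (β a)).symm

end Cfsg.Lib.Dade
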