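import Cfsg.Prelude.Def_OddOrderChar
import Cfsg.Agent.Chars.IrrTools

/-!
# Coherence: linear isometries on integer spans of orthogonal characters
-/

namespace Cfsg.Lib.Coherence

open scoped ComplexConjugate
open Cfsg.Lib.Chars

universe u v

set_option linter.unusedSectionVars false

variable {L : Type u} [Group L] {G : Type v} [Group G]

/-- The combinations vanishing off `A`, as a submodule. -/
def spanOn (S : Set (L → ℂ)) (A : Set L) : Submodule ℤ (L → ℂ) where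
  carrier := Cfsg.zspanOn S A
  zero_mem' := ⟨(Submodule.span ℤ S).zero_mem, fun _ _ => rfl⟩
  add_mem' := fun {a b} ha hb =>
    ⟨(Submodule.span ℤ S).add_mem ha.1 hb.1, fun x hx => by simp [ha.2 x hx, hb.2 x hx]⟩
  smul_mem' := fun n a ha =>
    ⟨(Submodule.span ℤ S).smul_mem n ha.1, fun x hx => by simp [ha.2 x hx]⟩

theorem subset_zspan {S : Set (L → ℂ)} {f : L → ℂ} (h : f ∈ S) : f ∈ Cfsg.zspan S :=
  Submodule.subset_span h

theorem zspan_mono {S T : Set (L → ℂ)} (h : S ⊆ T) {f : L → ℂ} (hf : f ∈ Cfsg.zspan S) :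
    f ∈ Cfsg.zspan T :=
  Submodule.span_mono h hf

theorem mem_one {S : Set (L → ℂ)} {f : L → ℂ} :
    f ∈ Cfsg.zspanOn S {1}ᶜ ↔ f ∈ Cfsg.zspan S ∧ f 1 = 0 := by
  simp [Cfsg.zspanOn]

theorem zspanOn_mono {S T : Set (L → ℂ)} (h : S ⊆ T) {A : Set L} {f : L → ℂ}
    (hf : f ∈ Cfsg.zspanOn S A) : f ∈ Cfsg.zspanOn T A :=
  ⟨zspan_mono h hf.1, hf.2⟩

theorem zspan_gen {S : Set (L → ℂ)} (hS : ∀ s ∈ S, Cfsg.IsGeneralizedCharacter L s) {f : L → ℂ}
    (hf : f ∈ Cfsg.zspan S) : Cfsg.IsGeneralizedCharacter L f :=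
  Submodule.span_induction (p := fun f _ => Cfsg.IsGeneralizedCharacter L f) hS
    isGeneralized_zero (fun _ _ _ _ => IsGeneralizedCharacter.add)
    (fun n _ _ h => IsGeneralizedCharacter.zsmul h n) hf

variable [Fintype L] [Fintype G]

section Linear

variable (E : Submodule ℤ (L → ℂ)) {τ : (L → ℂ) → (G → ℂ)}

theorem map_zero' (hτ : Cfsg.IsLinearIsometryOn (E : Set (L → ℂ)) τ) : τ 0 = 0 := by
  simpa using hτ.2.1 0 E.zero_mem 0

theorem map_sub' (hτ : Cfsg.IsLinearIsometryOn (E : Set (L → ℂ)) τ) {a b : L → ℂ} (ha : a ∈ E)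
    (hb : b ∈ E) : τ (a - b) = τ a - τ b := by
  have h := hτ.1 (a - b) (E.sub_mem ha hb) b hb
  rw [sub_add_cancel] at h
  exact eq_sub_of_add_eq h.symm

theorem map_neg' (hτ : Cfsg.IsLinearIsometryOn (E : Set (L → ℂ)) τ) {a : L → ℂ} (ha : a ∈ E) :
    τ (-a) = -τ a := by
  rw [← zero_sub, map_sub' E hτ E.zero_mem ha, map_zero' E hτ, zero_sub]

end Linear

/-- A linear isometry on an integer span agrees there with any linear map agreeing on generators. -/
theorem eqOn_zspan {S : Set (L → ℂ)} {τ : (L → ℂ) → (G → ℂ)}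
    (hτ : Cfsg.IsLinearIsometryOn (Cfsg.zspan S) τ) (T : (L → ℂ) →ₗ[ℂ] (G → ℂ))
    (h : ∀ φ ∈ S, T φ = τ φ) {f : L → ℂ} (hf : f ∈ Cfsg.zspan S) : T f = τ f := by
  refine Submodule.span_induction (p := fun f _ => T f = τ f) h ?_ ?_ ?_ hf
  · rw [map_zero, map_zero' (Submodule.span ℤ S) hτ]
  · intro a b ha hb h1 h2
    rw [map_add, h1, h2, hτ.1 a ha b hb]
  · intro n a ha h1
    rw [map_zsmul, h1, hτ.2.1 a ha n]

/-- Maps given on an orthogonal set with the same Gram matrix extend to linear isometries. -/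
theorem exists_ext (S : Set (L → ℂ)) (hne : ∀ φ ∈ S, φ ≠ 0)
    (horth : ∀ φ ∈ S, ∀ ψ ∈ S, φ ≠ ψ → Cfsg.classInner φ ψ = 0) (σ : (L → ℂ) → (G → ℂ))
    (hgen : ∀ φ ∈ S, Cfsg.IsGeneralizedCharacter G (σ φ))
    (hgram : ∀ φ ∈ S, ∀ ψ ∈ S, Cfsg.classInner (σ φ) (σ ψ) = Cfsg.classInner φ ψ) :
    ∃ T : (L → ℂ) →ₗ[ℂ] (G → ℂ), (∀ φ ∈ S, T φ = σ φ) ∧
      Cfsg.IsLinearIsometryOn (Cfsg.zspan S) T := by
  classical
  have hli : LinearIndependent ℂ (fun φ : S => (φ : L → ℂ)) := by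
    rw [linearIndependent_iff']
    intro s c hc i hi
    have := congrArg (fun f => Cfsg.classInner f (i : L → ℂ)) hc
    simp only [classInner_sum_left, classInner_smul_left, classInner_zero_left] at this
    rw [Finset.sum_eq_single i
      (fun j _ hj => by rw [horth j j.2 i i.2 (fun h => hj (Subtype.ext h)), mul_zero])
      (fun h => absurd hi h)] at this
    exact (mul_eq_zero.mp this).resolve_right
      (fun h => hne i i.2 ((classInner_self_eq_zero _).mp h))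
  obtain ⟨T, hT⟩ := LinearMap.exists_extend
    ((Module.Basis.span hli).constr ℂ fun φ : S => σ φ)
  have hTS : ∀ φ ∈ S, T φ = σ φ := by
    intro φ hφ
    have h := LinearMap.congr_fun hT (Module.Basis.span hli ⟨φ, hφ⟩)
    rw [Module.Basis.constr_basis, LinearMap.comp_apply, Submodule.subtype_apply,
      Module.Basis.span_apply] at h
    exact h
  refine ⟨T, hTS, fun a _ b _ => map_add T a b, fun a _ n => map_zsmul T n a, ?_, ?_⟩
  · intro a ha b hb
    refine Submodule.span_induction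
      (p := fun a _ => Cfsg.classInner (T a) (T b) = Cfsg.classInner a b) ?_ ?_ ?_ ?_ ha
    · intro φ hφ
      refine Submodule.span_induction
        (p := fun b _ => Cfsg.classInner (T φ) (T b) = Cfsg.classInner φ b) ?_ ?_ ?_ ?_ hb
      · intro ψ hψ; rw [hTS φ hφ, hTS ψ hψ, hgram φ hφ ψ hψ]
      · simp [classInner_zero_right]
      · intro x y _ _ hx hy; simp [classInner_add_right, hx, hy]
      · intro n x _ hx; rw [map_zsmul, classInner_zsmul_right, classInner_zsmul_right, hx]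
    · simp [classInner_zero_left]
    · intro x y _ _ hx hy; simp [classInner_add_left, hx, hy]
    · intro n x _ hx; rw [map_zsmul, classInner_zsmul_left, classInner_zsmul_left, hx]
  · intro a ha
    refine Submodule.span_induction (p := fun a _ => Cfsg.IsGeneralizedCharacter G (T a))
      ?_ ?_ ?_ ?_ ha
    · intro φ hφ; rw [hTS φ hφ]; exact hgen φ hφ
    · rw [map_zero]; exact isGeneralized_zero
    · intro x y _ _ hx hy; rw [map_add]; exact IsGeneralizedCharacter.add hx hy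
    · intro n x _ hx; rw [map_zsmul]; exact IsGeneralizedCharacter.zsmul hx n

/-- Extending a coherent isometry: each new member differs from the old span by an element whose
image has the right inner products with the old image. -/
theorem isCoherent_extend {S₁ S : Set (L → ℂ)} (hsub : S₁ ⊆ S)
    (hgenS : ∀ φ ∈ S, φ ≠ 0)
    (horth : ∀ φ ∈ S, ∀ ψ ∈ S, φ ≠ ψ → Cfsg.classInner φ ψ = 0)
    {τ τ₁ : (L → ℂ) → (G → ℂ)} (hτ : Cfsg.IsLinearIsometryOn (Cfsg.zspanOn S {1}ᶜ) τ)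
    (hτ₁ : Cfsg.IsLinearIsometryOn (Cfsg.zspan S₁) τ₁)
    (hagree : ∀ f ∈ Cfsg.zspanOn S₁ {1}ᶜ, τ₁ f = τ f)
    (h : ∀ t ∈ S, ∃ f ∈ Cfsg.zspan S₁, (t - f) 1 = 0 ∧
      ∀ φ ∈ S₁, Cfsg.classInner (τ (t - f)) (τ₁ φ) = Cfsg.classInner (t - f) φ)
    (hz : ∃ a ∈ Cfsg.zspanOn S {1}ᶜ, a ≠ 0) : Cfsg.IsCoherent S {1}ᶜ τ := by
  classical
  choose! f hf hf1 hfin using h
  have hd : ∀ t ∈ S, t - f t ∈ Cfsg.zspanOn S {1}ᶜ := fun t ht =>
    mem_one.mpr ⟨(Submodule.span ℤ S).sub_mem (subset_zspan ht) (zspan_mono hsub (hf t ht)),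
      hf1 t ht⟩
  have hmix : ∀ t ∈ S, ∀ g ∈ Cfsg.zspan S₁,
      Cfsg.classInner (τ (t - f t)) (τ₁ g) = Cfsg.classInner (t - f t) g := by
    intro t ht g hg
    refine Submodule.span_induction
      (p := fun g _ => Cfsg.classInner (τ (t - f t)) (τ₁ g) = Cfsg.classInner (t - f t) g)
      (hfin t ht) ?_ ?_ ?_ hg
    · rw [map_zero' (Submodule.span ℤ S₁) hτ₁]; simp [classInner_zero_right]
    · intro x y hx hy h1 h2
      rw [hτ₁.1 x hx y hy, classInner_add_right, classInner_add_right, h1, h2]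
    · intro n x hx h1
      rw [hτ₁.2.1 x hx n, classInner_zsmul_right, classInner_zsmul_right, h1]
  have hmix' : ∀ t ∈ S, ∀ g ∈ Cfsg.zspan S₁,
      Cfsg.classInner (τ₁ g) (τ (t - f t)) = Cfsg.classInner g (t - f t) := fun t ht g hg => by
    rw [← classInner_conj_symm, hmix t ht g hg, classInner_conj_symm]
  obtain ⟨T, hT, hTiso⟩ := exists_ext (G := G) S hgenS horth (fun t => τ (t - f t) + τ₁ (f t))
    (fun t ht => IsGeneralizedCharacter.add (hτ.2.2.2 _ (hd t ht)) (hτ₁.2.2.2 _ (hf t ht)))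
    (fun t ht s hs => by
      rw [classInner_add_left, classInner_add_right, classInner_add_right,
        hτ.2.2.1 _ (hd t ht) _ (hd s hs), hmix t ht _ (hf s hs), hmix' s hs _ (hf t ht),
        hτ₁.2.2.1 _ (hf t ht) _ (hf s hs)]
      simp only [classInner_sub_left, classInner_sub_right]
      ring)
  have hT₁ : ∀ φ ∈ S₁, T φ = τ₁ φ := by
    intro φ hφ
    have h1 : φ - f φ ∈ Cfsg.zspanOn S₁ {1}ᶜ := mem_one.mpr
      ⟨(Submodule.span ℤ S₁).sub_mem (subset_zspan hφ) (hf φ (hsub hφ)), hf1 φ (hsub hφ)⟩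
    rw [hT φ (hsub hφ), ← hagree _ h1,
      ← hτ₁.1 _ h1.1 _ (hf φ (hsub hφ)), sub_add_cancel]
  refine ⟨hz, T, hTiso, fun a ha => ?_⟩
  have key : ∃ g ∈ Cfsg.zspan S₁, a - g ∈ Cfsg.zspanOn S {1}ᶜ ∧ T (a - g) = τ (a - g) := by
    refine Submodule.span_induction (p := fun a _ =>
      ∃ g ∈ Cfsg.zspan S₁, a - g ∈ Cfsg.zspanOn S {1}ᶜ ∧ T (a - g) = τ (a - g)) ?_ ?_ ?_ ?_ ha.1
    · intro t ht
      refine ⟨f t, hf t ht, hd t ht, ?_⟩
      rw [map_sub, hT t ht, eqOn_zspan hτ₁ T hT₁ (hf t ht)]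
      abel
    · refine ⟨0, (Submodule.span ℤ S₁).zero_mem, ?_, ?_⟩
      · rw [sub_zero]; exact (spanOn S {1}ᶜ).zero_mem
      · rw [sub_zero, map_zero, map_zero' (spanOn S {1}ᶜ) hτ]
    · rintro x y - - ⟨g, hg, hx, hxe⟩ ⟨g', hg', hy, hye⟩
      refine ⟨g + g', (Submodule.span ℤ S₁).add_mem hg hg', ?_, ?_⟩
      · rw [show x + y - (g + g') = (x - g) + (y - g') by abel]
        exact (spanOn S {1}ᶜ).add_mem hx hy
      · rw [show x + y - (g + g') = (x - g) + (y - g') by abel, map_add, hxe, hye,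
          hτ.1 _ hx _ hy]
    · rintro n x - ⟨g, hg, hx, hxe⟩
      refine ⟨n • g, (Submodule.span ℤ S₁).smul_mem n hg, ?_, ?_⟩
      · rw [← smul_sub]; exact (spanOn S {1}ᶜ).smul_mem n hx
      · rw [← smul_sub, map_zsmul, hxe, hτ.2.1 _ hx n]
  obtain ⟨g, hg, hx, hxe⟩ := key
  have hg1 : g ∈ Cfsg.zspanOn S₁ {1}ᶜ := mem_one.mpr ⟨hg, by
    have h1 := (mem_one.mp hx).2
    have h2 := (mem_one.mp ha).2
    simpa [h2] using h1⟩
  calc T a = T (a - g) + T g := by rw [← map_add, sub_add_cancel]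
    _ = τ (a - g) + τ g := by rw [hxe, eqOn_zspan hτ₁ T hT₁ hg, hagree g hg1]
    _ = τ a := by rw [← hτ.1 _ hx _ (zspanOn_mono hsub hg1), sub_add_cancel]

/-! ## Inner products -/

theorem inner_int {a b : G → ℂ} (ha : Cfsg.IsGeneralizedCharacter G a)
    (hb : Cfsg.IsGeneralizedCharacter G b) : ∃ m : ℤ, Cfsg.classInner a b = m := by
  obtain ⟨c, rfl⟩ := exists_int_decomp hb
  choose m hm using fun χ : Cfsg.IrrCharacter G => IsGeneralizedCharacter.exists_mult ha χ.2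
  refine ⟨∑ χ, c χ * m χ, ?_⟩
  simp [classInner_sum_right, classInner_smul_right, hm]

theorem inner_self_re_nonneg (f : G → ℂ) : 0 ≤ (Cfsg.classInner f f).re := by
  rw [classInner_self, Complex.ofReal_re]; positivity

theorem eq_zero_of_inner_self_re {f : G → ℂ} (h : (Cfsg.classInner f f).re ≤ 0) : f = 0 := by
  have h1 : (Cfsg.classInner f f).re = 0 := le_antisymm h (inner_self_re_nonneg f)
  rw [← classInner_self_eq_zero]
  rw [classInner_self, Complex.ofReal_re] at h1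
  rw [classInner_self, h1, Complex.ofReal_zero]

/-- A real combination of a finite family. -/
noncomputable def comb {ι : Type*} (s : Finset ι) (e : ι → G → ℂ) (y : ι → ℝ) : G → ℂ :=
  ∑ i ∈ s, (y i : ℂ) • e i

theorem comb_gen {ι : Type*} (s : Finset ι) (e : ι → G → ℂ) (y : ι → ℤ)
    (he : ∀ i ∈ s, Cfsg.IsGeneralizedCharacter G (e i)) :
    Cfsg.IsGeneralizedCharacter G (comb s e (fun i => (y i : ℝ))) := by
  refine IsGeneralizedCharacter.sum _ _ fun i hi => ?_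
  simp only [Complex.ofReal_intCast, Int.cast_smul_eq_zsmul]
  exact IsGeneralizedCharacter.zsmul (he i hi) _

theorem inner_comb_comb {ι κ : Type*} (s : Finset ι) (t : Finset κ) {e : ι → G → ℂ}
    {e' : κ → G → ℂ} (h : ∀ i ∈ s, ∀ j ∈ t, Cfsg.classInner (e i) (e' j) = 0) (y : ι → ℝ)
    (z : κ → ℝ) : Cfsg.classInner (comb s e y) (comb t e' z) = 0 := by
  simp only [comb, classInner_sum_left, classInner_sum_right, classInner_smul_left,
    classInner_smul_right]
  exact Finset.sum_eq_zero fun j hj => mul_eq_zero_of_right _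
    (Finset.sum_eq_zero fun i hi => mul_eq_zero_of_right _ (h i hi j hj))

theorem comb_inner_of_orth {ι : Type*} (s : Finset ι) {e : ι → G → ℂ} {f : G → ℂ}
    (h : ∀ i ∈ s, Cfsg.classInner (e i) f = 0) (y : ι → ℝ) :
    Cfsg.classInner (comb s e y) f = 0 := by
  simp only [comb, classInner_sum_left, classInner_smul_left]
  exact Finset.sum_eq_zero fun i hi => by simp [h i hi]

open Classical in
theorem comb_inner {ι : Type*} (s : Finset ι) {e : ι → G → ℂ} {n : ι → ℝ}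
    (h : ∀ i ∈ s, ∀ j ∈ s, Cfsg.classInner (e i) (e j) = if i = j then (n i : ℂ) else 0)
    (y : ι → ℝ) {j : ι} (hj : j ∈ s) :
    Cfsg.classInner (comb s e y) (e j) = (y j : ℂ) * n j := by
  simp only [comb, classInner_sum_left, classInner_smul_left]
  rw [Finset.sum_eq_single j (fun i hi hne => by rw [h i hi j hj, if_neg hne, mul_zero])
    (fun h' => absurd hj h'), h j hj j hj, if_pos rfl]

open Classical in
/-- The orthogonal projection to an orthogonal family, with the norm splitting. -/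
theorem project {ι : Type*} (s : Finset ι) {e : ι → G → ℂ} {n : ι → ℝ} (hn : ∀ i ∈ s, n i ≠ 0)
    (h : ∀ i ∈ s, ∀ j ∈ s, Cfsg.classInner (e i) (e j) = if i = j then (n i : ℂ) else 0)
    {a : G → ℂ} {x : ι → ℝ} (hx : ∀ i ∈ s, Cfsg.classInner a (e i) = x i) :
    (∀ i ∈ s, Cfsg.classInner (a - comb s e fun i => x i / n i) (e i) = 0) ∧
      (Cfsg.classInner a a).re = ∑ i ∈ s, x i ^ 2 / n i +
        (Cfsg.classInner (a - comb s e fun i => x i / n i)
          (a - comb s e fun i => x i / n i)).re := by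
  set y : ι → ℝ := fun i => x i / n i with hy
  set V := comb s e y with hV
  have hzero : ∀ i ∈ s, Cfsg.classInner (a - V) (e i) = 0 := fun i hi => by
    rw [classInner_sub_left, hx i hi, hV, comb_inner s h y hi, hy, ← Complex.ofReal_mul,
      div_mul_cancel₀ _ (hn i hi), sub_self]
  refine ⟨hzero, ?_⟩
  have h1 : Cfsg.classInner (a - V) V = 0 := by
    rw [hV]
    simp only [comb, classInner_sum_right, classInner_smul_right]
    exact Finset.sum_eq_zero fun i hi => mul_eq_zero_of_right _ (hzero i hi)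
  have h2 : Cfsg.classInner V (a - V) = 0 := by rw [← classInner_conj_symm, h1, map_zero]
  have h3 : Cfsg.classInner V V = ((∑ i ∈ s, x i ^ 2 / n i : ℝ) : ℂ) := by
    rw [Complex.ofReal_sum]
    conv_lhs => arg 2; rw [hV, comb]
    rw [classInner_sum_right]
    refine Finset.sum_congr rfl fun i hi => ?_
    rw [classInner_smul_right, Complex.conj_ofReal, hV, comb_inner s h y hi, hy,
      ← Complex.ofReal_mul, ← Complex.ofReal_mul]
    congr 1
    have := hn i hi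
    field_simp
  calc (Cfsg.classInner a a).re
      = (Cfsg.classInner ((a - V) + V) ((a - V) + V)).re := by rw [sub_add_cancel]
    _ = _ := by
      rw [classInner_add_left, classInner_add_right, classInner_add_right, h1, h2, h3]
      simp only [zero_add, add_zero, Complex.add_re, Complex.ofReal_re]
      exact add_comm _ _

/-! ## Coherence systems -/

variable {S : Set (L → ℂ)} {τ : (L → ℂ) → (G → ℂ)} {R : (L → ℂ) → Finset (G → ℂ)}

theorem conjFun_conjFun (χ : L → ℂ) : Cfsg.conjFun (Cfsg.conjFun χ) = χ := by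
  funext x; simp [Cfsg.conjFun]

theorem classInner_conjFun (φ ψ : L → ℂ) :
    Cfsg.classInner (Cfsg.conjFun φ) (Cfsg.conjFun ψ) = conj (Cfsg.classInner φ ψ) := by
  simp [classInner_def, Cfsg.conjFun, map_sum]

theorem sys_ne_zero (hS : Cfsg.IsCoherenceSystem S τ R) {χ : L → ℂ} (hχ : χ ∈ S) : χ ≠ 0 :=
  fun h => hS.conj_ne χ hχ (by rw [h]; funext x; simp [Cfsg.conjFun])

theorem sys_norm (hS : Cfsg.IsCoherenceSystem S τ R) {χ : L → ℂ} (hχ : χ ∈ S) :
    ∃ m : ℕ, 0 < m ∧ Cfsg.classInner χ χ = m := by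
  have hg := IsCharacter.isGeneralized (hS.isCharacter χ hχ)
  obtain ⟨m, hm⟩ := inner_int hg hg
  have h0 : 0 ≤ m := by
    have := inner_self_re_nonneg χ
    rw [hm] at this
    simpa using this
  have h1 : m ≠ 0 := fun h => sys_ne_zero hS hχ ((classInner_self_eq_zero χ).mp (by simp [hm, h]))
  lift m to ℕ using h0
  exact ⟨m, by omega, by simpa using hm⟩

theorem sys_conj_norm (hS : Cfsg.IsCoherenceSystem S τ R) {χ : L → ℂ} (hχ : χ ∈ S) :
    Cfsg.classInner (Cfsg.conjFun χ) (Cfsg.conjFun χ) = Cfsg.classInner χ χ := by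
  rw [classInner_conjFun, classInner_conj_symm]

theorem conj_apply_one {χ : L → ℂ} (hχ : Cfsg.IsCharacter L χ) : Cfsg.conjFun χ 1 = χ 1 := by
  obtain ⟨n, hn⟩ := IsCharacter.apply_one hχ
  simp [Cfsg.conjFun, hn]

theorem sub_conj_mem (hS : Cfsg.IsCoherenceSystem S τ R) {χ : L → ℂ} (hχ : χ ∈ S) :
    χ - Cfsg.conjFun χ ∈ Cfsg.zspanOn S {1}ᶜ :=
  mem_one.mpr ⟨(Submodule.span ℤ S).sub_mem (subset_zspan hχ) (subset_zspan (hS.conj_mem χ hχ)),
    by simp [conj_apply_one (hS.isCharacter χ hχ)]⟩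

theorem sys_card (hS : Cfsg.IsCoherenceSystem S τ R) {χ : L → ℂ} (hχ : χ ∈ S) {m : ℕ}
    (hm : Cfsg.classInner χ χ = m) : (R χ).card = 2 * m := by
  classical
  have h := hS.isometry.2.2.1 _ (sub_conj_mem hS hχ) _ (sub_conj_mem hS hχ)
  rw [hS.sum_eq χ hχ] at h
  simp only [classInner_sum_left, classInner_sum_right] at h
  rw [Finset.sum_comm, Finset.sum_congr rfl (fun α hα => Finset.sum_congr rfl
    (fun β hβ => hS.orthonormal χ hχ α hα β hβ))] at h
  have hne := hS.conj_ne χ hχ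
  simp [classInner_sub_left, classInner_sub_right, sys_conj_norm hS hχ, hm,
    hS.orthogonal χ hχ _ (hS.conj_mem χ hχ) hne.symm,
    hS.orthogonal _ (hS.conj_mem χ hχ) χ hχ hne] at h
  have h2 : ((R χ).card : ℂ) = ((2 * m : ℕ) : ℂ) := by push_cast; rw [h]; ring
  exact_mod_cast h2

/-- The part of `a` along `R χ`, for coefficients `c`. -/
noncomputable def part (P : Finset (G → ℂ)) (c : (G → ℂ) → ℤ) : G → ℂ :=
  comb P id fun α => (c α : ℝ)

/-- Integer projection to the orthonormal set attached to a member. -/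
theorem sys_proj (hS : Cfsg.IsCoherenceSystem S τ R) {χ : L → ℂ} (hχ : χ ∈ S) {a : G → ℂ}
    (ha : Cfsg.IsGeneralizedCharacter G a) :
    ∃ c : (G → ℂ) → ℤ, (∀ α ∈ R χ, Cfsg.classInner a α = c α) ∧
      ((∑ α ∈ R χ, c α : ℤ) : ℂ) = Cfsg.classInner a (τ (χ - Cfsg.conjFun χ)) ∧
      (∀ α ∈ R χ, Cfsg.classInner (a - part (R χ) c) α = 0) ∧
      (Cfsg.classInner a a).re = ((∑ α ∈ R χ, c α ^ 2 : ℤ) : ℝ) +
        (Cfsg.classInner (a - part (R χ) c) (a - part (R χ) c)).re := by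
  classical
  choose! c hc using fun α (hα : α ∈ R χ) => inner_int ha (hS.virtual χ hχ α hα)
  have h := project (R χ) (e := id) (n := fun _ => 1) (fun _ _ => one_ne_zero)
    (fun α hα β hβ => by simpa using hS.orthonormal χ hχ α hα β hβ) (a := a)
    (x := fun α => (c α : ℝ)) (fun α hα => by simpa using hc α hα)
  simp only [div_one] at h
  refine ⟨c, hc, ?_, h.1, ?_⟩
  · rw [hS.sum_eq χ hχ, classInner_sum_right, Int.cast_sum]
    exact Finset.sum_congr rfl fun α hα => (hc α hα).symm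
  · rw [h.2, Int.cast_sum]
    simp only [Int.cast_pow]
    rfl

theorem sum_le_sum_sq {ι : Type*} (s : Finset ι) (c : ι → ℤ) :
    ∑ i ∈ s, c i ≤ ∑ i ∈ s, c i ^ 2 :=
  Finset.sum_le_sum fun i _ => by nlinarith [Int.le_self_sq (c i)]

theorem zero_one_of_sum_sq_le {ι : Type*} {s : Finset ι} {c : ι → ℤ}
    (h : ∑ i ∈ s, c i ^ 2 ≤ ∑ i ∈ s, c i) {i : ι} (hi : i ∈ s) : c i = 0 ∨ c i = 1 := by
  have h1 : c i ^ 2 = c i := by
    have h2 := (Finset.sum_eq_sum_iff_of_le (f := c) (g := fun i => c i ^ 2)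
      fun j _ => Int.le_self_sq (c j)).mp (le_antisymm (sum_le_sum_sq s c) h) i hi
    exact h2.symm
  have h3 : c i * (c i - 1) = 0 := by linear_combination h1
  rcases mul_eq_zero.mp h3 with h4 | h4 <;> omega

/-- An element of norm at most its inner product with `τ (χ - conj χ)` lies in the span of `R χ`. -/
theorem sys_tight (hS : Cfsg.IsCoherenceSystem S τ R) {χ : L → ℂ} (hχ : χ ∈ S) {a : G → ℂ}
    (ha : Cfsg.IsGeneralizedCharacter G a) {m : ℤ}
    (hsum : Cfsg.classInner a (τ (χ - Cfsg.conjFun χ)) = m)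
    (hnorm : (Cfsg.classInner a a).re ≤ m) :
    (Cfsg.classInner a a).re = m ∧ ∃ c : (G → ℂ) → ℤ, a = part (R χ) c := by
  obtain ⟨c, hc, hs, -, hN⟩ := sys_proj hS hχ ha
  rw [hsum] at hs
  have hs' : (∑ α ∈ R χ, c α) = m := by exact_mod_cast hs
  have h1 := sum_le_sum_sq (R χ) c
  rw [hs'] at h1
  have h1' : (m : ℝ) ≤ ((∑ α ∈ R χ, c α ^ 2 : ℤ) : ℝ) := by exact_mod_cast h1
  have h2 := inner_self_re_nonneg (a - part (R χ) c)
  refine ⟨by linarith, c, sub_eq_zero.mp (eq_zero_of_inner_self_re ?_)⟩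
  linarith

theorem part_orth (hS : Cfsg.IsCoherenceSystem S τ R) {χ φ : L → ℂ} (hχ : χ ∈ S) (hφ : φ ∈ S)
    (h1 : φ ≠ χ) (h2 : φ ≠ Cfsg.conjFun χ) (c : (G → ℂ) → ℤ) {β : G → ℂ} (hβ : β ∈ R χ) :
    Cfsg.classInner (part (R φ) c) β = 0 :=
  comb_inner_of_orth _ (fun α hα => hS.disjoint χ hχ φ hφ (hS.orthogonal φ hφ χ hχ h1)
    (hS.orthogonal φ hφ _ (hS.conj_mem χ hχ) h2) α hα β hβ) _

end Cfsg.Lib.Coherence

namespace Cfsg.Lib.Coherence

open scoped ComplexConjugate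
open Cfsg.Lib.Chars

universe u v

variable {L : Type u} [Group L] [Fintype L] {G : Type v} [Group G] [Fintype G]
  {S : Set (L → ℂ)} {τ : (L → ℂ) → (G → ℂ)} {R : (L → ℂ) → Finset (G → ℂ)}

set_option linter.unusedSectionVars false

theorem part_part (hS : Cfsg.IsCoherenceSystem S τ R) {χ : L → ℂ} (hχ : χ ∈ S)
    (c d : (G → ℂ) → ℤ) :
    Cfsg.classInner (part (R χ) c) (part (R χ) d) = ((∑ α ∈ R χ, c α * d α : ℤ) : ℂ) := by
  classical
  conv_lhs => arg 2; rw [part, comb]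
  rw [classInner_sum_right, Int.cast_sum]
  refine Finset.sum_congr rfl fun α hα => ?_
  have h := comb_inner (R χ) (e := id) (n := fun _ => 1)
    (fun α hα β hβ => by simpa using hS.orthonormal χ hχ α hα β hβ) (fun α => (c α : ℝ)) hα
  rw [classInner_smul_right, part]
  simp only [id] at h ⊢
  rw [h]
  push_cast
  simp [mul_comm]

theorem part_gen (hS : Cfsg.IsCoherenceSystem S τ R) {χ : L → ℂ} (hχ : χ ∈ S)
    (c : (G → ℂ) → ℤ) : Cfsg.IsGeneralizedCharacter G (part (R χ) c) :=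
  comb_gen _ _ _ fun α hα => hS.virtual χ hχ α hα

theorem part_tau (hS : Cfsg.IsCoherenceSystem S τ R) {χ φ : L → ℂ} (hχ : χ ∈ S) (hφ : φ ∈ S)
    (h1 : φ ≠ χ) (h2 : φ ≠ Cfsg.conjFun χ) (c : (G → ℂ) → ℤ) :
    Cfsg.classInner (part (R φ) c) (τ (χ - Cfsg.conjFun χ)) = 0 := by
  rw [hS.sum_eq χ hχ, classInner_sum_right]
  exact Finset.sum_eq_zero fun β hβ => part_orth hS hχ hφ h1 h2 c hβ

theorem part_congr {P : Finset (G → ℂ)} {c d : (G → ℂ) → ℤ} (h : ∀ α ∈ P, c α = d α) :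
    part P c = part P d :=
  Finset.sum_congr rfl fun α hα => by simp only [h α hα]

theorem ne_symm_conj {χ φ : L → ℂ} (h : φ ≠ Cfsg.conjFun χ) : χ ≠ Cfsg.conjFun φ :=
  fun he => h (by rw [he, conjFun_conjFun])

theorem apply_one_ne_zero' (hS : Cfsg.IsCoherenceSystem S τ R) {χ : L → ℂ} (hχ : χ ∈ S) :
    χ 1 ≠ 0 :=
  fun h => sys_ne_zero hS hχ (eq_zero_of_apply_one (hS.isCharacter χ hχ) h)

/-- The difference of two members of equal degree splits over the two orthonormal sets. -/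
theorem split_diff (hS : Cfsg.IsCoherenceSystem S τ R) {χ φ : L → ℂ} (hχ : χ ∈ S) (hφ : φ ∈ S)
    (h1 : φ ≠ χ) (h2 : φ ≠ Cfsg.conjFun χ) (hdeg : χ 1 = φ 1) {n : ℕ}
    (hn : Cfsg.classInner χ χ = n) :
    ∃ c d : (G → ℂ) → ℤ, (∀ α ∈ R χ, Cfsg.classInner (τ (χ - φ)) α = c α) ∧
      ∑ α ∈ R χ, c α = n ∧ ∑ α ∈ R χ, c α ^ 2 ≤ n ∧
      τ (χ - φ) = part (R χ) c - part (R φ) d := by
  have hmem : χ - φ ∈ Cfsg.zspanOn S {1}ᶜ :=
    mem_one.mpr ⟨(Submodule.span ℤ S).sub_mem (subset_zspan hχ) (subset_zspan hφ), by simp [hdeg]⟩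
  obtain ⟨m, -, hm⟩ := sys_norm hS hφ
  obtain ⟨c, hc, hs, -, hN⟩ := sys_proj hS hχ (hS.isometry.2.2.2 _ hmem)
  have hA : Cfsg.classInner (τ (χ - φ)) (τ (χ - Cfsg.conjFun χ)) = n := by
    rw [hS.isometry.2.2.1 _ hmem _ (sub_conj_mem hS hχ), classInner_sub_left, classInner_sub_right,
      classInner_sub_right, hn, hS.orthogonal φ hφ χ hχ h1,
      hS.orthogonal φ hφ _ (hS.conj_mem χ hχ) h2,
      hS.orthogonal χ hχ _ (hS.conj_mem χ hχ) (hS.conj_ne χ hχ).symm]
    ring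
  have hsum : ∑ α ∈ R χ, c α = n := by
    rw [hA] at hs
    exact_mod_cast hs
  have hA2 : Cfsg.classInner (τ (χ - φ)) (τ (φ - Cfsg.conjFun φ)) = -(m : ℂ) := by
    rw [hS.isometry.2.2.1 _ hmem _ (sub_conj_mem hS hφ), classInner_sub_left, classInner_sub_right,
      classInner_sub_right, hm, hS.orthogonal χ hχ φ hφ h1.symm,
      hS.orthogonal χ hχ _ (hS.conj_mem φ hφ) (ne_symm_conj h2),
      hS.orthogonal φ hφ _ (hS.conj_mem φ hφ) (hS.conj_ne φ hφ).symm]
    ring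
  have hN0 : (Cfsg.classInner (τ (χ - φ)) (τ (χ - φ))).re = n + m := by
    rw [hS.isometry.2.2.1 _ hmem _ hmem, classInner_sub_left, classInner_sub_right,
      classInner_sub_right, hn, hm, hS.orthogonal χ hχ φ hφ h1.symm,
      hS.orthogonal φ hφ χ hχ h1]
    simp
  have hle := sum_le_sum_sq (R χ) c
  rw [hsum] at hle
  have hle' : (n : ℝ) ≤ ((∑ α ∈ R χ, c α ^ 2 : ℤ) : ℝ) := by exact_mod_cast hle
  set r := part (R χ) c - τ (χ - φ) with hr
  have hrn : (Cfsg.classInner r r).re =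
      (Cfsg.classInner (τ (χ - φ) - part (R χ) c) (τ (χ - φ) - part (R χ) c)).re := by
    rw [hr, ← neg_sub (τ (χ - φ)), classInner_neg_left, classInner_neg_right, neg_neg]
  obtain ⟨heq, d, hd⟩ := sys_tight hS hφ (a := r) (m := m)
    (IsGeneralizedCharacter.sub (part_gen hS hχ c) (hS.isometry.2.2.2 _ hmem))
    (by rw [hr, classInner_sub_left, part_tau hS hφ hχ h1.symm (ne_symm_conj h2), hA2]; simp)
    (by rw [hrn]; push_cast; linarith)
  refine ⟨c, d, hc, hsum, ?_, by rw [← hd, hr, sub_sub_cancel]⟩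
  have : ((∑ α ∈ R χ, c α ^ 2 : ℤ) : ℝ) ≤ n := by push_cast at heq ⊢; push_cast at hN; linarith
  exact_mod_cast this

end Cfsg.Lib.Coherence
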