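import Cfsg.Agent.OddChar.NilpotentExtend
import Cfsg.Agent.S1517
import Cfsg.Agent.Chars.Count

/-!
# Coherence of the characters of a Frobenius-like kernel
-/

set_option linter.unusedSectionVars false
set_option linter.style.haveILetI false

namespace Cfsg.Lib.InducedFamily

open Cfsg.Lib.Chars
open scoped commutatorElement

universe u v

variable {L : Type u} [Group L] [Fintype L] {G : Type v} [Group G] [Fintype G] {K : Subgroup L} [K.Normal]
  {τ : (L → ℂ) → (G → ℂ)} {R : (L → ℂ) → Finset (G → ℂ)}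

/-- A subsystem closed under conjugation is again a coherence system. -/
theorem system_mono {S T : Set (L → ℂ)} (hS : Cfsg.IsCoherenceSystem S τ R) (hTS : T ⊆ S) (hne : T.Nonempty)
    (hc : ∀ φ ∈ T, Cfsg.conjFun φ ∈ T) : Cfsg.IsCoherenceSystem T τ R where
  nonempty := hne
  isCharacter χ hχ := hS.isCharacter χ (hTS hχ)
  conj_mem := hc
  conj_ne χ hχ := hS.conj_ne χ (hTS hχ)
  isometry :=
    ⟨fun a ha b hb => hS.isometry.1 a (Cfsg.Lib.Coherence.zspanOn_mono hTS ha) b
        (Cfsg.Lib.Coherence.zspanOn_mono hTS hb),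
      fun a ha => hS.isometry.2.1 a (Cfsg.Lib.Coherence.zspanOn_mono hTS ha),
      fun a ha b hb => hS.isometry.2.2.1 a (Cfsg.Lib.Coherence.zspanOn_mono hTS ha) b
        (Cfsg.Lib.Coherence.zspanOn_mono hTS hb),
      fun a ha => hS.isometry.2.2.2 a (Cfsg.Lib.Coherence.zspanOn_mono hTS ha)⟩
  map_one a ha := hS.map_one a (Cfsg.Lib.Coherence.zspanOn_mono hTS ha)
  orthogonal χ hχ φ hφ := hS.orthogonal χ (hTS hχ) φ (hTS hφ)
  orthonormal χ hχ := hS.orthonormal χ (hTS hχ)
  virtual χ hχ := hS.virtual χ (hTS hχ)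
  sum_eq χ hχ := hS.sum_eq χ (hTS hχ)
  disjoint χ hχ φ hφ := hS.disjoint χ (hTS hχ) φ (hTS hφ)

/-- The members over the derived subgroup have equal degree, hence are coherent. -/
theorem coherent_above_derived (hsolv : Group.IsSolvable K)
    (hS : Cfsg.IsCoherenceSystem (Cfsg.inducedIrrAbove K ⊥) τ R) (H₁ : Subgroup L) [H₁.Normal]
    (hder : ⁅K, K⁆ ≤ H₁) (hH₁K : H₁ < K) :
    Cfsg.IsCoherent (Cfsg.inducedIrrAbove K H₁) {1}ᶜ τ := by
  classical
  obtain ⟨χ₁, hχ₁, -⟩ := exists_minimal hsolv H₁ hH₁K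
  refine Cfsg.Agent.S1517.result _ τ R (system_mono hS (above_subset H₁) ⟨χ₁, hχ₁⟩
    fun φ hφ => conj_mem_above H₁ hφ) ?_
  have key : ∀ φ ∈ Cfsg.inducedIrrAbove K H₁, φ 1 = (K.index : ℂ) := by
    rintro φ ⟨θ, hθ, -, hker, rfl⟩
    letI : Fintype K := Fintype.ofFinite _
    have hb := deg_sq_le_index hθ ⊤ fun z _ g => hker _ (hder (by
      simpa [commutatorElement_def] using Subgroup.commutator_mem_commutator z.2 g.2))
    rw [Subgroup.index_top] at hb
    have hpos := deg_irr_pos ⟨θ, hθ⟩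
    have h1 : deg θ = 1 := by
      have := (pow_le_one_iff (n := 2) two_ne_zero).mp hb
      exact le_antisymm this hpos
    rw [indFun_one, IsCharacter.apply_one_eq_deg (isCharacter_of_irr hθ), h1, Nat.cast_one, mul_one]
  intro φ hφ ψ hψ
  rw [key φ hφ, key ψ hψ]

/-- In a group with centralisers inside the normal subgroup `K`, the orders of the normal subgroups
inside `K` are congruent to `1` modulo the index. -/
theorem index_dvd_card_sub_one {Q : Type u} [Group Q] [Fintype Q] (K N : Subgroup Q) [N.Normal]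
    (hNK : N ≤ K) (hC : ∀ k ∈ K, k ≠ 1 → Subgroup.centralizer ({k} : Set Q) ≤ K) :
    K.index ∣ Nat.card N - 1 := by
  classical
  set s : Finset Q := Finset.univ.filter fun n => n ∈ N ∧ n ≠ 1
  have hs : s.card + 1 = Nat.card N := by
    have : insert (1 : Q) s = Finset.univ.filter (fun n => n ∈ N) := by
      ext n
      by_cases h : n = 1 <;> simp [s, h, N.one_mem]
    rw [Nat.card_eq_fintype_card, Fintype.card_subtype, ← this, Finset.card_insert_of_notMem (by simp [s])]
  rw [← hs, Nat.add_sub_cancel]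
  rw [Finset.card_eq_sum_card_image ConjClasses.mk s]
  refine Finset.dvd_sum fun c hc => ?_
  obtain ⟨g, hg, rfl⟩ := Finset.mem_image.mp hc
  obtain ⟨-, hgN, hg1⟩ := Finset.mem_filter.mp hg
  have hfib : (s.filter fun n => ConjClasses.mk n = ConjClasses.mk g).card = Nat.card {x : Q // IsConj g x} := by
    rw [Nat.card_eq_fintype_card, Fintype.card_subtype]
    congr 1
    ext n
    simp only [s, Finset.mem_filter, Finset.mem_univ, true_and, ConjClasses.mk_eq_mk_iff_isConj]
    constructor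
    · exact fun h => h.2.symm
    · intro h
      obtain ⟨c, rfl⟩ := isConj_iff.mp h
      exact ⟨⟨Subgroup.Normal.conj_mem inferInstance g hgN c, by simpa using hg1⟩, h.symm⟩
  rw [hfib]
  have h1 : Subgroup.centralizer ({g} : Set Q) ≤ K := hC g (hNK hgN) hg1
  have h2 : Nat.card {x : Q // IsConj g x} * Nat.card (Subgroup.centralizer ({g} : Set Q)) = Nat.card Q :=
    card_isConj_mul g
  rw [← (Subgroup.centralizer ({g} : Set Q)).card_mul_index, mul_comm] at h2
  rw [Nat.eq_of_mul_eq_mul_left Nat.card_pos h2]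
  exact Subgroup.index_dvd_of_le h1

/-- In a finite nilpotent group a subgroup covering the abelianisation is everything. -/
theorem eq_top_of_sup_commutator {Q : Type u} [Group Q] [Finite Q] [Group.IsNilpotent Q] (U : Subgroup Q)
    (hU : U ⊔ commutator Q = ⊤) : U = ⊤ := by
  rcases eq_top_or_exists_le_coatom U with h | ⟨C, hC, hUC⟩
  · exact h
  exfalso
  haveI : C.Normal := Subgroup.NormalizerCondition.normal_of_coatom C Group.normalizerCondition_of_isNilpotent hC
  obtain ⟨x, -, hx⟩ := SetLike.exists_of_lt (lt_top_iff_ne_top.mpr hC.1)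
  have hgen : C ⊔ Subgroup.zpowers x = ⊤ :=
    hC.2 _ (lt_of_le_not_ge le_sup_left fun h => hx (h (Subgroup.mem_sup_right (Subgroup.mem_zpowers x))))
  have hle : commutator Q ≤ C := by
    rw [_root_.commutator_def, Subgroup.commutator_le]
    intro a _ b _
    have hq : ∀ g : Q, ∃ i : ℤ, QuotientGroup.mk' C g = QuotientGroup.mk' C x ^ i := by
      intro g
      obtain ⟨c, hc, z, hz, rfl⟩ := Subgroup.mem_sup_of_normal_left.mp (hgen.ge (Subgroup.mem_top g))
      obtain ⟨i, rfl⟩ := Subgroup.mem_zpowers_iff.mp hz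
      exact ⟨i, by rw [map_mul, map_zpow, show QuotientGroup.mk' C c = 1 from
        (QuotientGroup.eq_one_iff c).mpr hc, one_mul]⟩
    refine (QuotientGroup.eq_one_iff _).mp ?_
    show QuotientGroup.mk' C ⁅a, b⁆ = 1
    obtain ⟨i, hi⟩ := hq a
    obtain ⟨j, hj⟩ := hq b
    rw [map_commutatorElement, hi, hj, commutatorElement_eq_one_iff_mul_comm, ← zpow_add, ← zpow_add, add_comm]
  exact hC.1 (top_le_iff.mp (hU ▸ sup_le hUC hle))

theorem coherent_kernel (hsolv : Group.IsSolvable K) (hS : Cfsg.IsCoherenceSystem (Cfsg.inducedIrrAbove K ⊥) τ R)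
    (hodd : Odd (Nat.card L)) (M : Subgroup L) [M.Normal] (hMK : M ≤ K) [(M.subgroupOf K).Normal]
    (hnil : Group.IsNilpotent (↥K ⧸ M.subgroupOf K)) (H₁ : Subgroup L) (hH₁ : H₁ = ⁅K, K⁆ ⊔ M) (hH₁K : H₁ < K)
    (hfrob : ∀ k ∈ K, k ∉ H₁ → ∀ x : L, x * k * x⁻¹ * k⁻¹ ∈ H₁ → x ∈ K)
    (hgood : (∃ N : Subgroup L, N.Normal ∧ H₁ < N ∧ N < K) ∨ 4 * K.index ^ 2 + 1 < H₁.relIndex K ∨
      (¬ ∃ p m : ℕ, p.Prime ∧ M.relIndex K = p ^ m) ∨ ⁅K, K⁆ ≤ M ∨
      (∃ p m : ℕ, p.Prime ∧ M.relIndex K = p ^ m ∧ K.index ∣ p - 1)) :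
    Cfsg.IsCoherent (Cfsg.inducedIrrAbove K M) {1}ᶜ τ := by
  classical
  haveI : H₁.Normal := by rw [hH₁]; infer_instance
  have hMH₁ : M ≤ H₁ := hH₁ ▸ le_sup_right
  have hder : ⁅K, K⁆ ≤ H₁ := hH₁ ▸ le_sup_left
  have hcoh := coherent_above_derived hsolv hS H₁ hder hH₁K
  by_cases hab : ⁅K, K⁆ ≤ M
  · rwa [hH₁, sup_eq_right.mpr hab] at hcoh
  refine coherent_nilpotent_section hsolv hS M H₁ K hMH₁ hH₁K.le le_rfl hnil hcoh ?_
  set e := K.index with he
  have he0 : 0 < e := Nat.pos_of_ne_zero K.index_ne_zero_of_finite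
  have heodd : Odd e := hodd.of_dvd_nat (Subgroup.index_dvd_card K)
  -- the congruences
  have hsq : 4 * e ^ 2 + 1 < (2 * e + 1) * (2 * e + 1) := by nlinarith
  have harith : ∀ a : ℕ, e ∣ a - 1 → Odd a → a ≠ 1 → 2 * e + 1 ≤ a := by
    intro a hd ha h1
    obtain ⟨t, ht⟩ := hd
    obtain ⟨c, hc⟩ := heodd
    obtain ⟨d, hd'⟩ := ha
    rcases t with _ | _ | t
    · omega
    · omega
    · rw [Nat.mul_add, Nat.mul_add] at ht
      omega
  have hdvdN : ∀ N : Subgroup L, N.Normal → H₁ ≤ N → N ≤ K → e ∣ H₁.relIndex N - 1 := by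
    intro N hN hlt hNK
    set π := QuotientGroup.mk' H₁
    have hπ := QuotientGroup.mk'_surjective H₁
    haveI : (N.map π).Normal := hN.map π hπ
    letI : Fintype (L ⧸ H₁) := Fintype.ofFinite _
    have hind : (K.map π).index = e := by
      rw [he, ← (K.map π).index_comap_of_surjective hπ, Subgroup.comap_map_eq, QuotientGroup.ker_mk',
        sup_eq_left.mpr hH₁K.le]
    have hC : ∀ k ∈ K.map π, k ≠ 1 → Subgroup.centralizer ({k} : Set (L ⧸ H₁)) ≤ K.map π := by
      rintro _ ⟨k, hk, rfl⟩ hk1 y hy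
      obtain ⟨x, rfl⟩ := hπ y
      refine ⟨x, hfrob k hk (fun h => hk1 ((QuotientGroup.eq_one_iff k).mpr h)) x ?_, rfl⟩
      rw [← QuotientGroup.eq_one_iff]
      show π (x * k * x⁻¹ * k⁻¹) = 1
      change π x ∈ _ at hy
      rw [map_mul, map_mul, map_mul, map_inv, map_inv, Subgroup.mem_centralizer_singleton_iff.mp hy]
      group
    have hdvd := index_dvd_card_sub_one (K.map π) (N.map π) (Subgroup.map_mono hNK) hC
    have hcard : Nat.card (N.map π) = H₁.relIndex N := by
      rw [← Subgroup.relIndex_ker, QuotientGroup.ker_mk']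
    rwa [hind, hcard] at hdvd
  have hodd' : ∀ A B : Subgroup L, Odd (A.relIndex B) := fun A B =>
    hodd.of_dvd_nat ((Subgroup.relIndex_dvd_card A B).trans (Subgroup.card_subgroup_dvd_card B))
  have hmid : (∃ N : Subgroup L, N.Normal ∧ H₁ < N ∧ N < K) → 4 * e ^ 2 + 1 < H₁.relIndex K := by
    rintro ⟨N, hN, h1, h2⟩
    have hd := Subgroup.relIndex_mul_relIndex H₁ N K h1.le h2.le
    rw [← hd]
    have hNa := hdvdN N hN h1.le h2.le
    have hKa := hdvdN K inferInstance hH₁K.le le_rfl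
    rw [← hd] at hKa
    set a := H₁.relIndex N
    set b := N.relIndex K
    have ha1 : a ≠ 1 := fun h => h1.not_ge (Subgroup.relIndex_eq_one.mp h)
    have hb1 : b ≠ 1 := fun h => h2.not_ge (Subgroup.relIndex_eq_one.mp h)
    have ha0 : a ≠ 0 := Subgroup.index_ne_zero_of_finite
    have hb0 : b ≠ 0 := Subgroup.index_ne_zero_of_finite
    have hmodb : e ∣ b - 1 := by
      rw [← Nat.modEq_iff_dvd' (by omega)]
      have e1 : 1 ≡ a [MOD e] := (Nat.modEq_iff_dvd' (by omega)).mpr hNa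
      have e2 : 1 ≡ a * b [MOD e] :=
        (Nat.modEq_iff_dvd' (Nat.mul_pos (Nat.pos_of_ne_zero ha0) (Nat.pos_of_ne_zero hb0))).mpr hKa
      have e3 := e1.mul_right b
      rw [one_mul] at e3
      exact e2.trans e3.symm
    exact hsq.trans_le (Nat.mul_le_mul (harith a hNa (hodd' H₁ N) ha1) (harith b hmodb (hodd' N K) hb1))
  -- the nilpotent quotient
  set B := M.subgroupOf K
  set π := QuotientGroup.mk' B with hπdef
  have hπ := QuotientGroup.mk'_surjective B
  haveI := hnil
  have hH₁sub : H₁.subgroupOf K = (commutator (↥K ⧸ B)).comap π := by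
    rw [show commutator (↥K ⧸ B) = (commutator K).map π by
      rw [_root_.commutator_def, _root_.commutator_def, Subgroup.map_commutator,
        Subgroup.map_top_of_surjective _ hπ], Subgroup.comap_map_eq, QuotientGroup.ker_mk', hH₁,
      Subgroup.subgroupOf_sup (Subgroup.commutator_le_self K) hMK, ← Subgroup.map_subtype_commutator K,
      Subgroup.subgroupOf, Subgroup.comap_map_eq_self_of_injective K.subtype_injective]
  have hrel : H₁.relIndex K = (commutator (↥K ⧸ B)).index := by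
    rw [Subgroup.relIndex, hH₁sub, Subgroup.index_comap_of_surjective _ hπ]
  set m := H₁.relIndex K
  have hm1 : m ≠ 1 := fun h => hH₁K.not_ge (Subgroup.relIndex_eq_one.mp h)
  have hm0 : m ≠ 0 := Subgroup.index_ne_zero_of_finite
  have hmM : m ∣ M.relIndex K := Subgroup.relIndex_dvd_of_le_left K hMH₁
  -- if `[K : H₁]` is not a prime power there is an intermediate normal subgroup
  have hsplit : (∀ p : ℕ, p.Prime → ¬ ∃ k, m = p ^ k) → ∃ N : Subgroup L, N.Normal ∧ H₁ < N ∧ N < K := by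
    intro hnp
    set p := m.minFac
    have hp : p.Prime := Nat.minFac_prime hm1
    set n := p ^ m.factorization p with hn
    set H' := H₁.subgroupOf K
    haveI : H'.Normal := inferInstance
    have hab' : ∀ x y : ↥K ⧸ H', x * y = y * x := by
      intro x y
      obtain ⟨a, rfl⟩ := QuotientGroup.mk'_surjective H' x
      obtain ⟨b, rfl⟩ := QuotientGroup.mk'_surjective H' y
      rw [← commutatorElement_eq_one_iff_mul_comm, ← map_commutatorElement]
      exact (QuotientGroup.eq_one_iff _).mpr (hder (by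
        simpa [commutatorElement_def] using Subgroup.commutator_mem_commutator a.2 b.2))
    letI : CommGroup (↥K ⧸ H') := { (inferInstance : Group (↥K ⧸ H')) with mul_comm := hab' }
    set Q : Subgroup L := ((powMonoidHom n).ker.comap (QuotientGroup.mk' H')).map K.subtype
    have hQ : ∀ x, x ∈ Q ↔ ∃ hx : x ∈ K, x ^ n ∈ H₁ := by
      intro x
      constructor
      · rintro ⟨y, hy, rfl⟩
        refine ⟨y.2, ?_⟩
        have : QuotientGroup.mk' H' (y ^ n) = 1 := by rw [map_pow]; exact hy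
        exact Subgroup.mem_subgroupOf.mp ((QuotientGroup.eq_one_iff (y ^ n)).mp this)
      · rintro ⟨hx, h⟩
        refine ⟨⟨x, hx⟩, ?_, rfl⟩
        show QuotientGroup.mk' H' ⟨x, hx⟩ ^ n = 1
        rw [← map_pow]
        exact (QuotientGroup.eq_one_iff _).mpr h
    haveI : Fact p.Prime := ⟨hp⟩
    have hcardH : Nat.card (↥K ⧸ H') = m := rfl
    refine ⟨Q, ⟨fun x hx g => ?_⟩, lt_of_le_of_ne (fun x hx => (hQ x).mpr ⟨hH₁K.le hx, pow_mem hx n⟩) ?_,
      lt_of_le_of_ne (fun x hx => ((hQ x).mp hx).1) ?_⟩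
    · obtain ⟨hxK, hxn⟩ := (hQ x).mp hx
      refine (hQ _).mpr ⟨Subgroup.Normal.conj_mem inferInstance x hxK g, ?_⟩
      rw [conj_pow]
      exact Subgroup.Normal.conj_mem inferInstance _ hxn g
    · intro hEq
      obtain ⟨q, hq⟩ := exists_prime_orderOf_dvd_card' (G := ↥K ⧸ H') p (hcardH ▸ Nat.minFac_dvd m)
      obtain ⟨y, rfl⟩ := QuotientGroup.mk'_surjective H' q
      have hy : (y : L) ∈ Q := by
        refine (hQ _).mpr ⟨y.2, ?_⟩
        have : QuotientGroup.mk' H' (y ^ n) = 1 := by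
          rw [map_pow, ← orderOf_dvd_iff_pow_eq_one, hq, hn]
          exact dvd_pow_self p (hp.factorization_pos_of_dvd hm0 (Nat.minFac_dvd m)).ne'
        exact Subgroup.mem_subgroupOf.mp ((QuotientGroup.eq_one_iff (y ^ n)).mp this)
      rw [← hEq] at hy
      have : QuotientGroup.mk' H' y = 1 := (QuotientGroup.eq_one_iff y).mpr hy
      rw [this, orderOf_one] at hq
      exact hp.ne_one hq.symm
    · intro hEq
      obtain ⟨q, hq, hqd, hqp⟩ : ∃ q : ℕ, q.Prime ∧ q ∣ m ∧ q ≠ p := by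
        by_contra hno
        push Not at hno
        exact hnp p hp ⟨_, Nat.eq_prime_pow_of_unique_prime_dvd hm0 fun {d} hd hdm => hno d hd hdm⟩
      haveI : Fact q.Prime := ⟨hq⟩
      obtain ⟨z, hz⟩ := exists_prime_orderOf_dvd_card' (G := ↥K ⧸ H') q (hcardH ▸ hqd)
      obtain ⟨y, rfl⟩ := QuotientGroup.mk'_surjective H' z
      have hyQ : (y : L) ∈ Q := hEq.symm ▸ y.2
      obtain ⟨-, hyn⟩ := (hQ (y : L)).mp hyQ
      have : QuotientGroup.mk' H' (y ^ n) = 1 := (QuotientGroup.eq_one_iff _).mpr hyn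
      rw [map_pow, ← orderOf_dvd_iff_pow_eq_one, hz, hn] at this
      exact hqp ((Nat.prime_dvd_prime_iff_eq hq hp).mp (hq.dvd_of_dvd_pow this))
  by_cases hpp : ∀ p : ℕ, p.Prime → ¬ ∃ k, m = p ^ k
  · exact hmid (hsplit hpp)
  push Not at hpp
  obtain ⟨p, hp, k, hk⟩ := hpp
  haveI : Fact p.Prime := ⟨hp⟩
  -- then `K / M` is a `p`-group
  have hKp : ∃ l, M.relIndex K = p ^ l := by
    obtain ⟨P⟩ : Nonempty (Sylow p (↥K ⧸ B)) := inferInstance
    have htop : (P : Subgroup (↥K ⧸ B)) = ⊤ := by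
      refine eq_top_of_sup_commutator _ (Subgroup.index_eq_one.mp (Nat.dvd_one.mp ?_))
      have d1 := Subgroup.index_dvd_of_le (le_sup_left : (P : Subgroup (↥K ⧸ B)) ≤ ↑P ⊔ commutator _)
      have d2 := Subgroup.index_dvd_of_le (le_sup_right : commutator (↥K ⧸ B) ≤ ↑P ⊔ commutator _)
      rw [← hrel, hk] at d2
      have hcop : Nat.Coprime (P : Subgroup (↥K ⧸ B)).index (p ^ k) :=
        ((hp.coprime_iff_not_dvd.mpr P.not_dvd_index).symm).pow_right k
      exact hcop ▸ Nat.dvd_gcd d1 d2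
    obtain ⟨l, hl⟩ := IsPGroup.iff_card.mp P.2
    rw [htop, Subgroup.card_top] at hl
    exact ⟨l, hl⟩
  rcases hgood with h | h | h | h | h
  · exact hmid h
  · exact h
  · obtain ⟨l, hl⟩ := hKp
    exact absurd ⟨p, l, hp, hl⟩ h
  · exact absurd h hab
  obtain ⟨p', l, hp', hl, hediv⟩ := h
  have hpp' : p = p' := by
    have : p ∣ p' ^ l := hl ▸ (dvd_trans (by
      rcases k with _ | k
      · exact absurd hk hm1
      · exact hk ▸ dvd_pow_self p k.succ_ne_zero) hmM)
    exact (Nat.prime_dvd_prime_iff_eq hp hp').mp (hp.dvd_of_dvd_pow this)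
  rw [← hpp'] at hediv
  have hk2 : 2 ≤ k := by
    by_contra hk'
    have hk1 : k = 1 := by
      rcases k with _ | _ | k
      · exact absurd hk hm1
      · rfl
      · omega
    rw [hk1, pow_one] at hk
    refine hab ?_
    -- the abelianisation of `K / M` is cyclic
    have hidx : (commutator (↥K ⧸ B)).index = p := hrel ▸ hk
    obtain ⟨x, -, hx⟩ := SetLike.exists_of_lt (lt_top_iff_ne_top.mpr
      (fun h => hp.ne_one (by rw [← hidx, h, Subgroup.index_top]) : commutator (↥K ⧸ B) ≠ ⊤))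
    have htop : Subgroup.zpowers x = ⊤ := by
      refine eq_top_of_sup_commutator _ ?_
      have hd := Subgroup.index_dvd_of_le (le_sup_right : commutator (↥K ⧸ B) ≤ Subgroup.zpowers x ⊔ commutator _)
      rw [hidx] at hd
      rcases hp.eq_one_or_self_of_dvd _ hd with h | h
      · exact Subgroup.index_eq_one.mp h
      · exfalso
        have heq : commutator (↥K ⧸ B) = Subgroup.zpowers x ⊔ commutator _ := by
          refine le_antisymm le_sup_right (Subgroup.relIndex_eq_one.mp ?_)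
          have := Subgroup.relIndex_mul_index (le_sup_right : commutator (↥K ⧸ B) ≤ Subgroup.zpowers x ⊔ commutator _)
          rw [h, hidx] at this
          exact (mul_eq_right₀ hp.ne_zero).mp this
        exact hx (heq ▸ Subgroup.mem_sup_left (Subgroup.mem_zpowers x))
    haveI : IsCyclic (↥K ⧸ B) := ⟨⟨x, fun y => htop.ge (Subgroup.mem_top y)⟩⟩
    rw [Subgroup.commutator_le]
    intro a ha b hb
    have h1 : π ⁅(⟨a, ha⟩ : K), ⟨b, hb⟩⁆ = 1 := by
      letI : CommGroup (↥K ⧸ B) := IsCyclic.commGroup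
      rw [map_commutatorElement, commutatorElement_eq_one_iff_mul_comm]
      exact mul_comm _ _
    have h2 := (QuotientGroup.eq_one_iff _).mp h1
    simpa [B, Subgroup.mem_subgroupOf, commutatorElement_def] using h2
  have h2e : 2 * e + 1 ≤ p := by
    obtain ⟨t, ht⟩ := hediv
    obtain ⟨a, ha⟩ := heodd
    have hpodd : Odd p := hodd.of_dvd_nat (((hk ▸ dvd_pow_self p (by omega)) : p ∣ m).trans
      ((Subgroup.relIndex_dvd_card H₁ K).trans (Subgroup.card_subgroup_dvd_card K)))
    obtain ⟨b, hb⟩ := hpodd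
    have := hp.two_le
    rcases t with _ | _ | t
    · omega
    · omega
    · rw [Nat.mul_add, Nat.mul_add] at ht
      omega
  calc 4 * e ^ 2 + 1 < (2 * e + 1) * (2 * e + 1) := hsq
    _ ≤ p * p := Nat.mul_le_mul h2e h2e
    _ = p ^ 2 := (sq p).symm
    _ ≤ p ^ k := Nat.pow_le_pow_right hp.pos hk2
    _ = m := hk.symm

end Cfsg.Lib.InducedFamily
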