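import Cfsg.Agent.Chars.Core
import Cfsg.Agent.Chars.Galois

/-!
# Linear characters of abelian groups
-/

namespace Cfsg.Lib.Dual

open scoped ComplexConjugate
open Cfsg.Lib.Chars

universe u

variable {A : Type u} [Group A] [Finite A]

instance instFiniteHom : Finite (A →* ℂˣ) :=
  Finite.of_injective (fun f : A →* ℂˣ =>
    (⟨fun w => (f w : ℂ), isIrrCharacter_linear f⟩ : Cfsg.IrrCharacter A))
    fun _ _ h => MonoidHom.ext fun w => Units.ext (congrFun (congrArg Subtype.val h) w)

/-- The character of a homomorphism. -/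
def ev (ω : A →* ℂˣ) : A → ℂ := fun w => (ω w : ℂ)

theorem ev_mul (ω ω' : A →* ℂˣ) : ev (ω * ω') = fun w => ev ω w * ev ω' w := by
  funext w; simp [ev]

theorem ev_injective {ω ω' : A →* ℂˣ} (h : ev ω = ev ω') : ω = ω' :=
  MonoidHom.ext fun w => Units.ext (congrFun h w)

theorem isIrr_ev (ω : A →* ℂˣ) : Cfsg.IsIrrCharacter A (ev ω) := isIrrCharacter_linear ω

theorem classInner_ev [Fintype A] [DecidableEq (A →* ℂˣ)] (ω ω' : A →* ℂˣ) :
    Cfsg.classInner (ev ω) (ev ω') = if ω = ω' then 1 else 0 := by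
  classical
  rw [classInner_irrChar (isIrr_ev ω) (isIrr_ev ω')]
  exact if_congr ⟨ev_injective, fun h => by rw [h]⟩ rfl rfl

/-- Irreducible characters of an abelian group are homomorphisms. -/
noncomputable def homEquivIrr (hA : ∀ a b : A, a * b = b * a) :
    (A →* ℂˣ) ≃ Cfsg.IrrCharacter A :=
  Equiv.ofBijective (fun f => ⟨ev f, isIrr_ev f⟩)
    ⟨fun _ _ h => ev_injective (congrArg Subtype.val h), fun χ => by
      obtain ⟨f, hf⟩ := exists_hom_of_deg_one (isCharacter_of_irr χ.2) (irr_deg_one_of_comm hA χ.2)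
      exact ⟨f, Subtype.ext hf.symm⟩⟩

theorem card_hom (hA : ∀ a b : A, a * b = b * a) : Nat.card (A →* ℂˣ) = Nat.card A := by
  rw [Nat.card_congr (homEquivIrr hA), card_irrCharacter]
  refine (Nat.card_congr (Equiv.ofBijective ConjClasses.mk
    ⟨fun a b h => ?_, ConjClasses.mk_surjective⟩)).symm
  obtain ⟨c, hc⟩ := ConjClasses.mk_eq_mk_iff_isConj.mp h
  have h' : (c : A) * a = b * c := hc
  rw [hA (c : A) a] at h'
  exact mul_right_cancel h'

theorem exists_hom_ne_one (hA : ∀ a b : A, a * b = b * a) {a : A} (ha : a ≠ 1) :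
    ∃ f : A →* ℂˣ, f a ≠ 1 := by
  by_contra h
  push Not at h
  refine ha (isConj_one_left.mp ((isConj_iff_forall_irr a 1).mpr fun χ => ?_))
  obtain ⟨f, rfl⟩ := (homEquivIrr hA).surjective χ
  show ev f a = ev f 1
  simp [ev, h f]

/-- Fourier expansion of a function on an abelian group. -/
theorem expand [Fintype A] [Fintype (A →* ℂˣ)] (hA : ∀ a b : A, a * b = b * a) (g : A → ℂ) (w : A) :
    g w = ∑ ω : A →* ℂˣ, Cfsg.classInner g (ev ω) * ev ω w := by
  rw [classFunction_expand_apply (fun a b => congrArg g (by rw [hA b a, mul_inv_cancel_right])) w,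
    ← Equiv.sum_comp (homEquivIrr hA)]
  rfl

end Cfsg.Lib.Dual
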