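import Mathlib.Data.Finset.Card
import Mathlib.Data.Fintype.Card
import Mathlib.Data.Fintype.Prod

/-!
# Grids of signed triples

The combinatorial lemma behind the isometry attached to a self-normalising cyclic subgroup: a grid
of triples of signed symbols in which two cells on a line share exactly one signed symbol and two
cells not on a line share either nothing or one symbol with equal and one with opposite signs is
made of a symbol per row, a symbol per column and a private symbol per cell, provided there are at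
least four columns.
-/

namespace Cfsg.Lib.Grid

universe u v w

variable {ι : Type u} {I : Type v} {J : Type w}

/-- The opposite signed symbol. -/
def opp (s : ι × Bool) : ι × Bool := (s.1, !s.2)

@[simp] theorem opp_opp (s : ι × Bool) : opp (opp s) = s := by simp [opp]

theorem eq_or_eq_opp {s t : ι × Bool} (h : s.1 = t.1) : s = t ∨ s = opp t := by
  obtain ⟨a, b⟩ := s; obtain ⟨c, d⟩ := t
  cases b <;> cases d <;> simp_all [opp]

theorem opp_injective {s t : ι × Bool} (h : opp s = opp t) : s = t := by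
  rw [← opp_opp s, h, opp_opp]

/-- A triple of signed symbols. -/
def Valid (A : Finset (ι × Bool)) : Prop := A.card = 3 ∧ ∀ a ∈ A, opp a ∉ A

/-- Exactly one common signed symbol, and no opposite ones. -/
def One (A B : Finset (ι × Bool)) : Prop :=
  (∃ a, a ∈ A ∧ a ∈ B) ∧ (∀ a b, a ∈ A → a ∈ B → b ∈ A → b ∈ B → a = b) ∧ ∀ a ∈ A, opp a ∉ B

/-- A common signed symbol comes with an opposite one and conversely. -/
def Zero (A B : Finset (ι × Bool)) : Prop :=
  ((∃ a, a ∈ A ∧ a ∈ B) ↔ ∃ a, a ∈ A ∧ opp a ∈ B) ∧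
    ∀ a b, a ∈ A → a ∈ B → b ∈ A → b ∈ B → a = b

theorem One.symm {A B : Finset (ι × Bool)} (h : One A B) : One B A :=
  ⟨h.1.imp fun _ h => ⟨h.2, h.1⟩, fun a b h1 h2 h3 h4 => h.2.1 a b h2 h1 h4 h3,
    fun a ha hb => h.2.2 (opp a) hb (by rwa [opp_opp])⟩

theorem Zero.symm {A B : Finset (ι × Bool)} (h : Zero A B) : Zero B A := by
  refine ⟨⟨fun ⟨a, h1, h2⟩ => ?_, fun ⟨a, h1, h2⟩ => ?_⟩,
    fun a b h1 h2 h3 h4 => h.2 a b h2 h1 h4 h3⟩
  · obtain ⟨b, hb1, hb2⟩ := h.1.mp ⟨a, h2, h1⟩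
    exact ⟨opp b, hb2, by rwa [opp_opp]⟩
  · obtain ⟨b, hb1, hb2⟩ := h.1.mpr ⟨opp a, h2, by rwa [opp_opp]⟩
    exact ⟨b, hb2, hb1⟩

theorem mem_triple {A : Finset (ι × Bool)} (hA : Valid A) {a b c : ι × Bool} (ha : a ∈ A)
    (hb : b ∈ A) (hc : c ∈ A) (hab : a ≠ b) (hac : a ≠ c) (hbc : b ≠ c) {s : ι × Bool}
    (hs : s ∈ A) : s = a ∨ s = b ∨ s = c := by
  classical
  have hsub : ({a, b, c} : Finset (ι × Bool)) ⊆ A := by
    simp [Finset.subset_iff, ha, hb, hc]
  have h3 : ({a, b, c} : Finset (ι × Bool)).card = 3 := by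
    rw [Finset.card_eq_three]; exact ⟨a, b, c, hab, hac, hbc, rfl⟩
  have := Finset.eq_of_subset_of_card_le hsub (by rw [hA.1, h3])
  rw [← this] at hs
  simpa using hs

theorem no_four {A : Finset (ι × Bool)} (hA : Valid A) {a b c d : ι × Bool} (ha : a ∈ A)
    (hb : b ∈ A) (hc : c ∈ A) (hd : d ∈ A) (hab : a ≠ b) (hac : a ≠ c) (had : a ≠ d) (hbc : b ≠ c)
    (hbd : b ≠ d) (hcd : c ≠ d) : False := by
  rcases mem_triple hA ha hb hc hab hac hbc hd with h | h | h
  exacts [had h.symm, hbd h.symm, hcd h.symm]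

theorem exists_third {A : Finset (ι × Bool)} (hA : Valid A) {a b : ι × Bool} (ha : a ∈ A)
    (hb : b ∈ A) (hab : a ≠ b) :
    ∃ c, c ∈ A ∧ a ≠ c ∧ b ≠ c ∧ ∀ s, s ∈ A ↔ s = a ∨ s = b ∨ s = c := by
  classical
  obtain ⟨c, hc⟩ : ((A.erase a).erase b).Nonempty := Finset.card_pos.mp (by
    rw [Finset.card_erase_of_mem (Finset.mem_erase.mpr ⟨hab.symm, hb⟩),
      Finset.card_erase_of_mem ha, hA.1]
    decide)
  simp only [Finset.mem_erase] at hc
  refine ⟨c, hc.2.2, hc.2.1.symm, hc.1.symm, fun s =>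
    ⟨mem_triple hA ha hb hc.2.2 hab hc.2.1.symm hc.1.symm, ?_⟩⟩
  rintro (rfl | rfl | rfl) <;> [exact ha; exact hb; exact hc.2.2]

/-- The hypotheses on a grid. -/
structure IsGrid (β : I → J → Finset (ι × Bool)) : Prop where
  valid : ∀ i j, Valid (β i j)
  row : ∀ i j l, j ≠ l → One (β i j) (β i l)
  col : ∀ i k j, i ≠ k → One (β i j) (β k j)
  diag : ∀ i k j l, i ≠ k → j ≠ l → Zero (β i j) (β k l)

variable {β : I → J → Finset (ι × Bool)}

/-- The configuration in which two opposite corners share one of the signed symbols that the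
other corners do not share. -/
theorem grid_case_b (hβ : IsGrid β) {i i' : I} (hii : i ≠ i') {j k l m : J} (hjk : j ≠ k)
    (hjl : j ≠ l) (hkl : k ≠ l) (hjm : j ≠ m) (hkm : k ≠ m) (hlm : l ≠ m) {x y : ι × Bool}
    (hx : x ∈ β i j) (hx' : x ∈ β i' k) (hy : y ∈ β i j) (hy' : opp y ∈ β i' k)
    (hx1 : x ∈ β i k) (hx2 : x ∉ β i' j) : False := by
  have hii' := hii.symm
  have hyx : y ≠ x := fun h => (hβ.valid i' k).2 x hx' (h ▸ hy')
  obtain ⟨z, hz, hxz, hyz, hA⟩ := exists_third (hβ.valid i j) hx hy hyx.symm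
  have hxy' : x ≠ opp y := fun h => (hβ.valid i j).2 y hy (h ▸ hx)
  obtain ⟨w, hw, hxw, hyw, hB⟩ := exists_third (hβ.valid i' k) hx' hy' hxy'
  -- the corner without `x` holds the third symbols of both
  have hz' : z ∈ β i' j := by
    obtain ⟨a, ha, ha'⟩ := (hβ.col i i' j hii).1
    rcases (hA a).mp ha with rfl | rfl | rfl
    · exact absurd ha' hx2
    · exact absurd hy' ((hβ.row i' j k hjk).2.2 _ ha')
    · exact ha'
  have hw' : w ∈ β i' j := by
    obtain ⟨a, ha, ha'⟩ := (hβ.row i' j k hjk).1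
    rcases (hB a).mp ha' with rfl | rfl | rfl
    · exact absurd ha hx2
    · exact absurd ha ((hβ.col i i' j hii).2.2 _ hy)
    · exact ha
  have hzw : z ≠ w := fun h => hxz ((hβ.diag i i' j k hii hjk).2 x z hx hx' hz (h ▸ hw))
  obtain ⟨t, ht, hzt, hwt, hD⟩ := exists_third (hβ.valid i' j) hz' hw' hzw
  -- the possible cells in a further column
  have step : ∀ n, j ≠ n → k ≠ n →
      (x ∈ β i n ∧ opp w ∈ β i n ∧ t ∈ β i n) ∨ (z ∈ β i n ∧ opp t ∈ β i n) := by
    intro n hjn hkn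
    have hrA := hβ.row i n j hjn.symm
    have hrC := hβ.row i n k hkn.symm
    have hdB := hβ.diag i i' n k hii hkn.symm
    have hdD := hβ.diag i i' n j hii hjn.symm
    have hnv := hβ.valid i n
    by_cases hxn : x ∈ β i n
    · left
      have hyn : y ∉ β i n := fun h => hyx.symm (hrA.2.1 x y hxn hx h hy)
      have hzn : z ∉ β i n := fun h => hxz (hrA.2.1 x z hxn hx h hz)
      have hwn : opp w ∈ β i n := by
        obtain ⟨a, ha, ha'⟩ := hdB.1.mp ⟨x, hxn, hx'⟩
        rcases (hB _).mp ha' with h | h | h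
        · exact absurd ha (by rw [← opp_opp a, h]; exact hnv.2 x hxn)
        · exact absurd ha (by rw [opp_injective h]; exact hyn)
        · rwa [← opp_opp a, h] at ha
      refine ⟨hxn, hwn, ?_⟩
      obtain ⟨a, ha, ha'⟩ := hdD.1.mpr ⟨opp w, hwn, by rwa [opp_opp]⟩
      rcases (hD _).mp ha' with rfl | rfl | rfl
      · exact absurd ha hzn
      · exact absurd hwn (hnv.2 _ ha)
      · exact ha
    · right
      have hopp : opp w ∈ β i n → opp y ∈ β i n ∨ w ∈ β i n := fun h => by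
        obtain ⟨a, ha, ha'⟩ := hdB.1.mpr ⟨opp w, h, by rwa [opp_opp]⟩
        rcases (hB _).mp ha' with rfl | rfl | rfl
        · exact absurd ha hxn
        · exact Or.inl ha
        · exact Or.inr ha
      obtain ⟨a, ha, haA⟩ := hrA.1
      rcases (hA _).mp haA with rfl | rfl | rfl
      · exact absurd ha hxn
      · -- `y` forces `w`, then `opp t`, and a fourth symbol from the last corner
        exfalso
        have hwn : w ∈ β i n := by
          obtain ⟨b, hb, hb'⟩ := hdB.1.mpr ⟨a, ha, hy'⟩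
          rcases (hB _).mp hb' with rfl | rfl | rfl
          · exact absurd hb hxn
          · exact absurd hb (hnv.2 _ ha)
          · exact hb
        have htn : opp t ∈ β i n := by
          obtain ⟨b, hb, hb'⟩ := hdD.1.mp ⟨w, hwn, hw'⟩
          rcases (hD _).mp hb' with h | h | h
          · exact absurd (show opp b ∈ β i j by rw [h]; exact hz) (hrA.2.2 b hb)
          · exact absurd hwn (by rw [← h]; exact hnv.2 b hb)
          · rwa [← opp_opp b, h] at hb
        obtain ⟨c, hc, hc'⟩ := hrC.1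
        refine no_four hnv ha hwn htn hc ?_ ?_ ?_ ?_ ?_ ?_
        · intro h; exact (hβ.valid i' k).2 w hw (by rw [← h]; exact hy')
        · intro h
          have : opp a ∈ β i' j := by rw [h, opp_opp]; exact ht
          exact (hβ.col i i' j hii).2.2 a hy this
        · rintro rfl
          exact hyx ((hβ.row i j k hjk).2.1 a x hy hc' hx hx1)
        · intro h; exact (hβ.valid i' j).2 w hw' (by rw [h, opp_opp]; exact ht)
        · rintro rfl
          exact hxw ((hβ.col i i' k hii).2.1 x w hx1 hx' hc' hw)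
        · intro h
          have htc : opp t ∈ β i k := h ▸ hc'
          obtain ⟨e, he, he'⟩ := (hβ.diag i i' k j hii hjk.symm).1.mpr ⟨opp t, htc, by rwa [opp_opp]⟩
          rcases (hD _).mp he' with rfl | rfl | rfl
          · exact hxz ((hβ.row i j k hjk).2.1 x e hx hx1 hz he)
          · exact hxw ((hβ.col i i' k hii).2.1 x e hx1 hx' he hw)
          · exact (hβ.valid i k).2 e he htc
      · refine ⟨ha, ?_⟩
        obtain ⟨b, hb, hb'⟩ := hdD.1.mp ⟨a, ha, hz'⟩
        rcases (hD _).mp hb' with h | h | h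
        · exact absurd ha (by rw [← h]; exact hnv.2 b hb)
        · have hwn : opp w ∈ β i n := by rwa [← opp_opp b, h] at hb
          exfalso
          rcases hopp hwn with h' | h'
          · exact hrA.2.2 _ h' (by rwa [opp_opp])
          · exact hnv.2 _ h' hwn
        · rwa [← opp_opp b, h] at hb
  have hlm' := hβ.row i l m hlm
  rcases step l hjl hkl with ⟨h1, h2, h3⟩ | ⟨h1, h2⟩ <;>
    rcases step m hjm hkm with ⟨g1, g2, g3⟩ | ⟨g1, g2⟩
  · have := hlm'.2.1 x (opp w) h1 g1 h2 g2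
    exact (hβ.valid i' k).2 x hx' (by rw [this, opp_opp]; exact hw)
  · exact hlm'.2.2 t h3 g2
  · exact hlm'.symm.2.2 t g3 h2
  · have := hlm'.2.1 z (opp t) h1 g1 h2 g2
    exact (hβ.valid i' j).2 t ht (this ▸ hz')

/-- The cells of a row in a further column, when all four corners share `x`. -/
theorem grid_row (hβ : IsGrid β) {i i' : I} (hii : i ≠ i') {j k n m : J} (hjk : j ≠ k)
    (hjn : j ≠ n) (hkn : k ≠ n) (hjm : j ≠ m) (hkm : k ≠ m) (hnm : n ≠ m)
    {x y z w u v v' : ι × Bool} (hA : ∀ s, s ∈ β i j ↔ s = x ∨ s = y ∨ s = z)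
    (hB : ∀ s, s ∈ β i' k ↔ s = x ∨ s = opp y ∨ s = w)
    (hC : ∀ s, s ∈ β i k ↔ s = x ∨ s = u ∨ s = v)
    (hD : ∀ s, s ∈ β i' j ↔ s = x ∨ s = opp u ∨ s = v')
    (hxy : x ≠ y) (hxz : x ≠ z) (hxw : x ≠ w) (hxu : x ≠ u) (hxv : x ≠ v) :
    (y ∈ β i n ∧ v ∈ β i n ∧ w ∈ β i n) ∨ (z ∈ β i n ∧ u ∈ β i n ∧ v' ∈ β i n) ∨
      (z ∈ β i n ∧ v ∈ β i n) := by
  have hxA : x ∈ β i j := (hA x).mpr (Or.inl rfl)
  have hxB : x ∈ β i' k := (hB x).mpr (Or.inl rfl)
  have hxC : x ∈ β i k := (hC x).mpr (Or.inl rfl)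
  have hxD : x ∈ β i' j := (hD x).mpr (Or.inl rfl)
  have hy : y ∈ β i j := (hA y).mpr (Or.inr (Or.inl rfl))
  have hw : w ∈ β i' k := (hB w).mpr (Or.inr (Or.inr rfl))
  have hu : u ∈ β i k := (hC u).mpr (Or.inr (Or.inl rfl))
  have hv' : v' ∈ β i' j := (hD v').mpr (Or.inr (Or.inr rfl))
  have rA : ∀ a, a ∈ β i j → a ∈ β i k → a = x := fun a h1 h2 =>
    (hβ.row i j k hjk).2.1 a x h1 h2 hxA hxC
  have rB : ∀ a, a ∈ β i' j → a ∈ β i' k → a = x := fun a h1 h2 =>
    (hβ.row i' j k hjk).2.1 a x h1 h2 hxD hxB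
  have cJ : ∀ a, a ∈ β i j → a ∈ β i' j → a = x := fun a h1 h2 =>
    (hβ.col i i' j hii).2.1 a x h1 h2 hxA hxD
  have cK : ∀ a, a ∈ β i k → a ∈ β i' k → a = x := fun a h1 h2 =>
    (hβ.col i i' k hii).2.1 a x h1 h2 hxC hxB
  have dA : ∀ a, a ∈ β i j → a ∈ β i' k → a = x := fun a h1 h2 =>
    (hβ.diag i i' j k hii hjk).2 a x h1 h2 hxA hxB
  have dC : ∀ a, a ∈ β i k → a ∈ β i' j → a = x := fun a h1 h2 =>
    (hβ.diag i i' k j hii hjk.symm).2 a x h1 h2 hxC hxD
  -- a cell of row `i` either has `x`, or is one of three kinds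
  have step : ∀ n, j ≠ n → k ≠ n → (x ∈ β i n ∧ opp w ∈ β i n ∧ opp v' ∈ β i n) ∨
      (x ∉ β i n ∧ ((y ∈ β i n ∧ v ∈ β i n ∧ w ∈ β i n) ∨
        (z ∈ β i n ∧ u ∈ β i n ∧ v' ∈ β i n) ∨ (z ∈ β i n ∧ v ∈ β i n))) := by
    intro n hjn hkn
    have hrA := hβ.row i n j hjn.symm
    have hrC := hβ.row i n k hkn.symm
    have hdB := hβ.diag i i' n k hii hkn.symm
    have hdD := hβ.diag i i' n j hii hjn.symm
    have hnv := hβ.valid i n
    by_cases hxn : x ∈ β i n
    · left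
      refine ⟨hxn, ?_, ?_⟩
      · obtain ⟨a, ha, ha'⟩ := hdB.1.mp ⟨x, hxn, hxB⟩
        rcases (hB _).mp ha' with h | h | h
        · exact absurd hxn (by rw [← h]; exact hnv.2 a ha)
        · rw [opp_injective h] at ha
          exact absurd (hrA.2.1 x y hxn hxA ha hy) hxy
        · rwa [← opp_opp a, h] at ha
      · obtain ⟨a, ha, ha'⟩ := hdD.1.mp ⟨x, hxn, hxD⟩
        rcases (hD _).mp ha' with h | h | h
        · exact absurd hxn (by rw [← h]; exact hnv.2 a ha)
        · rw [opp_injective h] at ha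
          exact absurd (hrC.2.1 x u hxn hxC ha hu) hxu
        · rwa [← opp_opp a, h] at ha
    · right
      refine ⟨hxn, ?_⟩
      obtain ⟨a, ha, haA⟩ := hrA.1
      obtain ⟨c, hc, hcC⟩ := hrC.1
      have hyw' : y ∈ β i n → w ∈ β i n := fun h => by
        obtain ⟨b, hb, hb'⟩ := hdB.1.mpr ⟨y, h, (hB _).mpr (Or.inr (Or.inl rfl))⟩
        rcases (hB _).mp hb' with rfl | rfl | rfl
        · exact absurd hb hxn
        · exact absurd hb (hnv.2 _ h)
        · exact hb
      have huv'' : u ∈ β i n → v' ∈ β i n := fun h => by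
        obtain ⟨b, hb, hb'⟩ := hdD.1.mpr ⟨u, h, (hD _).mpr (Or.inr (Or.inl rfl))⟩
        rcases (hD _).mp hb' with rfl | rfl | rfl
        · exact absurd hb hxn
        · exact absurd hb (hnv.2 _ h)
        · exact hb
      rcases (hA _).mp haA with rfl | rfl | rfl
      · exact absurd ha hxn
      · rcases (hC _).mp hcC with rfl | rfl | rfl
        · exact absurd hc hxn
        · exfalso
          refine no_four hnv ha (hyw' ha) hc (huv'' hc) ?_ ?_ ?_ ?_ ?_ ?_
          · rintro rfl; exact hxy (dA _ hy hw).symm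
          · rintro rfl; exact hxy (rA _ hy hu).symm
          · rintro rfl; exact hxy (cJ _ hy hv').symm
          · rintro rfl; exact hxw (cK _ hu hw).symm
          · rintro rfl; exact hxw (rB _ hv' hw).symm
          · rintro rfl; exact hxu (dC _ hu hv').symm
        · exact Or.inl ⟨ha, hc, hyw' ha⟩
      · rcases (hC _).mp hcC with rfl | rfl | rfl
        · exact absurd hc hxn
        · exact Or.inr (Or.inl ⟨ha, hc, huv'' hc⟩)
        · exact Or.inr (Or.inr ⟨ha, hc⟩)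
  rcases step n hjn hkn with ⟨hxn, hwn, hvn⟩ | ⟨-, h⟩
  swap
  · exact h
  exfalso
  have hnm' := hβ.row i n m hnm
  have hxw2 : x ≠ opp w := fun h => (hβ.valid i' k).2 w hw (h ▸ hxB)
  rcases step m hjm hkm with ⟨hxm, hwm, -⟩ | ⟨hxm, -⟩
  · exact hxw2 (hnm'.2.1 _ _ hxn hxm hwn hwm)
  obtain ⟨c, hc, hc'⟩ := hnm'.1
  have hxv2 : x ≠ opp v' := fun h => (hβ.valid i' j).2 v' hv' (h ▸ hxD)
  have hwv : opp w ≠ opp v' := fun h => by
    have h' := opp_injective h
    subst h'
    exact hxw (rB _ hv' hw).symm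
  rcases mem_triple (hβ.valid i n) hxn hwn hvn hxw2 hxv2 hwv hc with rfl | rfl | rfl
  · exact hxm hc'
  · obtain ⟨e, he, he'⟩ := (hβ.diag i i' m k hii hkm.symm).1.mpr
      ⟨opp w, hc', by rwa [opp_opp]⟩
    rcases (hB _).mp he' with rfl | rfl | rfl
    · exact hxm he
    · exact (hβ.row i j m hjm).2.2 y hy he
    · exact (hβ.valid i m).2 _ he hc'
  · obtain ⟨e, he, he'⟩ := (hβ.diag i i' m j hii hjm.symm).1.mpr
      ⟨opp v', hc', by rwa [opp_opp]⟩
    rcases (hD _).mp he' with rfl | rfl | rfl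
    · exact hxm he
    · exact (hβ.row i k m hkm).2.2 u hu he
    · exact (hβ.valid i m).2 _ he hc'

/-- The configuration in which all four corners share a signed symbol. -/
theorem grid_case_a (hβ : IsGrid β) {i i' : I} (hii : i ≠ i') {j k l m : J} (hjk : j ≠ k)
    (hjl : j ≠ l) (hkl : k ≠ l) (hjm : j ≠ m) (hkm : k ≠ m) (hlm : l ≠ m) {x y : ι × Bool}
    (hx : x ∈ β i j) (hx' : x ∈ β i' k) (hy : y ∈ β i j) (hy' : opp y ∈ β i' k)
    (hx1 : x ∈ β i k) (hx2 : x ∈ β i' j) : False := by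
  have hxy : x ≠ y := fun h => (hβ.valid i' k).2 x hx' (h.symm ▸ hy')
  obtain ⟨z, hz, hxz, hyz, hA⟩ := exists_third (hβ.valid i j) hx hy hxy
  have hxy' : x ≠ opp y := fun h => (hβ.valid i j).2 y hy (h ▸ hx)
  obtain ⟨w, hw, hxw, hyw, hB⟩ := exists_third (hβ.valid i' k) hx' hy' hxy'
  obtain ⟨u, hu, hu'⟩ := (hβ.diag i i' k j hii hjk.symm).1.mp ⟨x, hx1, hx2⟩
  have hxu : x ≠ u := fun h => (hβ.valid i' j).2 x hx2 (h.symm ▸ hu')
  obtain ⟨v, hv, hxv, huv, hC⟩ := exists_third (hβ.valid i k) hx1 hu hxu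
  have hxu' : x ≠ opp u := fun h => (hβ.valid i k).2 u hu (h ▸ hx1)
  obtain ⟨v', hv', hxv', huv', hD⟩ := exists_third (hβ.valid i' j) hx2 hu' hxu'
  have hA' : ∀ s, s ∈ β i j ↔ s = x ∨ s = opp (opp y) ∨ s = z := by simpa using hA
  have hC' : ∀ s, s ∈ β i k ↔ s = x ∨ s = opp (opp u) ∨ s = v := by simpa using hC
  have stepO : ∀ n m, j ≠ n → k ≠ n → j ≠ m → k ≠ m → n ≠ m →
      (y ∈ β i n ∧ v ∈ β i n ∧ w ∈ β i n) ∨ (z ∈ β i n ∧ u ∈ β i n ∧ v' ∈ β i n) ∨
        (z ∈ β i n ∧ v ∈ β i n) := fun n m h1 h2 h3 h4 h5 =>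
    grid_row hβ hii hjk h1 h2 h3 h4 h5 hA hB hC hD hxy hxz hxw hxu hxv
  have stepP : ∀ n m, j ≠ n → k ≠ n → j ≠ m → k ≠ m → n ≠ m →
      (opp y ∈ β i' n ∧ v' ∈ β i' n ∧ z ∈ β i' n) ∨ (w ∈ β i' n ∧ opp u ∈ β i' n ∧ v ∈ β i' n) ∨
        (w ∈ β i' n ∧ v' ∈ β i' n) := fun n m h1 h2 h3 h4 h5 =>
    grid_row hβ hii.symm hjk.symm h2 h1 h4 h3 h5 hB hA' hD hC' hxy' hxw hxz hxu' hxv'
  have hzv : z ≠ v := by
    rintro rfl
    exact hxz ((hβ.row i j k hjk).2.1 x _ hx hx1 hz hv)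
  have hwv' : w ≠ v' := by
    rintro rfl
    exact hxw ((hβ.row i' j k hjk).2.1 x _ hx2 hx' hv' hw)
  obtain ⟨n, hjn, hkn, hnO⟩ : ∃ n, j ≠ n ∧ k ≠ n ∧ ((y ∈ β i n ∧ v ∈ β i n ∧ w ∈ β i n) ∨
      (z ∈ β i n ∧ u ∈ β i n ∧ v' ∈ β i n)) := by
    rcases stepO l m hjl hkl hjm hkm hlm with h | h | ⟨hl1, hl2⟩
    · exact ⟨l, hjl, hkl, Or.inl h⟩
    · exact ⟨l, hjl, hkl, Or.inr h⟩
    rcases stepO m l hjm hkm hjl hkl hlm.symm with h | h | ⟨hm1, hm2⟩
    · exact ⟨m, hjm, hkm, Or.inl h⟩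
    · exact ⟨m, hjm, hkm, Or.inr h⟩
    exact absurd ((hβ.row i l m hlm).2.1 _ _ hl1 hm1 hl2 hm2) hzv
  obtain ⟨n', hnP⟩ : ∃ n, ((opp y ∈ β i' n ∧ v' ∈ β i' n ∧ z ∈ β i' n) ∨
      (w ∈ β i' n ∧ opp u ∈ β i' n ∧ v ∈ β i' n)) := by
    rcases stepP l m hjl hkl hjm hkm hlm with h | h | ⟨hl1, hl2⟩
    · exact ⟨l, Or.inl h⟩
    · exact ⟨l, Or.inr h⟩
    rcases stepP m l hjm hkm hjl hkl hlm.symm with h | h | ⟨hm1, hm2⟩
    · exact ⟨m, Or.inl h⟩
    · exact ⟨m, Or.inr h⟩
    exact absurd ((hβ.row i' l m hlm).2.1 _ _ hl1 hm1 hl2 hm2) hwv'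
  have hW : (∀ a b, a ∈ β i n → a ∈ β i' n' → b ∈ β i n → b ∈ β i' n' → a = b) ∧
      ∀ a ∈ β i n, opp a ∈ β i' n' → ∃ c, c ∈ β i n ∧ c ∈ β i' n' := by
    by_cases h : n = n'
    · subst h
      exact ⟨(hβ.col i i' n hii).2.1, fun a h1 h2 => absurd h2 ((hβ.col i i' n hii).2.2 a h1)⟩
    · exact ⟨(hβ.diag i i' n n' hii h).2,
        fun a h1 h2 => (hβ.diag i i' n n' hii h).1.mpr ⟨a, h1, h2⟩⟩
  have rA : ∀ a, a ∈ β i j → a ∈ β i k → a = x := fun a h1 h2 =>
    (hβ.row i j k hjk).2.1 a x h1 h2 hx hx1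
  have cJ : ∀ a, a ∈ β i j → a ∈ β i' j → a = x := fun a h1 h2 =>
    (hβ.col i i' j hii).2.1 a x h1 h2 hx hx2
  have cK : ∀ a, a ∈ β i k → a ∈ β i' k → a = x := fun a h1 h2 =>
    (hβ.col i i' k hii).2.1 a x h1 h2 hx1 hx'
  have dA : ∀ a, a ∈ β i j → a ∈ β i' k → a = x := fun a h1 h2 =>
    (hβ.diag i i' j k hii hjk).2 a x h1 h2 hx hx'
  have dC : ∀ a, a ∈ β i k → a ∈ β i' j → a = x := fun a h1 h2 =>
    (hβ.diag i i' k j hii hjk.symm).2 a x h1 h2 hx1 hx2
  have eA : ∀ a, a ∈ β i j → opp a ∉ β i k := (hβ.row i j k hjk).2.2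
  have eJ : ∀ a, a ∈ β i j → opp a ∉ β i' j := (hβ.col i i' j hii).2.2
  rcases hnP with ⟨p1, p2, p3⟩ | ⟨p1, p2, p3⟩ <;> rcases hnO with ⟨o1, o2, o3⟩ | ⟨o1, o2, o3⟩
  · obtain ⟨c, hc, hc'⟩ := hW.2 y o1 p1
    have hcO := mem_triple (hβ.valid i n) o1 o2 o3
      (by rintro rfl; exact hxy (rA _ hy hv).symm) (by rintro rfl; exact hxy (dA _ hy hw).symm)
      (by rintro rfl; exact hxw (cK _ hv hw).symm) hc
    have hcP := mem_triple (hβ.valid i' n') p1 p2 p3
      (by rintro h; exact eJ _ hy (h ▸ hv')) (by rintro h; exact (hβ.valid i j).2 y hy (h ▸ hz))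
      (by rintro rfl; exact hxz (cJ _ hz hv').symm) hc'
    rcases hcO with rfl | rfl | rfl
    · exact (hβ.valid i' n').2 _ hc' p1
    · rcases hcP with rfl | rfl | rfl
      · exact eA _ hy hv
      · exact hxv (dC _ hv hv').symm
      · exact hzv rfl
    · rcases hcP with rfl | rfl | rfl
      · exact hyw rfl
      · exact hwv' rfl
      · exact hxz (dA _ hz hw).symm
  · have := hW.1 _ _ o1 p3 o3 p2
    subst this
    exact hxz (cJ z hz hv').symm
  · have := hW.1 _ _ o3 p1 o2 p3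
    subst this
    exact hxw (cK _ hv hw).symm
  · obtain ⟨c, hc, hc'⟩ := hW.2 u o2 p2
    have hcO := mem_triple (hβ.valid i n) o1 o2 o3
      (by rintro rfl; exact hxz (rA _ hz hu).symm) (by rintro rfl; exact hxz (cJ _ hz hv').symm)
      (by rintro rfl; exact hxu (dC _ hu hv').symm) hc
    have hcP := mem_triple (hβ.valid i' n') p1 p2 p3
      (by rintro rfl; exact (hβ.col i i' k hii).2.2 u hu hw)
      (by rintro rfl; exact hxw (cK _ hv hw).symm)
      (by rintro rfl; exact (hβ.valid i k).2 u hu hv) hc'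
    rcases hcO with rfl | rfl | rfl
    · rcases hcP with rfl | rfl | rfl
      · exact hxz (dA _ hz hw).symm
      · exact eA _ hz (by rw [opp_opp]; exact hu)
      · exact hzv rfl
    · exact (hβ.valid i' n').2 _ hc' p2
    · rcases hcP with rfl | rfl | rfl
      · exact hwv' rfl
      · exact huv' rfl
      · exact hxv (dC _ hv hv').symm

/-- Cells that are not on a line share nothing. -/
theorem diag_disjoint (hβ : IsGrid β) [Fintype J] (hJ : 4 ≤ Fintype.card J) {i i' : I}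
    (hii : i ≠ i') {j k : J} (hjk : j ≠ k) {a : ι × Bool} (ha : a ∈ β i j) :
    a ∉ β i' k ∧ opp a ∉ β i' k := by
  classical
  suffices h : ∀ x ∈ β i j, x ∉ β i' k from
    ⟨h a ha, fun h' => by
      obtain ⟨x, hx, hx'⟩ := (hβ.diag i i' j k hii hjk).1.mpr ⟨a, ha, h'⟩
      exact h x hx hx'⟩
  intro x hx hx'
  obtain ⟨y, hy, hy'⟩ := (hβ.diag i i' j k hii hjk).1.mp ⟨x, hx, hx'⟩
  have hrest : 1 < ((Finset.univ.erase j).erase k).card := by
    rw [Finset.card_erase_of_mem (by simp [hjk.symm]), Finset.card_erase_of_mem (Finset.mem_univ _),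
      Finset.card_univ]
    omega
  obtain ⟨l, hl, m, hm, hlm⟩ := Finset.one_lt_card.mp hrest
  simp only [Finset.mem_erase, Finset.mem_univ, and_true] at hl hm
  by_cases h1 : x ∈ β i k
  · by_cases h2 : x ∈ β i' j
    · exact grid_case_a hβ hii hjk hl.2.symm hl.1.symm hm.2.symm hm.1.symm hlm hx hx' hy hy' h1 h2
    · exact grid_case_b hβ hii hjk hl.2.symm hl.1.symm hm.2.symm hm.1.symm hlm hx hx' hy hy' h1 h2
  · by_cases h2 : x ∈ β i' j
    · exact grid_case_b hβ hii.symm hjk.symm hl.1.symm hl.2.symm hm.1.symm hm.2.symm hlm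
        hx' hx hy' (by rwa [opp_opp]) h2 h1
    · -- neither of the other corners has `x`: both contain the two third symbols
      have hxy : x ≠ y := fun h => (hβ.valid i' k).2 x hx' (h.symm ▸ hy')
      obtain ⟨z, hz, hxz, hyz, hA⟩ := exists_third (hβ.valid i j) hx hy hxy
      have hxy' : x ≠ opp y := fun h => (hβ.valid i j).2 y hy (h ▸ hx)
      obtain ⟨w, hw, hxw, hyw, hB⟩ := exists_third (hβ.valid i' k) hx' hy' hxy'
      have hzw : z ≠ w := by
        rintro rfl
        exact hxz ((hβ.diag i i' j k hii hjk).2 x _ hx hx' hz hw)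
      have hz1 : z ∈ β i k := by
        obtain ⟨b, hb, hb'⟩ := (hβ.row i j k hjk).1
        rcases (hA b).mp hb with rfl | rfl | rfl
        · exact absurd hb' h1
        · exact absurd hy' ((hβ.col i i' k hii).2.2 _ hb')
        · exact hb'
      have hw1 : w ∈ β i k := by
        obtain ⟨b, hb, hb'⟩ := (hβ.col i i' k hii).1
        rcases (hB b).mp hb' with rfl | rfl | rfl
        · exact absurd hb h1
        · exact absurd hb ((hβ.row i j k hjk).2.2 _ hy)
        · exact hb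
      have hz2 : z ∈ β i' j := by
        obtain ⟨b, hb, hb'⟩ := (hβ.col i i' j hii).1
        rcases (hA b).mp hb with rfl | rfl | rfl
        · exact absurd hb' h2
        · exact absurd hy' ((hβ.row i' j k hjk).2.2 _ hb')
        · exact hb'
      have hw2 : w ∈ β i' j := by
        obtain ⟨b, hb, hb'⟩ := (hβ.row i' j k hjk).1
        rcases (hB b).mp hb' with rfl | rfl | rfl
        · exact absurd hb h2
        · exact absurd hb ((hβ.col i i' j hii).2.2 _ hy)
        · exact hb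
      exact hzw ((hβ.diag i i' k j hii hjk.symm).2 z w hz1 hz2 hw1 hw2)

/-- The structure of a grid. -/
theorem exists_decomp (hβ : IsGrid β) [Fintype I] [Fintype J] (hI : 2 ≤ Fintype.card I)
    (hI' : Fintype.card I ≠ 3) (hJ : 4 ≤ Fintype.card J) :
    ∃ (a : I → ι × Bool) (b : J → ι × Bool) (c : I → J → ι × Bool),
      (∀ i j, (∀ s, s ∈ β i j ↔ s = a i ∨ s = b j ∨ s = c i j) ∧ a i ≠ b j ∧ a i ≠ c i j ∧
        b j ≠ c i j) ∧
      Function.Injective (Sum.elim (fun i => (a i).1)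
        (Sum.elim (fun j => (b j).1) fun p : I × J => (c p.1 p.2).1)) := by
  classical
  have hdd := @diag_disjoint ι I J β hβ _ hJ
  have hIne : ∀ i : I, ∃ i', i ≠ i' := fun i => by
    obtain ⟨i', h⟩ := Fintype.exists_ne_of_one_lt_card (by omega) i
    exact ⟨i', h.symm⟩
  have hJne : ∀ j : J, ∃ j', j ≠ j' := fun j => by
    obtain ⟨j', h⟩ := Fintype.exists_ne_of_one_lt_card (by omega) j
    exact ⟨j', h.symm⟩
  choose t ht ht' using fun (i : I) (j l : J) (h : j ≠ l) => (hβ.row i j l h).1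
  choose r hr hr' using fun (j : J) (i k : I) (h : i ≠ k) => (hβ.col i k j h).1
  have hrow : ∀ i, ∃ a, ∀ j, a ∈ β i j := by
    intro i
    obtain ⟨i', hi'⟩ := hIne i
    obtain ⟨j⟩ : Nonempty J := Fintype.card_pos_iff.mp (by omega)
    set p := r j i i' hi' with hp
    have hcard : ((β i j).erase p).card < (Finset.univ.erase j).card := by
      rw [Finset.card_erase_of_mem (hr j i i' hi'), (hβ.valid i j).1,
        Finset.card_erase_of_mem (Finset.mem_univ _), Finset.card_univ]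
      omega
    obtain ⟨l, hl, m, hm, hlm, hlm'⟩ := Finset.exists_ne_map_eq_of_card_lt_of_maps_to hcard
      (f := fun l => if h : j ≠ l then t i j l h else p) (by
        intro l hl
        rw [Finset.mem_coe, Finset.mem_erase] at hl
        simp only [dif_pos hl.1.symm, Finset.mem_coe, Finset.mem_erase]
        exact ⟨fun he => (hdd hi' hl.1 (ht' i j l hl.1.symm)).1
          (he.symm ▸ hr' j i i' hi'), ht i j l hl.1.symm⟩)
    rw [Finset.mem_erase] at hl hm
    simp only [dif_pos hl.1.symm, dif_pos hm.1.symm] at hlm'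
    set e := t i j l hl.1.symm with he
    refine ⟨e, fun n => ?_⟩
    by_contra hen
    -- `e` is in three cells, so a cell without it would have three symbols outside its column
    have hnj : j ≠ n := fun h => hen (h ▸ ht i j l hl.1.symm)
    have hnl : l ≠ n := fun h => hen (h ▸ ht' i j l hl.1.symm)
    have hem : e ∈ β i m := hlm'.symm ▸ ht' i j m hm.1.symm
    have hnm : m ≠ n := fun h => hen (h ▸ hem)
    obtain ⟨p', hpi, hpi'⟩ := (hβ.col i i' n hi').1
    have key : ∀ (q : J) (hq : q ≠ n), e ∈ β i q → ∀ q', ∀ hq' : q' ≠ n, e ∈ β i q' → q ≠ q' →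
        t i q n hq ≠ t i q' n hq' := fun q hq heq q' hq' heq' hne he' => hen (by
      have h1 := (hβ.row i q q' hne).2.1 (t i q n hq) e (ht i q n hq) (he' ▸ ht i q' n hq') heq heq'
      exact h1 ▸ ht' i q n hq)
    have key2 : ∀ (q : J) (hq : q ≠ n), t i q n hq ≠ p' := fun q hq he' =>
      (hdd hi' hq (ht i q n hq)).1 (he'.symm ▸ hpi')
    exact no_four (hβ.valid i n) (ht' i j n hnj) (ht' i l n hnl) (ht' i m n hnm) hpi
      (key j hnj (ht i j l hl.1.symm) l hnl (ht' i j l hl.1.symm) hl.1.symm)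
      (key j hnj (ht i j l hl.1.symm) m hnm hem hm.1.symm) (key2 j hnj)
      (key l hnl (ht' i j l hl.1.symm) m hnm hem hlm) (key2 l hnl) (key2 m hnm)
  choose a ha using hrow
  have hcol : ∀ j, ∃ b, ∀ i, b ∈ β i j := by
    intro j
    rcases eq_or_lt_of_le hI with h2 | h4
    · obtain ⟨i⟩ : Nonempty I := Fintype.card_pos_iff.mp (by omega)
      obtain ⟨i', hi'⟩ := hIne i
      refine ⟨r j i i' hi', fun n => ?_⟩
      by_cases h : n = i
      · exact h ▸ hr j i i' hi'
      by_cases h' : n = i'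
      · exact h' ▸ hr' j i i' hi'
      exfalso
      have : 2 < Fintype.card I :=
        Fintype.two_lt_card_iff.mpr ⟨n, i, i', h, h', hi'⟩
      omega
    obtain ⟨i⟩ : Nonempty I := Fintype.card_pos_iff.mp (by omega)
    have hcard : ((β i j).erase (a i)).card < (Finset.univ.erase i).card := by
      rw [Finset.card_erase_of_mem (ha i j), (hβ.valid i j).1,
        Finset.card_erase_of_mem (Finset.mem_univ _), Finset.card_univ]
      omega
    obtain ⟨l, hl, m, hm, hlm, hlm'⟩ := Finset.exists_ne_map_eq_of_card_lt_of_maps_to hcard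
      (f := fun l => if h : i ≠ l then r j i l h else a i) (by
        intro l hl
        rw [Finset.mem_coe, Finset.mem_erase] at hl
        simp only [dif_pos hl.1.symm, Finset.mem_coe, Finset.mem_erase]
        obtain ⟨j', hj'⟩ := hJne j
        exact ⟨fun he => (hdd hl.1.symm hj'.symm (ha i j')).1
          (he ▸ hr' j i l hl.1.symm), hr j i l hl.1.symm⟩)
    rw [Finset.mem_erase] at hl hm
    simp only [dif_pos hl.1.symm, dif_pos hm.1.symm] at hlm'
    set e := r j i l hl.1.symm with he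
    refine ⟨e, fun n => ?_⟩
    by_contra hen
    have hnj : i ≠ n := fun h => hen (h ▸ hr j i l hl.1.symm)
    have hnl : l ≠ n := fun h => hen (h ▸ hr' j i l hl.1.symm)
    have hem : e ∈ β m j := hlm'.symm ▸ hr' j i m hm.1.symm
    have hnm : m ≠ n := fun h => hen (h ▸ hem)
    obtain ⟨j', hj'⟩ := hJne j
    have key : ∀ (q : I) (hq : q ≠ n), e ∈ β q j → ∀ q', ∀ hq' : q' ≠ n, e ∈ β q' j → q ≠ q' →
        r j q n hq ≠ r j q' n hq' := fun q hq heq q' hq' heq' hne he' => hen (by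
      have h1 := (hβ.col q q' j hne).2.1 (r j q n hq) e (hr j q n hq) (he' ▸ hr j q' n hq') heq heq'
      exact h1 ▸ hr' j q n hq)
    have key2 : ∀ (q : I) (hq : q ≠ n), r j q n hq ≠ a n := fun q hq he' =>
      (hdd hq.symm hj'.symm (ha n j')).1 (he' ▸ hr j q n hq)
    exact no_four (hβ.valid n j) (hr' j i n hnj) (hr' j l n hnl) (hr' j m n hnm) (ha n j)
      (key i hnj (hr j i l hl.1.symm) l hnl (hr' j i l hl.1.symm) hl.1.symm)
      (key i hnj (hr j i l hl.1.symm) m hnm hem hm.1.symm) (key2 i hnj)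
      (key l hnl (hr' j i l hl.1.symm) m hnm hem hlm) (key2 l hnl) (key2 m hnm)
  choose b hb using hcol
  have hab : ∀ i j, a i ≠ b j := fun i j h => by
    obtain ⟨i', hi'⟩ := hIne i
    obtain ⟨j', hj'⟩ := hJne j
    exact (hdd hi' hj'.symm (ha i j')).1 (h ▸ hb j i')
  choose c hc hac hbc hmem using fun i j => exists_third (hβ.valid i j) (ha i j) (hb j i) (hab i j)
  refine ⟨a, b, c, fun i j => ⟨hmem i j, hab i j, hac i j, hbc i j⟩, ?_⟩
  -- symbols of different places are different up to sign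
  have hab' : ∀ i j, (a i).1 ≠ (b j).1 := fun i j h => by
    rcases eq_or_eq_opp h with h' | h'
    · exact hab i j h'
    · exact (hβ.valid i j).2 _ (hb j i) (h' ▸ ha i j)
  have haa : ∀ i k, (a i).1 = (a k).1 → i = k := fun i k h => by
    by_contra hne
    obtain ⟨j⟩ : Nonempty J := Fintype.card_pos_iff.mp (by omega)
    obtain ⟨j', hj'⟩ := hJne j
    obtain ⟨h1, h2⟩ := hdd hne hj' (ha i j)
    rcases eq_or_eq_opp h with h' | h'
    · exact h1 (h' ▸ ha k j')
    · exact h2 (by rw [h', opp_opp]; exact ha k j')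
  have hbb : ∀ j l, (b j).1 = (b l).1 → j = l := fun j l h => by
    by_contra hne
    obtain ⟨i⟩ : Nonempty I := Fintype.card_pos_iff.mp (by omega)
    obtain ⟨i', hi'⟩ := hIne i
    obtain ⟨h1, h2⟩ := hdd hi' hne (hb j i)
    rcases eq_or_eq_opp h with h' | h'
    · exact h1 (h' ▸ hb l i')
    · exact h2 (by rw [h', opp_opp]; exact hb l i')
  have hcother : ∀ i j k l, (k, l) ≠ (i, j) → ∀ s ∈ β k l, (c i j).1 ≠ s.1 := by
    intro i j k l hne s hs h
    by_cases hk : k = i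
    · subst hk
      have hjl : j ≠ l := fun h' => hne (by rw [h'])
      rcases eq_or_eq_opp h with h' | h'
      · exact hac k j ((hβ.row k j l hjl).2.1 _ _ (ha k j) (ha k l) (hc k j) (h' ▸ hs))
      · exact (hβ.row k j l hjl).2.2 _ (hc k j) (by rw [h', opp_opp]; exact hs)
    · by_cases hl : l = j
      · subst hl
        rcases eq_or_eq_opp h with h' | h'
        · exact hbc i l ((hβ.col i k l (Ne.symm hk)).2.1 _ _ (hb l i) (hb l k) (hc i l) (h' ▸ hs))
        · exact (hβ.col i k l (Ne.symm hk)).2.2 _ (hc i l) (by rw [h', opp_opp]; exact hs)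
      · obtain ⟨h1, h2⟩ := hdd (Ne.symm hk) (Ne.symm hl) (hc i j)
        rcases eq_or_eq_opp h with h' | h'
        · exact h1 (h' ▸ hs)
        · exact h2 (by rw [h', opp_opp]; exact hs)
  have hca : ∀ i j k, (c i j).1 ≠ (a k).1 := fun i j k => by
    obtain ⟨j', hj'⟩ := hJne j
    exact hcother i j k j' (fun h => hj' (congrArg Prod.snd h).symm) _ (ha k j')
  have hcb : ∀ i j l, (c i j).1 ≠ (b l).1 := fun i j l => by
    obtain ⟨i', hi'⟩ := hIne i
    exact hcother i j i' l (fun h => hi' (congrArg Prod.fst h).symm) _ (hb l i')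
  rintro (i | j | p) (k | l | q) h <;> simp only [Sum.elim_inl, Sum.elim_inr] at h
  · rw [haa i k h]
  · exact absurd h (hab' i l)
  · exact absurd h.symm (hca _ _ _)
  · exact absurd h.symm (hab' k j)
  · rw [hbb j l h]
  · exact absurd h.symm (hcb _ _ _)
  · exact absurd h (hca _ _ _)
  · exact absurd h (hcb _ _ _)
  · by_contra hne
    exact hcother p.1 p.2 q.1 q.2 (fun h' => hne (by rw [show q = p from h'])) _ (hc q.1 q.2) h

end Cfsg.Lib.Grid
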