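import Cfsg.Prelude.Def_OddOrderChar
import Cfsg.Prelude.Def_OddOrderLocal
import Cfsg.Agent.OddChar.Dual
import Cfsg.Agent.OddChar.Grid
import Cfsg.Agent.Chars.TI

/-!
# The family attached to a self-normalising cyclic subgroup
-/

namespace Cfsg.Lib.CyclicTI

open scoped ComplexConjugate Pointwise
open Cfsg.Lib.Chars Cfsg.Lib.Dual

universe u

variable {G : Type u} [Group G] {W₁ W₂ : Subgroup G}

local notation "W" => (W₁ ⊔ W₂ : Subgroup G)

theorem comm (hW : Cfsg.IsSelfNormalizingCyclic W₁ W₂) (a b : W) : a * b = b * a :=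
  @mul_comm' _ _ (@IsCyclic.isMulCommutative _ _ hW.2.2.2.2.1) a b

theorem mem_sup (hW : Cfsg.IsSelfNormalizingCyclic W₁ W₂) (w : W) :
    ∃ u v : W, (u : G) ∈ W₁ ∧ (v : G) ∈ W₂ ∧ w = u * v := by
  have hn : W₂ ≤ Subgroup.normalizer (W₁ : Set G) := fun b hb => by
    rw [Subgroup.mem_normalizer_iff]
    intro n
    refine ⟨fun hn => ?_, fun hn => ?_⟩
    · rw [← hW.2.2.2.1 n hn b hb, mul_inv_cancel_right]; exact hn
    · have h := hW.2.2.2.1 _ hn b hb
      rw [inv_mul_cancel_right] at h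
      rwa [← mul_left_cancel h] at hn
  have h : (w : G) ∈ ((W₁ : Set G) * (W₂ : Set G)) := by
    rw [← Subgroup.coe_mul_of_right_le_normalizer_left W₁ W₂ hn]
    exact w.2
  obtain ⟨u, hu, v, hv, he⟩ := Set.mem_mul.mp h
  exact ⟨⟨u, Subgroup.mem_sup_left hu⟩, ⟨v, Subgroup.mem_sup_right hv⟩, hu, hv, Subtype.ext he.symm⟩

theorem sup_unique (hW : Cfsg.IsSelfNormalizingCyclic W₁ W₂) {u u' v v' : W} (hu : (u : G) ∈ W₁)
    (hu' : (u' : G) ∈ W₁) (hv : (v : G) ∈ W₂) (hv' : (v' : G) ∈ W₂) (h : u * v = u' * v') :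
    u = u' ∧ v = v' := by
  have h2 : (u' : G)⁻¹ * (u : G) = (v' : G) * (v : G)⁻¹ := by
    rw [eq_mul_inv_iff_mul_eq, mul_assoc, ← Subgroup.coe_mul, h, Subgroup.coe_mul,
      inv_mul_cancel_left]
  have h3 : (u' : G)⁻¹ * (u : G) ∈ W₁ ⊓ W₂ :=
    ⟨W₁.mul_mem (W₁.inv_mem hu') hu, h2 ▸ W₂.mul_mem hv' (W₂.inv_mem hv)⟩
  rw [hW.2.2.1, Subgroup.mem_bot] at h3
  rw [h3] at h2
  exact ⟨Subtype.ext (inv_mul_eq_one.mp h3).symm, Subtype.ext (mul_inv_eq_one.mp h2.symm).symm⟩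

/-- The component in `W₁`. -/
noncomputable def pr₁ (hW : Cfsg.IsSelfNormalizingCyclic W₁ W₂) : W →* W :=
  MonoidHom.mk' (fun w => (mem_sup hW w).choose) fun a b => by
    obtain ⟨va, hua, hva, ha⟩ := (mem_sup hW a).choose_spec
    obtain ⟨vb, hub, hvb, hb⟩ := (mem_sup hW b).choose_spec
    obtain ⟨vab, huab, hvab, hab⟩ := (mem_sup hW (a * b)).choose_spec
    refine (sup_unique hW huab (mul_mem hua hub) hvab (v' := va * vb) (mul_mem hva hvb) ?_).1
    rw [← hab]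
    conv_lhs => rw [ha, hb]
    rw [mul_assoc, mul_assoc, ← mul_assoc va, comm hW va, mul_assoc]

/-- The component in `W₂`. -/
noncomputable def pr₂ (hW : Cfsg.IsSelfNormalizingCyclic W₁ W₂) : W →* W :=
  MonoidHom.mk' (fun w => (pr₁ hW w)⁻¹ * w) fun a b => by
    rw [map_mul, mul_inv_rev, comm hW (pr₁ hW b)⁻¹ (pr₁ hW a)⁻¹, mul_assoc, mul_assoc,
      ← mul_assoc (pr₁ hW b)⁻¹ a b, comm hW (pr₁ hW b)⁻¹ a, mul_assoc]

theorem pr₁_mem (hW : Cfsg.IsSelfNormalizingCyclic W₁ W₂) (w : W) : (pr₁ hW w : G) ∈ W₁ :=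
  (mem_sup hW w).choose_spec.choose_spec.1

theorem pr_mul (hW : Cfsg.IsSelfNormalizingCyclic W₁ W₂) (w : W) : pr₁ hW w * pr₂ hW w = w :=
  mul_inv_cancel_left _ _

theorem pr₂_mem (hW : Cfsg.IsSelfNormalizingCyclic W₁ W₂) (w : W) : (pr₂ hW w : G) ∈ W₂ := by
  obtain ⟨v, hu, hv, hw⟩ := (mem_sup hW w).choose_spec
  have : pr₂ hW w = v := by
    show (pr₁ hW w)⁻¹ * w = v
    rw [inv_mul_eq_iff_eq_mul]
    exact hw
  rw [this]; exact hv

theorem pr_of_mem₁ (hW : Cfsg.IsSelfNormalizingCyclic W₁ W₂) {w : W} (hw : (w : G) ∈ W₁) :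
    pr₁ hW w = w ∧ pr₂ hW w = 1 :=
  sup_unique hW (pr₁_mem hW w) hw (pr₂_mem hW w) (by simp) (by rw [pr_mul, mul_one])

theorem pr_of_mem₂ (hW : Cfsg.IsSelfNormalizingCyclic W₁ W₂) {w : W} (hw : (w : G) ∈ W₂) :
    pr₁ hW w = 1 ∧ pr₂ hW w = w :=
  sup_unique hW (pr₁_mem hW w) (by simp) (pr₂_mem hW w) hw (by rw [pr_mul, one_mul])

/-- Trivial on `W₂`. -/
def OnFirst (φ : W →* ℂˣ) : Prop := ∀ w : W, (w : G) ∈ W₂ → φ w = 1

/-- Trivial on `W₁`. -/
def OnSecond (ψ : W →* ℂˣ) : Prop := ∀ w : W, (w : G) ∈ W₁ → ψ w = 1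

theorem onFirst_comp (hW : Cfsg.IsSelfNormalizingCyclic W₁ W₂) (ω : W →* ℂˣ) :
    OnFirst (ω.comp (pr₁ hW)) := fun w hw => by
  rw [MonoidHom.comp_apply, (pr_of_mem₂ hW hw).1, map_one]

theorem onSecond_comp (hW : Cfsg.IsSelfNormalizingCyclic W₁ W₂) (ω : W →* ℂˣ) :
    OnSecond (ω.comp (pr₂ hW)) := fun w hw => by
  rw [MonoidHom.comp_apply, (pr_of_mem₁ hW hw).2, map_one]

theorem comp_mul_comp (hW : Cfsg.IsSelfNormalizingCyclic W₁ W₂) (ω : W →* ℂˣ) :
    ω.comp (pr₁ hW) * ω.comp (pr₂ hW) = ω :=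
  MonoidHom.ext fun w => by
    rw [MonoidHom.mul_apply, MonoidHom.comp_apply, MonoidHom.comp_apply, ← map_mul, pr_mul]

theorem comp_pr₁ (hW : Cfsg.IsSelfNormalizingCyclic W₁ W₂) {φ ψ : W →* ℂˣ} (hφ : OnFirst φ)
    (hψ : OnSecond ψ) : (φ * ψ).comp (pr₁ hW) = φ :=
  MonoidHom.ext fun w => by
    rw [MonoidHom.comp_apply, MonoidHom.mul_apply, hψ _ (pr₁_mem hW w), mul_one]
    conv_rhs => rw [← pr_mul hW w, map_mul, hφ _ (pr₂_mem hW w), mul_one]

theorem comp_pr₂ (hW : Cfsg.IsSelfNormalizingCyclic W₁ W₂) {φ ψ : W →* ℂˣ} (hφ : OnFirst φ)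
    (hψ : OnSecond ψ) : (φ * ψ).comp (pr₂ hW) = ψ :=
  MonoidHom.ext fun w => by
    rw [MonoidHom.comp_apply, MonoidHom.mul_apply, hφ _ (pr₂_mem hW w), one_mul]
    conv_rhs => rw [← pr_mul hW w, map_mul, hψ _ (pr₁_mem hW w), one_mul]

theorem mul_eq_iff (hW : Cfsg.IsSelfNormalizingCyclic W₁ W₂) {φ φ' ψ ψ' : W →* ℂˣ}
    (hφ : OnFirst φ) (hψ : OnSecond ψ) (hφ' : OnFirst φ') (hψ' : OnSecond ψ') :
    φ * ψ = φ' * ψ' ↔ φ = φ' ∧ ψ = ψ' :=
  ⟨fun h => ⟨by rw [← comp_pr₁ hW hφ hψ, h, comp_pr₁ hW hφ' hψ'],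
    by rw [← comp_pr₂ hW hφ hψ, h, comp_pr₂ hW hφ' hψ']⟩, fun ⟨h, h'⟩ => by rw [h, h']⟩

theorem onFirst_one : OnFirst (1 : W →* ℂˣ) := fun _ _ => rfl

theorem onSecond_one : OnSecond (1 : W →* ℂˣ) := fun _ _ => rfl

theorem hom_one_mul (φ : W →* ℂˣ) : (1 : W →* ℂˣ) * φ = φ := MonoidHom.ext fun _ => one_mul _

theorem hom_mul_one (φ : W →* ℂˣ) : φ * (1 : W →* ℂˣ) = φ := MonoidHom.ext fun _ => mul_one _

theorem mul_ne_one (hW : Cfsg.IsSelfNormalizingCyclic W₁ W₂) {φ ψ : W →* ℂˣ} (hφ : OnFirst φ)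
    (hψ : OnSecond ψ) (h : φ ≠ 1) : φ * ψ ≠ 1 := fun he => h (by
  have := (mul_eq_iff hW hφ hψ onFirst_one onSecond_one).mp (he.trans (one_mul (1 : W →* ℂˣ)).symm)
  exact this.1)

/-- The product decomposition of the dual. -/
noncomputable def dualEquiv (hW : Cfsg.IsSelfNormalizingCyclic W₁ W₂) :
    {φ : W →* ℂˣ // OnFirst φ} × {ψ : W →* ℂˣ // OnSecond ψ} ≃ (W →* ℂˣ) where
  toFun p := p.1.1 * p.2.1
  invFun ω := (⟨_, onFirst_comp hW ω⟩, ⟨_, onSecond_comp hW ω⟩)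
  left_inv p := Prod.ext (Subtype.ext (comp_pr₁ hW p.1.2 p.2.2))
    (Subtype.ext (comp_pr₂ hW p.1.2 p.2.2))
  right_inv ω := comp_mul_comp hW ω

variable [Finite G]

theorem card_onFirst (hW : Cfsg.IsSelfNormalizingCyclic W₁ W₂) :
    Nat.card {φ : W →* ℂˣ // OnFirst φ} = Nat.card W₁ := by
  rw [← card_hom (A := W₁) (fun a b => Subtype.ext (congrArg (fun x : W => (x : G))
    (comm hW ⟨a, Subgroup.mem_sup_left a.2⟩ ⟨b, Subgroup.mem_sup_left b.2⟩)))]
  let i : W₁ →* W := Subgroup.inclusion le_sup_left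
  let p : W →* W₁ := (pr₁ hW).range.subtype.comp (pr₁ hW).rangeRestrict |>.comp (MonoidHom.id _) |>
    fun _ => MonoidHom.mk' (fun w => ⟨pr₁ hW w, pr₁_mem hW w⟩) fun a b => Subtype.ext (by simp)
  refine Nat.card_congr
    { toFun := fun φ => φ.1.comp i
      invFun := fun f => ⟨f.comp p, fun w hw => by
        rw [MonoidHom.comp_apply, show p w = 1 from Subtype.ext (by simp [p, (pr_of_mem₂ hW hw).1]),
          map_one]⟩
      left_inv := fun φ => Subtype.ext (MonoidHom.ext fun w => by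
        show φ.1 (i (p w)) = φ.1 w
        rw [show i (p w) = pr₁ hW w from Subtype.ext rfl]
        conv_rhs => rw [← pr_mul hW w, map_mul, φ.2 _ (pr₂_mem hW w), mul_one])
      right_inv := fun f => MonoidHom.ext fun u => by
        show f (p (i u)) = f u
        congr 1
        exact Subtype.ext (by simp [p, i, (pr_of_mem₁ hW (w := i u) u.2).1]) }

theorem card_onSecond (hW : Cfsg.IsSelfNormalizingCyclic W₁ W₂) :
    Nat.card {ψ : W →* ℂˣ // OnSecond ψ} = Nat.card W₂ := by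
  rw [← card_hom (A := W₂) (fun a b => Subtype.ext (congrArg (fun x : W => (x : G))
    (comm hW ⟨a, Subgroup.mem_sup_right a.2⟩ ⟨b, Subgroup.mem_sup_right b.2⟩)))]
  let i : W₂ →* W := Subgroup.inclusion le_sup_right
  let p : W →* W₂ := MonoidHom.mk' (fun w => ⟨pr₂ hW w, pr₂_mem hW w⟩)
    fun a b => Subtype.ext (by simp)
  refine Nat.card_congr
    { toFun := fun φ => φ.1.comp i
      invFun := fun f => ⟨f.comp p, fun w hw => by
        rw [MonoidHom.comp_apply, show p w = 1 from Subtype.ext (by simp [p, (pr_of_mem₁ hW hw).2]),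
          map_one]⟩
      left_inv := fun φ => Subtype.ext (MonoidHom.ext fun w => by
        show φ.1 (i (p w)) = φ.1 w
        rw [show i (p w) = pr₂ hW w from Subtype.ext rfl]
        conv_rhs => rw [← pr_mul hW w, map_mul, φ.2 _ (pr₁_mem hW w), one_mul])
      right_inv := fun f => MonoidHom.ext fun u => by
        show f (p (i u)) = f u
        congr 1
        exact Subtype.ext (by simp [p, i, (pr_of_mem₂ hW (w := i u) u.2).2]) }

theorem coprime_card (hW : Cfsg.IsSelfNormalizingCyclic W₁ W₂) :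
    Nat.Coprime (Nat.card W₁) (Nat.card W₂) := by
  classical
  refine Nat.coprime_of_dvd fun q hq h1 h2 => ?_
  have := Fact.mk hq
  have hcyc := hW.2.2.2.2.1
  obtain ⟨a, ha⟩ := exists_prime_orderOf_dvd_card' q h1
  obtain ⟨b, hb⟩ := exists_prime_orderOf_dvd_card' q h2
  set a' : W := ⟨a, Subgroup.mem_sup_left a.2⟩
  set b' : W := ⟨b, Subgroup.mem_sup_right b.2⟩
  have ha' : orderOf a' = q := by rw [Subgroup.orderOf_mk, Subgroup.orderOf_coe, ha]
  have hb' : orderOf b' = q := by rw [Subgroup.orderOf_mk, Subgroup.orderOf_coe, hb]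
  have := Fintype.ofFinite W
  have hle := IsCyclic.card_pow_eq_one_le (α := W) hq.pos
  have hsub : (Subgroup.zpowers a' : Set W).toFinset ⊆
      Finset.univ.filter fun x => x ^ q = 1 := fun x hx => by
    rw [Set.mem_toFinset] at hx
    simp only [Finset.mem_filter, Finset.mem_univ, true_and]
    exact orderOf_dvd_iff_pow_eq_one.mp (ha' ▸ orderOf_dvd_of_mem_zpowers hx)
  have heq := Finset.eq_of_subset_of_card_le hsub (hle.trans (by
    rw [Set.toFinset_card, ← Nat.card_eq_fintype_card]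
    exact (ha'.symm.trans (Nat.card_zpowers _).symm).le))
  have hmem : b' ∈ Subgroup.zpowers a' := by
    have : b' ∈ Finset.univ.filter fun x : W => x ^ q = 1 := by
      simp [← hb', pow_orderOf_eq_one]
    rwa [← heq, Set.mem_toFinset] at this
  have hb1 : (b' : G) ∈ W₁ := by
    obtain ⟨k, hk⟩ := Subgroup.mem_zpowers_iff.mp hmem
    rw [← hk, Subgroup.coe_zpow]
    exact zpow_mem a.2 k
  have : (b : G) ∈ W₁ ⊓ W₂ := ⟨hb1, b.2⟩
  rw [hW.2.2.1, Subgroup.mem_bot] at this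
  have h1' : b = 1 := Subtype.ext this
  rw [h1', orderOf_one] at hb
  exact hq.ne_one hb.symm

omit [Finite G] in
/-- The elements outside both factors are moved off themselves. -/
theorem tiSet (hW : Cfsg.IsSelfNormalizingCyclic W₁ W₂) [Finite G] (g : G) (v : G)
    (hv : v ∈ ((W : Set G) \ (↑W₁ ∪ ↑W₂))) (hgv : g * v * g⁻¹ ∈ ((W : Set G) \ (↑W₁ ∪ ↑W₂))) :
    g ∈ W := by
  classical
  have hC : ∀ y ∈ ((W : Set G) \ (↑W₁ ∪ ↑W₂)), ∀ c, c * y = y * c ↔ c ∈ W := fun y hy c => by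
    rw [← hW.2.2.2.2.2 {y} (Set.singleton_subset_iff.mpr hy) (Set.singleton_nonempty y),
      Subgroup.mem_set_normalizer_iff]
    constructor
    · intro h n
      simp only [Set.mem_singleton_iff]
      constructor
      · rintro rfl; rw [h, mul_inv_cancel_right]
      · intro h'; exact mul_left_cancel ((mul_inv_eq_iff_eq_mul.mp h').trans h.symm)
    · intro h
      exact mul_inv_eq_iff_eq_mul.mp (Set.mem_singleton_iff.mp ((h y).mp rfl))
  have hconjW : ∀ x, x ∈ W → g * x * g⁻¹ ∈ W := fun x hx => by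
    rw [← hC _ hgv]
    have := (hC v hv x).mpr hx
    calc g * x * g⁻¹ * (g * v * g⁻¹) = g * (x * v) * g⁻¹ := by group
      _ = g * v * g⁻¹ * (g * x * g⁻¹) := by rw [this]; group
  have hcard : ∀ (U : Subgroup G), U ≤ W → ∀ x ∈ U, g * x * g⁻¹ ∈ U := by
    intro U hU x hx
    have hcyc := hW.2.2.2.2.1
    have := Fintype.ofFinite W
    set U' := U.subgroupOf (W)
    have hU' : ∀ y : W, y ^ Nat.card U = 1 → y ∈ U' := by
      have hle := IsCyclic.card_pow_eq_one_le (α := W) (n := Nat.card U) Nat.card_pos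
      have hsub : (U' : Set W).toFinset ⊆ Finset.univ.filter fun y => y ^ Nat.card U = 1 :=
        fun y hy => by
          rw [Set.mem_toFinset] at hy
          simp only [Finset.mem_filter, Finset.mem_univ, true_and]
          have h1 : (⟨(y : G), Subgroup.mem_subgroupOf.mp hy⟩ : U) ^ Nat.card U = 1 := pow_card_eq_one'
          exact Subtype.ext (congrArg (fun z : U => (z : G)) h1)
      have heq := Finset.eq_of_subset_of_card_le hsub (hle.trans (by
        rw [Set.toFinset_card, ← Nat.card_eq_fintype_card]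
        exact (Nat.card_congr (Subgroup.subgroupOfEquivOfLe hU).toEquiv).ge))
      intro y hy
      have : y ∈ Finset.univ.filter fun y : W => y ^ Nat.card U = 1 := by simp [hy]
      rwa [← heq, Set.mem_toFinset] at this
    have hy := hU' ⟨g * x * g⁻¹, hconjW x (hU hx)⟩ (Subtype.ext (by
      have h1 : (⟨x, hx⟩ : U) ^ Nat.card U = 1 := pow_card_eq_one'
      have h2 : x ^ Nat.card U = 1 := congrArg (fun z : U => (z : G)) h1
      rw [Subgroup.coe_pow, conj_pow, h2, mul_one, mul_inv_cancel]; rfl))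
    exact Subgroup.mem_subgroupOf.mp hy
  have hfwd : ∀ x ∈ ((W : Set G) \ (↑W₁ ∪ ↑W₂)), g * x * g⁻¹ ∈ ((W : Set G) \ (↑W₁ ∪ ↑W₂)) := by
    have hsurj : ∀ U : Subgroup G, U ≤ W → ∀ y ∈ U, ∃ x ∈ U, g * x * g⁻¹ = y := by
      intro U hU y hy
      let f : U → U := fun x => ⟨g * x * g⁻¹, hcard U hU x x.2⟩
      have hf : Function.Surjective f := Finite.surjective_of_injective fun a b h =>
        Subtype.ext (mul_left_cancel (mul_right_cancel (congrArg Subtype.val h)))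
      obtain ⟨x, hx⟩ := hf ⟨y, hy⟩
      exact ⟨x, x.2, congrArg Subtype.val hx⟩
    rintro x ⟨hx, hx'⟩
    refine ⟨hconjW x hx, fun h => hx' ?_⟩
    rcases h with h | h
    · obtain ⟨x', hx1, he⟩ := hsurj W₁ le_sup_left _ h
      exact Or.inl (mul_left_cancel (mul_right_cancel he) ▸ hx1)
    · obtain ⟨x', hx1, he⟩ := hsurj W₂ le_sup_right _ h
      exact Or.inr (mul_left_cancel (mul_right_cancel he) ▸ hx1)
  rw [← hW.2.2.2.2.2 _ subset_rfl ⟨v, hv⟩, Subgroup.mem_set_normalizer_iff]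
  intro x
  refine ⟨hfwd x, fun hx => ?_⟩
  set V := ((W : Set G) \ (↑W₁ ∪ ↑W₂))
  let f : V → V := fun y => ⟨g * y * g⁻¹, hfwd y y.2⟩
  obtain ⟨⟨a, ha⟩, hax⟩ := Finite.surjective_of_injective (f := f)
    (fun a b h => Subtype.ext (mul_left_cancel (mul_right_cancel (congrArg Subtype.val h))))
    ⟨_, hx⟩
  exact mul_left_cancel (mul_right_cancel (congrArg Subtype.val hax)) ▸ ha

/-! ## The functions `(1 - φ)(1 - ψ)` -/

/-- `(1 - φ)(1 - ψ)`. -/
def alpha (φ ψ : W →* ℂˣ) : W → ℂ :=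
  fun w => 1 - (φ w : ℂ) - (ψ w : ℂ) + (φ w : ℂ) * (ψ w : ℂ)

theorem alpha_eq (φ ψ : W →* ℂˣ) : alpha φ ψ = ev 1 - ev φ - ev ψ + ev (φ * ψ) := by
  funext w; simp [alpha, ev]

theorem alpha_zero {φ ψ : W →* ℂˣ} (hφ : OnFirst φ) (hψ : OnSecond ψ) (w : W)
    (hw : (w : G) ∈ W₁ ∨ (w : G) ∈ W₂) : alpha φ ψ w = 0 := by
  rcases hw with h | h
  · simp [alpha, hψ w h]
  · simp [alpha, hφ w h]

variable [Fintype G] [Fintype ↥(W₁ ⊔ W₂)]

theorem classInner_alpha [Fintype (W →* ℂˣ)] [DecidableEq (W →* ℂˣ)] (φ ψ : W →* ℂˣ)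
    (f : W → ℂ) : Cfsg.classInner f (alpha φ ψ) =
      Cfsg.classInner f (ev 1) - Cfsg.classInner f (ev φ) - Cfsg.classInner f (ev ψ) +
        Cfsg.classInner f (ev (φ * ψ)) := by
  rw [alpha_eq, classInner_add_right, classInner_sub_right, classInner_sub_right]

/-- A function whose coefficients are additive in the two variables vanishes off both factors. -/
theorem eq_zero_of_orth (hW : Cfsg.IsSelfNormalizingCyclic W₁ W₂) (g : W → ℂ)
    (hg : ∀ φ ψ : W →* ℂˣ, φ ≠ 1 → ψ ≠ 1 → OnFirst φ → OnSecond ψ →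
      Cfsg.classInner g (alpha φ ψ) = 0)
    (w : W) (hw₁ : (w : G) ∉ W₁) (hw₂ : (w : G) ∉ W₂) : g w = 0 := by
  classical
  have := Fintype.ofFinite (W →* ℂˣ)
  set c : (W →* ℂˣ) → ℂ := fun ω => Cfsg.classInner g (ev ω) with hc
  have hadd : ∀ φ ψ, OnFirst φ → OnSecond ψ → c (φ * ψ) = c φ + c ψ - c 1 := by
    intro φ ψ hφ hψ
    by_cases h1 : φ = 1
    · subst h1; rw [show (1 : W →* ℂˣ) * ψ = ψ from MonoidHom.ext fun x => one_mul _]; ring
    by_cases h2 : ψ = 1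
    · subst h2; rw [show φ * (1 : W →* ℂˣ) = φ from MonoidHom.ext fun x => mul_one _]; ring
    have := hg φ ψ h1 h2 hφ hψ
    rw [classInner_alpha] at this
    simp only [hc]
    linear_combination this
  have hzero : ∀ (P : (W →* ℂˣ) → Prop) (f₀ : W →* ℂˣ), P f₀ → (∀ f, P f ↔ P (f₀ * f)) →
      f₀ w ≠ 1 → ∑ f : {f // P f}, ev f.1 w = 0 := by
    intro P f₀ hP0 hP h0
    have h : ∑ f : {f // P f}, ev f.1 w = ev f₀ w * ∑ f : {f // P f}, ev f.1 w := by
      rw [Finset.mul_sum]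
      exact (Fintype.sum_equiv ((Equiv.mulLeft f₀).subtypeEquiv hP) _ _
        (fun f => by show _ = ev (f₀ * f.1) w; simp [ev])).symm
    have h' : (ev f₀ w - 1) * ∑ f : {f // P f}, ev f.1 w = 0 := by linear_combination -h
    refine (mul_eq_zero.mp h').resolve_left (sub_ne_zero.mpr fun h'' => h0 (Units.ext h''))
  have hnefirst : pr₁ hW w ≠ 1 := fun h => hw₂ (by
    have := pr₂_mem hW w
    rwa [show pr₂ hW w = w by conv_rhs => rw [← pr_mul hW w, h, one_mul]] at this)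
  have hnesecond : pr₂ hW w ≠ 1 := fun h => hw₁ (by
    have := pr₁_mem hW w
    rwa [show pr₁ hW w = w by conv_rhs => rw [← pr_mul hW w, h, mul_one]] at this)
  obtain ⟨f, hf⟩ := exists_hom_ne_one (comm hW) hnefirst
  obtain ⟨f', hf'⟩ := exists_hom_ne_one (comm hW) hnesecond
  have hS1 : ∑ φ : {φ : W →* ℂˣ // OnFirst φ}, ev φ.1 w = 0 :=
    hzero OnFirst _ (onFirst_comp hW f) (fun φ =>
      ⟨fun h x hx => by rw [MonoidHom.mul_apply, h x hx, onFirst_comp hW f x hx, one_mul],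
        fun h x hx => by simpa [onFirst_comp hW f x hx] using h x hx⟩) hf
  have hS2 : ∑ ψ : {ψ : W →* ℂˣ // OnSecond ψ}, ev ψ.1 w = 0 :=
    hzero OnSecond _ (onSecond_comp hW f') (fun φ =>
      ⟨fun h x hx => by rw [MonoidHom.mul_apply, h x hx, onSecond_comp hW f' x hx, one_mul],
        fun h x hx => by simpa [onSecond_comp hW f' x hx] using h x hx⟩) hf'
  rw [expand (comm hW) g w, ← (dualEquiv hW).sum_comp, Fintype.sum_prod_type]
  have : ∀ (φ : {φ : W →* ℂˣ // OnFirst φ}) (ψ : {ψ : W →* ℂˣ // OnSecond ψ}),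
      c (dualEquiv hW (φ, ψ)) * ev (dualEquiv hW (φ, ψ)) w =
        (c φ.1 - c 1) * ev φ.1 w * ev ψ.1 w + ev φ.1 w * (c ψ.1 * ev ψ.1 w) := by
    intro φ ψ
    show c (φ.1 * ψ.1) * ev (φ.1 * ψ.1) w = _
    rw [hadd φ.1 ψ.1 φ.2 ψ.2, ev_mul]
    ring
  simp only [hc] at this
  simp only [this, Finset.sum_add_distrib, ← Finset.mul_sum, hS2, mul_zero, Finset.sum_const_zero,
    zero_add, ← Finset.sum_mul, hS1, zero_mul]

theorem classInner_indFun (φ ψ : W →* ℂˣ) {θ : G → ℂ}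
    (hθ : Cfsg.IsClassFunction G θ) :
    Cfsg.classInner (Cfsg.indFun (W) (alpha φ ψ)) θ =
      Cfsg.classInner (alpha φ ψ) (fun w : W => θ w) :=
  frobenius_reciprocity _ _ hθ

theorem indFun_alpha_apply (hW : Cfsg.IsSelfNormalizingCyclic W₁ W₂) {φ ψ : W →* ℂˣ}
    (hφ : OnFirst φ) (hψ : OnSecond ψ) (w : W) (hw₁ : (w : G) ∉ W₁) (hw₂ : (w : G) ∉ W₂) :
    Cfsg.indFun (W) (alpha φ ψ) w = alpha φ ψ w := by
  refine indFun_TI_apply' _ ((W : Set G) \ (↑W₁ ∪ ↑W₂))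
    (fun g hg t ht hgt => absurd (tiSet hW g t ht hgt) hg)
    (fun a b => congrArg _ (by rw [comm hW b a, mul_inv_cancel_right])) (fun x hx => ?_) w
    ⟨w.2, not_or.mpr ⟨hw₁, hw₂⟩⟩ (fun h => hw₁ (by rw [h]; exact one_mem _))
  refine alpha_zero hφ hψ x ?_
  by_contra h
  exact hx ⟨x.2, h⟩

theorem classInner_indFun_alpha (hW : Cfsg.IsSelfNormalizingCyclic W₁ W₂) {φ ψ φ' ψ' : W →* ℂˣ}
    (hφ : OnFirst φ) (hψ : OnSecond ψ) (hφ' : OnFirst φ') (hψ' : OnSecond ψ') :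
    Cfsg.classInner (Cfsg.indFun (W) (alpha φ ψ)) (Cfsg.indFun (W) (alpha φ' ψ')) =
      Cfsg.classInner (alpha φ ψ) (alpha φ' ψ') := by
  rw [classInner_indFun φ ψ (isClassFunction_indFun _ _), classInner_def, classInner_def]
  refine congrArg _ (Finset.sum_congr rfl fun x _ => ?_)
  by_cases hx : (x : G) ∈ W₁ ∨ (x : G) ∈ W₂
  · rw [alpha_zero hφ hψ x hx, zero_mul, zero_mul]
  · rw [not_or] at hx
    rw [indFun_alpha_apply hW hφ' hψ' x hx.1 hx.2]

open Classical in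
theorem gram (hW : Cfsg.IsSelfNormalizingCyclic W₁ W₂) {φ ψ φ' ψ' : W →* ℂˣ} (hφ : OnFirst φ)
    (hψ : OnSecond ψ) (hφ' : OnFirst φ') (hψ' : OnSecond ψ') (h1 : φ ≠ 1) (h2 : ψ ≠ 1)
    (h1' : φ' ≠ 1) (h2' : ψ' ≠ 1) :
    Cfsg.classInner (alpha φ ψ) (alpha φ' ψ') =
      1 + (if φ = φ' then 1 else 0) + (if ψ = ψ' then 1 else 0) +
        (if φ = φ' then 1 else 0) * (if ψ = ψ' then 1 else 0) := by
  have := Fintype.ofFinite (W →* ℂˣ)
  have key : ∀ {a b a' b' : W →* ℂˣ}, OnFirst a → OnSecond b → OnFirst a' → OnSecond b' →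
      Cfsg.classInner (ev (a * b)) (ev (a' * b')) = if a = a' ∧ b = b' then 1 else 0 :=
    fun ha hb ha' hb' => by
      rw [classInner_ev]; exact if_congr (mul_eq_iff hW ha hb ha' hb') rfl rfl
  have e1 := key onFirst_one onSecond_one onFirst_one onSecond_one
  have e2 := key onFirst_one onSecond_one hφ' onSecond_one
  have e3 := key onFirst_one onSecond_one onFirst_one hψ'
  have e4 := key onFirst_one onSecond_one hφ' hψ'
  have e5 := key hφ onSecond_one onFirst_one onSecond_one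
  have e6 := key hφ onSecond_one hφ' onSecond_one
  have e7 := key hφ onSecond_one onFirst_one hψ'
  have e8 := key hφ onSecond_one hφ' hψ'
  have e9 := key onFirst_one hψ onFirst_one onSecond_one
  have e10 := key onFirst_one hψ hφ' onSecond_one
  have e11 := key onFirst_one hψ onFirst_one hψ'
  have e12 := key onFirst_one hψ hφ' hψ'
  have e13 := key hφ hψ onFirst_one onSecond_one
  have e14 := key hφ hψ hφ' onSecond_one
  have e15 := key hφ hψ onFirst_one hψ'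
  have e16 := key hφ hψ hφ' hψ'
  simp only [hom_mul_one, hom_one_mul] at e1 e2 e3 e4 e5 e6 e7 e8 e9 e10 e11 e12 e13 e14 e15 e16
  rw [alpha_eq φ ψ, classInner_add_left, classInner_sub_left, classInner_sub_left, classInner_alpha,
    classInner_alpha, classInner_alpha, classInner_alpha, e1, e2, e3, e4, e5, e6, e7, e8, e9, e10,
    e11, e12, e13, e14, e15, e16]
  simp only [h1, h2, h1', h2', Ne.symm h1, Ne.symm h2, Ne.symm h1', Ne.symm h2', false_and, and_false,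
    if_false, and_self, if_true, and_true, true_and]
  by_cases hp : φ = φ' <;> by_cases hq : ψ = ψ' <;> simp [hp, hq]

theorem classInner_alpha_one (hW : Cfsg.IsSelfNormalizingCyclic W₁ W₂) {φ ψ : W →* ℂˣ}
    (hφ : OnFirst φ) (hψ : OnSecond ψ) (h1 : φ ≠ 1) (h2 : ψ ≠ 1) :
    Cfsg.classInner (alpha φ ψ) (ev 1) = 1 := by
  classical
  have := Fintype.ofFinite (W →* ℂˣ)
  rw [alpha_eq, classInner_add_left, classInner_sub_left, classInner_sub_left, classInner_ev,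
    classInner_ev, classInner_ev, classInner_ev, if_pos rfl, if_neg h1, if_neg h2,
    if_neg (mul_ne_one hW hφ hψ h1)]
  ring

end Cfsg.Lib.CyclicTI
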