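import Cfsg.Agent.OddChar.Dade

/-!
# The Dade map preserves generalised characters

Dade's formula: the image of `α` is an alternating sum, over the nonempty subsets `B` of `A`, of the
characters induced from `H(B) N_L(B)`, where `H(B)` is the intersection of the `H(b)`.
-/

namespace Cfsg.Lib.Dade

open scoped ComplexConjugate
open Cfsg.Lib.Chars

universe u

variable {G : Type u} [Group G]

open Classical in
theorem coset_average [Fintype G] (K : Subgroup G) {n : G}
    (hn : n ∈ Subgroup.normalizer (K : Set G)) (hcop : Nat.Coprime (orderOf n) (Nat.card K))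
    (f : G → ℂ) (hf : ∀ y k : G, f (k * y * k⁻¹) = f y) :
    (Nat.card K : ℂ)⁻¹ * ∑ k ∈ Finset.univ.filter (· ∈ K), f (k * n) =
      (Nat.card (K ⊓ Subgroup.centralizer ({n} : Set G) : Subgroup G) : ℂ)⁻¹ *
        ∑ c ∈ Finset.univ.filter (· ∈ K ⊓ Subgroup.centralizer ({n} : Set G)), f (c * n) := by
  classical
  set C := K ⊓ Subgroup.centralizer ({n} : Set G) with hC
  set sK := Finset.univ.filter (· ∈ K) with hsK
  set sC := Finset.univ.filter (· ∈ C) with hsC
  have hKc : sK.card = Nat.card K := by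
    rw [Nat.card_eq_fintype_card, Fintype.card_subtype]
  have hCc : sC.card = Nat.card C := by
    rw [Nat.card_eq_fintype_card, Fintype.card_subtype]
  obtain ⟨t, ht0, ht1⟩ := Nat.chineseRemainder hcop.symm 0 1
  have hpow : ∀ c ∈ C, (c * n) ^ t = n := by
    intro c hc
    have hcomm : Commute c n := Subgroup.mem_centralizer_singleton_iff.mp hc.2
    obtain ⟨d, hd⟩ := Nat.modEq_zero_iff_dvd.mp ht0
    rw [hcomm.mul_pow, show c ^ t = 1 by rw [hd, pow_mul, pow_card_mem hc.1, one_pow], one_mul]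
    conv_rhs => rw [← pow_one n]
    exact pow_eq_pow_iff_modEq.mpr ht1
  let Ψ : G × G → G := fun p => p.1 * (p.2 * n) * p.1⁻¹ * n⁻¹
  have hmaps : ∀ p ∈ sK ×ˢ sC, Ψ p ∈ sK := by
    rintro ⟨k, c⟩ hp
    simp only [hsK, hsC, Finset.mem_product, Finset.mem_filter, Finset.mem_univ, true_and] at hp ⊢
    rw [show Ψ (k, c) = k * c * (n * k⁻¹ * n⁻¹) by simp only [Ψ]; group]
    exact mul_mem (mul_mem hp.1 hp.2.1) ((Subgroup.mem_normalizer_iff.mp hn _).mp (inv_mem hp.1))
  have hfib : ∀ y ∈ sK, ((sK ×ˢ sC).filter fun p => Ψ p = y).card = Nat.card C := by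
    intro y hy
    simp only [hsK, Finset.mem_filter, Finset.mem_univ, true_and] at hy
    obtain ⟨x, hx, c₀, hc₀, hcn, hxe⟩ :=
      exists_conj_centralizer_mul K (pow_orderOf_eq_one n) hn hcop hy
    have hc₀C : c₀ ∈ C := ⟨hc₀, Subgroup.mem_centralizer_singleton_iff.mpr hcn⟩
    rw [← hCc]
    refine (Finset.card_bij' (fun p _ => x * p.1) (fun e _ => (x⁻¹ * e, e⁻¹ * c₀ * e))
      ?_ ?_ ?_ ?_)
    · rintro ⟨k, c⟩ hp
      simp only [hsK, hsC, Finset.mem_product, Finset.mem_filter, Finset.mem_univ, true_and,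
        Ψ] at hp ⊢
      obtain ⟨⟨hk, hc⟩, he⟩ := hp
      have h1 : (x * k) * (c * n) * (x * k)⁻¹ = c₀ * n := by
        rw [← hxe, ← he]; group
      have h2 := congrArg (fun z => z ^ t) h1
      simp only [conj_pow, hpow c hc, hpow c₀ hc₀C] at h2
      refine ⟨mul_mem hx hk, Subgroup.mem_centralizer_singleton_iff.mpr ?_⟩
      exact mul_inv_eq_iff_eq_mul.mp h2
    · intro e he
      simp only [hsK, hsC, Finset.mem_product, Finset.mem_filter, Finset.mem_univ, true_and,
        Ψ] at he ⊢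
      refine ⟨⟨mul_mem (inv_mem hx) he.1, mul_mem (mul_mem (inv_mem he) hc₀C) he⟩, ?_⟩
      have hen : e * n = n * e := Subgroup.mem_centralizer_singleton_iff.mp he.2
      calc x⁻¹ * e * (e⁻¹ * c₀ * e * n) * (x⁻¹ * e)⁻¹ * n⁻¹
          = x⁻¹ * (c₀ * (e * n) * e⁻¹) * x * n⁻¹ := by group
        _ = x⁻¹ * (c₀ * n) * x * n⁻¹ := by rw [hen]; group
        _ = y := by rw [← hxe]; group
    · rintro ⟨k, c⟩ hp
      simp only [hsK, hsC, Finset.mem_product, Finset.mem_filter, Finset.mem_univ, true_and,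
        Ψ] at hp ⊢
      obtain ⟨⟨hk, hc⟩, he⟩ := hp
      have h1 : (x * k) * (c * n) * (x * k)⁻¹ = c₀ * n := by
        rw [← hxe, ← he]; group
      have h2 := congrArg (fun z => z ^ t) h1
      simp only [conj_pow, hpow c hc, hpow c₀ hc₀C] at h2
      refine Prod.ext (by simp [mul_assoc]) ?_
      show (x * k)⁻¹ * c₀ * (x * k) = c
      have h3 : n * (x * k) = (x * k) * n := (mul_inv_eq_iff_eq_mul.mp h2).symm
      calc (x * k)⁻¹ * c₀ * (x * k) = (x * k)⁻¹ * (c₀ * n) * (n⁻¹ * (x * k)) := by group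
        _ = (x * k)⁻¹ * (c₀ * n) * ((x * k) * n⁻¹) := by
          congr 1
          rw [eq_mul_inv_iff_mul_eq, mul_assoc, ← h3]; group
        _ = c := by rw [← h1]; group
    · intro e _
      simp
  have h1 : ∑ p ∈ sK ×ˢ sC, f (p.2 * n) = (Nat.card K : ℂ) * ∑ c ∈ sC, f (c * n) := by
    simp only [Finset.sum_product, Finset.sum_const, nsmul_eq_mul, hKc]
  have h2 : ∑ p ∈ sK ×ˢ sC, f (p.2 * n) = (Nat.card C : ℂ) * ∑ k ∈ sK, f (k * n) := by
    rw [← Finset.sum_fiberwise_of_maps_to hmaps, Finset.mul_sum]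
    refine Finset.sum_congr rfl fun y hy => ?_
    rw [Finset.sum_congr rfl (g := fun _ => f (y * n)) fun p hp => ?_, Finset.sum_const,
      nsmul_eq_mul, hfib y hy]
    rw [Finset.mem_filter] at hp
    rw [← hp.2]
    simp only [Ψ, inv_mul_cancel_right]
    exact (hf _ _).symm
  have hK0 : (Nat.card K : ℂ) ≠ 0 := Nat.cast_ne_zero.mpr Nat.card_pos.ne'
  have hC0 : (Nat.card C : ℂ) ≠ 0 := Nat.cast_ne_zero.mpr Nat.card_pos.ne'
  rw [h2] at h1
  rw [inv_mul_eq_iff_eq_mul₀ hK0, mul_left_comm, ← h1, inv_mul_cancel_left₀ hC0]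

variable {A : Set G} {L : Subgroup G} {H : G → Subgroup G}

open Classical in
/-- Conjugation of a finite subset of `L`. -/
noncomputable def cj (l : L) (B : Finset L) : Finset L := B.image fun b => l * b * l⁻¹

theorem cj_one (B : Finset L) : cj 1 B = B := by
  classical
  ext b
  simp [cj]

theorem cj_mul (l m : L) (B : Finset L) : cj (l * m) B = cj l (cj m B) := by
  classical
  simp only [cj, Finset.image_image]
  congr 1
  funext b
  simp only [Function.comp_apply]
  group

theorem card_cj (l : L) (B : Finset L) : (cj l B).card = B.card := by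
  classical
  exact Finset.card_image_of_injective _ fun a b h => mul_left_cancel (mul_right_cancel h)

theorem mem_cj (l : L) (B : Finset L) (b : L) : b ∈ cj l B ↔ l⁻¹ * b * l ∈ B := by
  classical
  simp only [cj, Finset.mem_image]
  constructor
  · rintro ⟨a, ha, rfl⟩; simpa [mul_assoc] using ha
  · exact fun h => ⟨_, h, by group⟩

/-- The stabiliser of a subset. -/
def stab (B : Finset L) : Subgroup L where
  carrier := {l | cj l B = B}
  one_mem' := cj_one B
  mul_mem' := fun {l m} hl hm => by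
    show cj (l * m) B = B
    rw [cj_mul]
    show cj l (cj m B) = B
    rw [show cj m B = B from hm]
    exact hl
  inv_mem' := fun {l} hl => by
    show cj l⁻¹ B = B
    conv_lhs => rw [← show cj l B = B from hl]
    rw [← cj_mul, inv_mul_cancel, cj_one]

theorem mem_stab {B : Finset L} {l : L} : l ∈ stab B ↔ cj l B = B := Iff.rfl

theorem mem_stab_cj (l n : L) (B : Finset L) :
    l * n * l⁻¹ ∈ stab (cj l B) ↔ n ∈ stab B := by
  rw [mem_stab, mem_stab, ← cj_mul, show l * n * l⁻¹ * l = l * n by group, cj_mul]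
  constructor
  · intro h
    have := congrArg (cj l⁻¹) h
    rwa [← cj_mul, ← cj_mul l⁻¹ l, inv_mul_cancel, cj_one, cj_one] at this
  · intro h; rw [h]

/-- The intersection of the `H b` over a subset. -/
def HB (H : G → Subgroup G) (B : Finset L) : Subgroup G := B.inf fun b => H (b : G)

theorem mem_HB {B : Finset L} {k : G} : k ∈ HB H B ↔ ∀ b ∈ B, k ∈ H (b : G) := by
  simp only [HB, Finset.inf_eq_iInf, Subgroup.mem_iInf]

theorem conj_mem_HB (hD : Cfsg.DadeHypothesis A L H) {B : Finset L}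
    (hB : ∀ b ∈ B, (b : G) ∈ A) (l : L) {k : G} (hk : k ∈ HB H B) :
    (l : G) * k * (l : G)⁻¹ ∈ HB H (cj l B) := by
  rw [mem_HB] at hk ⊢
  intro b hb
  rw [mem_cj] at hb
  exact conj_mem_H' hD (hB _ hb)
    (by simpa [mul_assoc] using hD.conj_mem (l : G) l.2 _ (hB _ hb))
    (by simp [mul_assoc]) (hk _ hb)

theorem stab_le_normalizer (hD : Cfsg.DadeHypothesis A L H) {B : Finset L}
    (hB : ∀ b ∈ B, (b : G) ∈ A) {l : L} (hl : l ∈ stab B) :
    (l : G) ∈ Subgroup.normalizer (HB H B : Set G) := by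
  rw [Subgroup.mem_normalizer_iff]
  intro k
  refine ⟨fun hk => ?_, fun hk => ?_⟩
  · have := conj_mem_HB hD hB l hk
    rwa [mem_stab.mp hl] at this
  · have := conj_mem_HB hD hB l⁻¹ hk
    rw [mem_stab.mp (inv_mem hl)] at this
    simpa [mul_assoc] using this

theorem eq_one_of_mem_HB (hD : Cfsg.DadeHypothesis A L H) {B : Finset L}
    (hB : ∀ b ∈ B, (b : G) ∈ A) (hne : B.Nonempty) {k : G} (hk : k ∈ HB H B) (hkL : k ∈ L) :
    k = 1 := by
  obtain ⟨b, hb⟩ := hne
  have h := mem_HB.mp hk b hb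
  exact Subgroup.mem_bot.mp
    ((hD.inf_eq_bot _ (hB b hb)).le ⟨h, hkL, hD.le_centralizer _ (hB b hb) h⟩)

/-- The group `H(B) N_L(B)`. -/
def mGroup (hD : Cfsg.DadeHypothesis A L H) {B : Finset L} (hB : ∀ b ∈ B, (b : G) ∈ A) :
    Subgroup G where
  carrier := {y | ∃ k ∈ HB H B, ∃ l ∈ stab B, y = k * (l : G)}
  one_mem' := ⟨1, one_mem _, 1, one_mem _, by simp⟩
  mul_mem' := by
    rintro _ _ ⟨k, hk, l, hl, rfl⟩ ⟨k', hk', l', hl', rfl⟩
    exact ⟨k * ((l : G) * k' * (l : G)⁻¹),
      mul_mem hk ((Subgroup.mem_normalizer_iff.mp (stab_le_normalizer hD hB hl) k').mp hk'),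
      l * l', mul_mem hl hl', by rw [Subgroup.coe_mul]; group⟩
  inv_mem' := by
    rintro _ ⟨k, hk, l, hl, rfl⟩
    exact ⟨(l : G)⁻¹ * k⁻¹ * (l : G),
      by simpa using (Subgroup.mem_normalizer_iff.mp
        (stab_le_normalizer hD hB (inv_mem hl)) k⁻¹).mp (inv_mem hk),
      l⁻¹, inv_mem hl, by rw [Subgroup.coe_inv]; group⟩

theorem mGroup_unique (hD : Cfsg.DadeHypothesis A L H) {B : Finset L}
    (hB : ∀ b ∈ B, (b : G) ∈ A) (hne : B.Nonempty) {k k' : G} {l l' : L} (hk : k ∈ HB H B)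
    (hk' : k' ∈ HB H B) (h : k * (l : G) = k' * (l' : G)) : k = k' ∧ l = l' := by
  have h2 : k'⁻¹ * k = (l' : G) * (l : G)⁻¹ := by
    rw [eq_mul_inv_iff_mul_eq, mul_assoc, h, inv_mul_cancel_left]
  have h3 := eq_one_of_mem_HB hD hB hne (mul_mem (inv_mem hk') hk)
    (h2 ▸ mul_mem l'.2 (inv_mem l.2))
  refine ⟨(inv_mul_eq_one.mp h3).symm, Subtype.ext ?_⟩
  rw [h3] at h2
  exact (mul_inv_eq_one.mp h2.symm).symm

variable [Fintype G] [Fintype L]

open Classical in
/-- The summand of Dade's formula, as a count. -/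
noncomputable def phi (H : G → Subgroup G) (α : L → ℂ) (B : Finset L) (g : G) : ℂ :=
  ∑ n : L, if n ∈ stab B then
    α n * ((Nat.card (HB H B) : ℂ)⁻¹ *
      ∑ k ∈ Finset.univ.filter (· ∈ HB H B), (cnt g (k * (n : G)) : ℂ)) else 0

theorem phi_eq_indFun (hD : Cfsg.DadeHypothesis A L H) {α : L → ℂ}
    (hα : Cfsg.IsGeneralizedCharacter L α) {B : Finset L} (hB : ∀ b ∈ B, (b : G) ∈ A)
    (hne : B.Nonempty) :
    ∃ χ : G → ℂ, Cfsg.IsGeneralizedCharacter G χ ∧
      phi H α B = fun g => (Nat.card (stab B) : ℂ) * χ g := by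
  classical
  set M := mGroup hD hB with hM
  choose k hk l hl he using fun m : M => m.2
  let f : M →* L := MonoidHom.mk' l fun x y => by
    refine (mGroup_unique hD hB hne (hk (x * y)) (k' := k x * ((l x : G) * k y * (l x : G)⁻¹))
      ?_ ?_).2
    · exact mul_mem (hk x)
        ((Subgroup.mem_normalizer_iff.mp (stab_le_normalizer hD hB (hl x)) _).mp (hk y))
    · rw [← he, Subgroup.coe_mul, he x, he y, Subgroup.coe_mul]; group
  refine ⟨Cfsg.indFun M fun m => α (f m),
    IsGeneralizedCharacter.indFun (IsGeneralizedCharacter.comp_hom hα f), funext fun g => ?_⟩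
  let e : HB H B × stab B ≃ M :=
    { toFun := fun p => ⟨(p.1 : G) * ((p.2 : L) : G), p.1, p.1.2, p.2, p.2.2, rfl⟩
      invFun := fun m => (⟨k m, hk m⟩, ⟨l m, hl m⟩)
      left_inv := fun p => by
        set m : M := ⟨(p.1 : G) * ((p.2 : L) : G), p.1, p.1.2, p.2, p.2.2, rfl⟩
        obtain ⟨h1, h2⟩ := mGroup_unique hD hB hne (hk m) p.1.2 (l' := (p.2 : L)) (he m).symm
        exact Prod.ext (Subtype.ext h1) (Subtype.ext h2)
      right_inv := fun m => Subtype.ext (he m).symm }
  have hef : ∀ p : HB H B × stab B, f (e p) = p.2 := fun p => by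
    have := e.left_inv p
    exact congrArg (fun q : HB H B × stab B => (q.2 : L)) this
  have hS : ∑ x : G, Cfsg.extendByZero M (fun m => α (f m)) (x⁻¹ * g * x) =
      ∑ y : G, Cfsg.extendByZero M (fun m => α (f m)) y * (cnt g y : ℂ) := by
    rw [← Finset.sum_fiberwise Finset.univ (fun x : G => x⁻¹ * g * x)]
    refine Finset.sum_congr rfl fun y _ => ?_
    rw [Finset.sum_congr rfl (g := fun _ => Cfsg.extendByZero M (fun m => α (f m)) y)
      (fun x hx => by rw [(Finset.mem_filter.mp hx).2]), Finset.sum_const, nsmul_eq_mul, mul_comm,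
      cnt, Nat.card_eq_fintype_card, Fintype.card_subtype]
  have := Fintype.ofFinite M
  have hcard : Nat.card M = Nat.card (HB H B) * Nat.card (stab B) := by
    rw [← Nat.card_prod]; exact (Nat.card_congr e).symm
  rw [indFun_apply, hS, sum_extendByZero, ← e.sum_comp, Fintype.sum_prod_type, Finset.sum_comm,
    hcard, phi, ← Finset.sum_filter,
    Finset.sum_subtype (p := fun n : L => n ∈ stab B) _ (fun n => by simp) _]
  simp only [Finset.mul_sum, hef]
  refine Finset.sum_congr rfl fun n _ => ?_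
  rw [Finset.sum_subtype (p := fun k : G => k ∈ HB H B) _ (fun k => by simp) _]
  refine Finset.sum_congr rfl fun j _ => ?_
  have hH0 : (Nat.card (HB H B) : ℂ) ≠ 0 := Nat.cast_ne_zero.mpr Nat.card_pos.ne'
  have hS0 : (Nat.card (stab B) : ℂ) ≠ 0 := Nat.cast_ne_zero.mpr Nat.card_pos.ne'
  show _ = _ * (_ * (α ((n : stab B) : L) * (cnt g ((j : G) * ((n : L) : G)) : ℂ)))
  push_cast
  field_simp

theorem phi_cj (hD : Cfsg.DadeHypothesis A L H) {α : L → ℂ} (hα : Cfsg.IsClassFunction L α)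
    {B : Finset L} (hB : ∀ b ∈ B, (b : G) ∈ A) (l : L) (g : G) :
    phi H α (cj l B) g = phi H α B g := by
  classical
  have hB' : ∀ b ∈ cj l B, (b : G) ∈ A := fun b hb => by
    rw [mem_cj] at hb
    simpa [mul_assoc] using hD.conj_mem (l : G) l.2 _ (hB _ hb)
  have hmem : ∀ k : G, k ∈ HB H B ↔ (l : G) * k * (l : G)⁻¹ ∈ HB H (cj l B) := fun k => by
    refine ⟨fun hk => conj_mem_HB hD hB l hk, fun hk => ?_⟩
    have := conj_mem_HB hD hB' l⁻¹ hk
    rw [← cj_mul, inv_mul_cancel, cj_one] at this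
    simpa [mul_assoc] using this
  have hcard : Nat.card (HB H (cj l B)) = Nat.card (HB H B) :=
    (Nat.card_congr ((MulAut.conj (l : G)).toEquiv.subtypeEquiv fun k => hmem k)).symm
  simp only [phi]
  refine (Fintype.sum_equiv (MulAut.conj l).toEquiv _ _ fun n => ?_).symm
  simp only [MulEquiv.toEquiv_eq_coe, EquivLike.coe_coe, MulAut.conj_apply]
  refine if_congr (mem_stab_cj l n B).symm ?_ rfl
  rw [hα n l, hcard]
  congr 2
  refine Finset.sum_equiv (MulAut.conj (l : G)).toEquiv (fun k => ?_) fun k _ => ?_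
  · simp only [Finset.mem_filter, Finset.mem_univ, true_and, MulEquiv.toEquiv_eq_coe,
      EquivLike.coe_coe, MulAut.conj_apply]
    exact hmem k
  · simp only [MulEquiv.toEquiv_eq_coe, EquivLike.coe_coe, MulAut.conj_apply]
    rw [← cnt_conj g (k * (n : G)) (l : G)]
    congr 2
    push_cast
    group

theorem HB_inf_centralizer (hD : Cfsg.DadeHypothesis A L H) [DecidableEq L] {B : Finset L}
    (hB : ∀ b ∈ B, (b : G) ∈ A) (hne : B.Nonempty) (n : L) (hn : (n : G) ∈ A) :
    HB H B ⊓ Subgroup.centralizer ({(n : G)} : Set G) = HB H (insert n B) := by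
  ext k
  simp only [Subgroup.mem_inf, mem_HB, Finset.mem_insert, forall_eq_or_imp]
  constructor
  · rintro ⟨hk, hkc⟩
    obtain ⟨b, hb⟩ := hne
    exact ⟨mem_H hD hn hkc (pow_card_mem (hk b hb)) (hD.coprime _ (hB b hb) _ hn), hk⟩
  · rintro ⟨hkn, hk⟩
    exact ⟨hk, hD.le_centralizer _ hn hkn⟩

open Classical in
theorem sum_phi (hD : Cfsg.DadeHypothesis A L H) {α : L → ℂ}
    (hα : Cfsg.IsClassFunction L α) (hαA : ∀ x : L, (x : G) ∉ A → α x = 0) (g : G) :
    ∑ B ∈ ((Finset.univ.filter fun n : L => (n : G) ∈ A).powerset.erase ∅),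
      (-1 : ℂ) ^ (B.card + 1) * phi H α B g =
        (Nat.card L : ℂ) * Cfsg.dadeIsometry A L H α g := by
  rw [card_mul_dade hD hα hαA]
  simp only [phi, Finset.mul_sum, finsum_mem_eq_finite_toFinset_sum _ (Set.toFinite _)]
  rw [Finset.sum_comm]
  refine Finset.sum_congr rfl fun n _ => ?_
  by_cases hn : (n : G) ∈ A
  swap
  · simp [hαA n hn]
  simp only [← Finset.mul_sum]
  set AF := Finset.univ.filter (fun n : L => (n : G) ∈ A) with hAF
  have hsub : ∀ B ∈ AF.powerset, ∀ b ∈ B, (b : G) ∈ A := fun B hB b hb => by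
    have := Finset.mem_powerset.mp hB hb
    simpa [hAF] using this
  set T : Finset L → ℂ := fun B => (Nat.card (HB H (insert n B)) : ℂ)⁻¹ *
    ∑ k ∈ Finset.univ.filter (· ∈ HB H (insert n B)), (cnt g (k * (n : G)) : ℂ) with hT
  have h0 : ∑ B ∈ AF.powerset.filter (fun B => n ∈ stab B), (-1 : ℂ) ^ B.card * T B = 0 := by
    refine Finset.sum_involution
      (fun B _ => if n ∈ B then B.erase n else insert n B) ?_ ?_ ?_ ?_
    · intro B _
      by_cases h : n ∈ B
      · simp only [if_pos h, hT, Finset.insert_erase h, Finset.insert_eq_of_mem h]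
        rw [← Finset.card_erase_add_one h, pow_succ]
        ring
      · simp only [if_neg h, hT, Finset.insert_idem, Finset.card_insert_of_notMem h, pow_succ]
        ring
    · intro B _ _
      by_cases h : n ∈ B
      · simp only [if_pos h]
        intro e
        rw [← e] at h
        exact (Finset.mem_erase.mp h).1 rfl
      · simp only [if_neg h]
        intro e
        rw [← e] at h
        exact h (Finset.mem_insert_self n B)
    · intro B hB
      rw [Finset.mem_filter, mem_stab] at hB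
      have hnn : ∀ b : L, n⁻¹ * b * n = n ↔ b = n := fun b => by
        constructor
        · intro h
          calc b = n * (n⁻¹ * b * n) * n⁻¹ := by group
            _ = n := by rw [h]; group
        · rintro rfl; group
      have key : ∀ b : L, n⁻¹ * b * n ∈ B ↔ b ∈ B := fun b => by
        conv_rhs => rw [← hB.2, mem_cj]
      rw [Finset.mem_filter, mem_stab, Finset.mem_powerset]
      split
      · refine ⟨(Finset.erase_subset _ _).trans (Finset.mem_powerset.mp hB.1), Finset.ext fun b => ?_⟩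
        rw [mem_cj, Finset.mem_erase, Finset.mem_erase, key, ne_eq, hnn]
      · refine ⟨Finset.insert_subset (by simp [hAF, hn]) (Finset.mem_powerset.mp hB.1),
          Finset.ext fun b => ?_⟩
        rw [mem_cj, Finset.mem_insert, Finset.mem_insert, key, hnn]
    · intro B _
      by_cases h : n ∈ B
      · simp [if_pos h, Finset.insert_erase h]
      · simp [if_neg h, Finset.erase_insert h]
  have hemp : (∅ : Finset L) ∈ AF.powerset.filter (fun B => n ∈ stab B) := by
    simp [mem_stab, cj]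
  rw [← Finset.add_sum_erase _ _ hemp, Finset.card_empty, pow_zero, one_mul] at h0
  have hT0 : T ∅ = (Nat.card (H (n : G)) : ℂ)⁻¹ *
      ∑ u ∈ (Set.toFinite (H (n : G) : Set G)).toFinset, (cnt g ((n : G) * u) : ℂ) := by
    have hHB : HB H ({n} : Finset L) = H (n : G) := Finset.inf_singleton
    simp only [hT, insert_empty_eq, hHB]
    congr 1
    refine Finset.sum_congr (by ext; simp) fun u hu => ?_
    rw [Set.Finite.mem_toFinset] at hu
    rw [(commute_H hD hn hu).eq]
  rw [← hT0]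
  have hrest : ∀ B ∈ AF.powerset.erase ∅,
      ((-1 : ℂ) ^ (B.card + 1) * if n ∈ stab B then α n * ((Nat.card (HB H B) : ℂ)⁻¹ *
        ∑ k ∈ Finset.univ.filter (· ∈ HB H B), (cnt g (k * (n : G)) : ℂ)) else 0) =
      α n * (if n ∈ stab B then -((-1 : ℂ) ^ B.card * T B) else 0) := by
    intro B hB
    rw [Finset.mem_erase] at hB
    by_cases hs : n ∈ stab B
    · rw [if_pos hs, if_pos hs]
      have hne : B.Nonempty := Finset.nonempty_iff_ne_empty.mpr hB.1
      have hcop : Nat.Coprime (orderOf (n : G)) (Nat.card (HB H B)) := by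
        obtain ⟨b, hb⟩ := hne
        refine Nat.Coprime.coprime_dvd_right ?_ (coprime_orderOf hD hn (hsub B hB.2 b hb)).symm
        exact Subgroup.card_dvd_of_le fun k hk => mem_HB.mp hk b hb
      rw [coset_average (HB H B) (stab_le_normalizer hD (hsub B hB.2) hs) hcop
        (fun y => (cnt g y : ℂ)) (fun y k => by rw [cnt_conj])]
      simp only [hT, HB_inf_centralizer hD (hsub B hB.2) hne n hn, pow_succ]
      ring
    · rw [if_neg hs, if_neg hs, mul_zero, mul_zero]
  rw [Finset.sum_congr rfl hrest, ← Finset.mul_sum]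
  congr 1
  rw [← Finset.sum_filter, Finset.filter_erase, Finset.sum_neg_distrib]
  linear_combination -h0

/-- The Dade map preserves generalised characters. -/
theorem isGeneralized_dade (hD : Cfsg.DadeHypothesis A L H) {α : L → ℂ}
    (hα : Cfsg.IsGeneralizedCharacter L α) (hαA : ∀ x : L, (x : G) ∉ A → α x = 0) :
    Cfsg.IsGeneralizedCharacter G (Cfsg.dadeIsometry A L H α) := by
  classical
  have hαc := isClassFunction_generalized hα
  set P := ((Finset.univ.filter fun n : L => (n : G) ∈ A).powerset.erase ∅) with hP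
  set orb : Finset L → Finset (Finset L) := fun B => Finset.univ.image fun l => cj l B with horb
  have hsub : ∀ B ∈ P, (∀ b ∈ B, (b : G) ∈ A) ∧ B.Nonempty := fun B hB => by
    rw [hP, Finset.mem_erase] at hB
    refine ⟨fun b hb => ?_, Finset.nonempty_iff_ne_empty.mpr hB.1⟩
    have := Finset.mem_powerset.mp hB.2 hb
    simpa using this
  have hL0 : (Nat.card L : ℂ) ≠ 0 := Nat.cast_ne_zero.mpr Nat.card_pos.ne'
  have htot : Cfsg.dadeIsometry A L H α = ∑ O ∈ P.image orb,
      ∑ B ∈ P.filter (fun B => orb B = O),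
        ((Nat.card L : ℂ)⁻¹ * (-1 : ℂ) ^ (B.card + 1)) • phi H α B := by
    rw [Finset.sum_fiberwise_of_maps_to (fun B hB => Finset.mem_image_of_mem orb hB)]
    funext g
    rw [Finset.sum_apply]
    simp only [Pi.smul_apply, smul_eq_mul, mul_assoc, ← Finset.mul_sum]
    rw [sum_phi hD hαc hαA, inv_mul_cancel_left₀ hL0]
  rw [htot]
  refine IsGeneralizedCharacter.sum _ _ fun O hO => ?_
  obtain ⟨B₀, hB₀, rfl⟩ := Finset.mem_image.mp hO
  obtain ⟨hA₀, hne₀⟩ := hsub B₀ hB₀
  have hfib : P.filter (fun B => orb B = orb B₀) = orb B₀ := by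
    ext B
    rw [Finset.mem_filter]
    constructor
    · rintro ⟨-, he⟩
      rw [← he]
      exact Finset.mem_image.mpr ⟨1, Finset.mem_univ _, cj_one B⟩
    · intro hB
      obtain ⟨l, -, rfl⟩ := Finset.mem_image.mp hB
      refine ⟨?_, ?_⟩
      · rw [hP, Finset.mem_erase, Finset.mem_powerset]
        refine ⟨Finset.card_ne_zero.mp (by rw [card_cj]; exact Finset.card_ne_zero.mpr hne₀) |>.ne_empty,
          fun b hb => ?_⟩
        rw [mem_cj] at hb
        simpa [mul_assoc] using hD.conj_mem (l : G) l.2 _ (hA₀ _ hb)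
      · ext C
        simp only [horb, Finset.mem_image, Finset.mem_univ, true_and]
        exact ⟨fun ⟨m, hm⟩ => ⟨m * l, by rw [cj_mul, hm]⟩,
          fun ⟨m, hm⟩ => ⟨m * l⁻¹, by rw [← cj_mul, inv_mul_cancel_right, hm]⟩⟩
  have hcard : (orb B₀).card * Nat.card (stab B₀) = Nat.card L := by
    rw [Nat.card_eq_fintype_card (α := L), ← Finset.card_univ,
      Finset.card_eq_sum_card_image (fun l => cj l B₀) Finset.univ,
      Finset.sum_congr rfl (g := fun _ => Nat.card (stab B₀)) fun C hC => ?_, Finset.sum_const,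
      smul_eq_mul]
    obtain ⟨l₀, -, rfl⟩ := Finset.mem_image.mp hC
    rw [← Fintype.card_subtype, ← Nat.card_eq_fintype_card]
    refine Nat.card_congr ((Equiv.mulLeft l₀⁻¹).subtypeEquiv fun l => ?_)
    rw [Equiv.coe_mulLeft, mem_stab, cj_mul]
    constructor
    · intro h; rw [h, ← cj_mul, inv_mul_cancel, cj_one]
    · intro h
      have := congrArg (cj l₀) h
      rwa [← cj_mul l₀ l₀⁻¹, mul_inv_cancel, cj_one] at this
  obtain ⟨χ, hχ, hphi⟩ := phi_eq_indFun hD hα hA₀ hne₀
  rw [hfib]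
  have hsum : ∑ B ∈ orb B₀, ((Nat.card L : ℂ)⁻¹ * (-1 : ℂ) ^ (B.card + 1)) • phi H α B =
      ((-1 : ℤ) ^ (B₀.card + 1)) • χ := by
    rw [Finset.sum_congr rfl (g := fun _ => ((Nat.card L : ℂ)⁻¹ * (-1 : ℂ) ^ (B₀.card + 1)) •
      phi H α B₀) fun B hB => ?_, Finset.sum_const]
    · funext g
      rw [hphi]
      simp only [Pi.smul_apply, smul_eq_mul, nsmul_eq_mul, zsmul_eq_mul]
      rw [← hcard]
      push_cast
      have h1 : ((orb B₀).card : ℂ) ≠ 0 := by
        exact_mod_cast left_ne_zero_of_mul (hcard.trans_ne Nat.card_pos.ne')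
      have h2 : (Nat.card (stab B₀) : ℂ) ≠ 0 := Nat.cast_ne_zero.mpr Nat.card_pos.ne'
      field_simp
    · obtain ⟨l, -, rfl⟩ := Finset.mem_image.mp hB
      rw [card_cj, funext (phi_cj hD hαc hA₀ l)]
  rw [hsum]
  exact IsGeneralizedCharacter.zsmul hχ _

end Cfsg.Lib.Dade
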