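import Cfsg.Agent.OddChar.Family
import Cfsg.Agent.Chars.Galois

/-!
# Galois action on the cyclic trivial-intersection family
-/

namespace Cfsg.Lib.CyclicTI

open scoped ComplexConjugate
open Cfsg.Lib.Chars Cfsg.Lib.Dual

universe u

variable {G : Type u} [Group G] [Fintype G] {W₁ W₂ : Subgroup G}

local notation "W" => (W₁ ⊔ W₂ : Subgroup G)

theorem conj_apply_inv {a : G → ℂ} (h : Cfsg.IsIrrCharacter G a ∨ Cfsg.IsIrrCharacter G (-a))
    (g : G) : a g⁻¹ = conj (a g) := by
  rcases h with h | h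
  · exact IsCharacter.conj_inv (isCharacter_of_irr h) g
  · have := IsCharacter.conj_inv (isCharacter_of_irr h) g
    simpa using this

theorem map_auto_irr_or_neg (σ : ℂ ≃+* ℂ) {a : G → ℂ}
    (h : Cfsg.IsIrrCharacter G a ∨ Cfsg.IsIrrCharacter G (-a)) :
    Cfsg.IsIrrCharacter G (fun g => σ (a g)) ∨ Cfsg.IsIrrCharacter G (-fun g => σ (a g)) := by
  rcases h with h | h
  · exact Or.inl (IsIrrCharacter.map_auto h σ)
  · refine Or.inr ?_
    convert IsIrrCharacter.map_auto h σ using 1
    funext g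
    simp

theorem classInner_map_auto (σ : ℂ ≃+* ℂ) {a b : G → ℂ}
    (hb : Cfsg.IsIrrCharacter G b ∨ Cfsg.IsIrrCharacter G (-b)) :
    Cfsg.classInner (fun g => σ (a g)) (fun g => σ (b g)) = σ (Cfsg.classInner a b) := by
  simp only [classInner_def, map_mul, map_inv₀, map_natCast, map_sum]
  congr 1
  refine Finset.sum_congr rfl fun g _ => ?_
  rw [← conj_apply_inv hb g, ← conj_apply_inv (map_auto_irr_or_neg σ hb) g]

theorem indFun_map_auto (σ : ℂ ≃+* ℂ) (H : Subgroup G) (θ : H → ℂ) (g : G) :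
    σ (Cfsg.indFun H θ g) = Cfsg.indFun H (fun h => σ (θ h)) g := by
  simp only [indFun_apply, map_mul, map_inv₀, map_natCast, map_sum]
  congr 1
  refine Finset.sum_congr rfl fun x _ => ?_
  by_cases h : x⁻¹ * g * x ∈ H
  · rw [extendByZero_mem _ h, extendByZero_mem _ h]
  · rw [extendByZero_not_mem _ h, extendByZero_not_mem _ h, map_zero]

/-- Apply an automorphism to a linear character. -/
noncomputable def autHom (σ : ℂ ≃+* ℂ) (ω : W →* ℂˣ) : W →* ℂˣ :=
  (Units.map σ.toMonoidHom).comp ω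

theorem autHom_apply (σ : ℂ ≃+* ℂ) (ω : W →* ℂˣ) (w : W) :
    ((autHom σ ω w : ℂˣ) : ℂ) = σ (ω w : ℂ) := rfl

theorem autHom_mul (σ : ℂ ≃+* ℂ) (ω ω' : W →* ℂˣ) :
    autHom σ (ω * ω') = autHom σ ω * autHom σ ω' :=
  MonoidHom.ext fun w => Units.ext (by simp [autHom])

theorem autHom_injective (σ : ℂ ≃+* ℂ) : Function.Injective (autHom (W₁ := W₁) (W₂ := W₂) σ) :=
  fun ω ω' h => MonoidHom.ext fun w => Units.ext (σ.injective (by
    rw [← autHom_apply, ← autHom_apply, h]))

theorem autHom_one (σ : ℂ ≃+* ℂ) : autHom σ (1 : W →* ℂˣ) = 1 :=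
  MonoidHom.ext fun w => Units.ext (by simp [autHom])

/-- The family commutes with field automorphisms. -/
theorem family_map_auto (hW : Cfsg.IsSelfNormalizingCyclic W₁ W₂) (hodd : Odd (Nat.card W))
    {χ : (W →* ℂˣ) → (G → ℂ)} (hχ : Cfsg.IsCyclicTIFamily W₁ W₂ χ) (σ : ℂ ≃+* ℂ)
    (ω : W →* ℂˣ) (g : G) : σ (χ ω g) = χ (autHom σ ω) g := by
  classical
  have := Fintype.ofFinite W
  set χ' : (W →* ℂˣ) → (G → ℂ) := fun ω g => σ (χ (autHom σ.symm ω) g) with hχ'
  have hfam : Cfsg.IsCyclicTIFamily W₁ W₂ χ' := by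
    refine ⟨fun ω => map_auto_irr_or_neg σ (hχ.irr_or_neg _), fun a b => ?_, ?_, ?_, ?_⟩
    · rw [classInner_map_auto σ (hχ.irr_or_neg _), hχ.orthonormal]
      by_cases h : a = b
      · simp [h]
      · rw [if_neg h, if_neg fun h' => h (autHom_injective _ h'), map_zero]
    · funext g
      simp [hχ', autHom_one, hχ.map_one]
    · intro a w h1 h2
      simp only [hχ']
      rw [hχ.eq_on _ w h1 h2, autHom_apply, RingEquiv.apply_symm_apply]
    · intro φ ψ h1 h2 hφ hψ
      have h1' : autHom σ.symm φ ≠ 1 := fun h => h1 (autHom_injective σ.symm (h.trans (autHom_one _).symm))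
      have h2' : autHom σ.symm ψ ≠ 1 := fun h => h2 (autHom_injective σ.symm (h.trans (autHom_one _).symm))
      have e := hχ.induced_eq _ _ h1' h2'
        (fun w hw => Units.ext (by rw [autHom_apply, hφ w hw]; simp))
        (fun w hw => Units.ext (by rw [autHom_apply, hψ w hw]; simp))
      funext g
      have e' := congrArg σ (congrFun e g)
      rw [indFun_map_auto] at e'
      simp only [map_add, map_sub, map_mul, map_one, autHom_apply, RingEquiv.apply_symm_apply,
        ← autHom_mul] at e'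
      exact e'
  have h := congrFun (congrFun (family_unique hW hodd hχ hfam) (autHom σ ω)) g
  rw [← h]
  simp only [hχ']
  rw [show autHom σ.symm (autHom σ ω) = ω from MonoidHom.ext fun w => Units.ext (by
    simp [autHom_apply])]

/-- Values at elements of coprime order are rational integers. -/
theorem family_int (hW : Cfsg.IsSelfNormalizingCyclic W₁ W₂) (hodd : Odd (Nat.card W))
    {χ : (W →* ℂˣ) → (G → ℂ)} (hχ : Cfsg.IsCyclicTIFamily W₁ W₂ χ) (ω : W →* ℂˣ) (g : G)
    (hg : Nat.Coprime (orderOf g) (orderOf ω)) : ∃ n : ℤ, χ ω g = n := by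
  classical
  set M := Nat.card G with hM
  have : NeZero M := ⟨Nat.card_pos.ne'⟩
  set o := orderOf g
  set k := orderOf ω
  have ho : o ∣ M := orderOf_dvd_natCard g
  have hk : k ∣ M := by
    refine (orderOf_dvd_of_pow_eq_one (n := Nat.card W) (MonoidHom.ext fun w => ?_)).trans
      (Subgroup.card_subgroup_dvd_card _)
    have : (ω ^ Nat.card W : W →* ℂˣ) w = ω w ^ Nat.card W := rfl
    rw [this, ← map_pow, pow_card_eq_one', map_one, MonoidHom.one_apply]
  have hchar : ∀ (σ : ℂ ≃+* ℂ) (j : ℕ), IsGalConj σ M j → σ (χ ω g) = χ ω (g ^ j) := by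
    intro σ j hσ
    rcases hχ.irr_or_neg ω with h | h
    · exact IsGalConj.apply_character hσ (isCharacter_of_irr h) ho
    · have := IsGalConj.apply_character hσ (isCharacter_of_irr h) ho
      simpa using this
  have hfix : ∀ (σ : ℂ ≃+* ℂ) (j : ℕ), j.Coprime M → IsGalConj σ M j → σ (χ ω g) = χ ω g := by
    intro σ j hj hσ
    obtain ⟨x, hx1, hx2⟩ := Nat.chineseRemainder hg j 1
    have hxc : x.Coprime (o * k) := by
      refine Nat.Coprime.mul_right ?_ ?_
      · rw [Nat.coprime_iff_gcd_eq_one, hx1.gcd_eq]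
        exact Nat.Coprime.coprime_dvd_right ho hj
      · rw [Nat.coprime_iff_gcd_eq_one, hx2.gcd_eq, Nat.gcd_one_left]
    obtain ⟨u, hu⟩ := ZMod.unitsMap_surjective (hg.mul_dvd_of_dvd_of_dvd ho hk)
      (ZMod.unitOfCoprime x hxc)
    set x' := (u : ZMod M).val with hx'def
    have hx' : x' ≡ x [MOD o * k] := by
      rw [← ZMod.natCast_eq_natCast_iff]
      have := congrArg (fun v : (ZMod (o * k))ˣ => (v : ZMod (o * k))) hu
      simp only [ZMod.unitsMap_val, ZMod.coe_unitOfCoprime, ZMod.cast_eq_val] at this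
      exact this
    obtain ⟨τ, hτ⟩ := exists_galConj_auto (m := M) (ZMod.val_coe_unit_coprime u)
    have hω : autHom τ ω = ω := MonoidHom.ext fun w => Units.ext (by
      rw [autHom_apply]
      have hwk : ω w ^ k = 1 := by
        have : (ω ^ k : W →* ℂˣ) w = ω w ^ k := rfl
        rw [← this, pow_orderOf_eq_one, MonoidHom.one_apply]
      rw [hτ _ (by
        obtain ⟨d, hd⟩ := hk
        rw [hd, ← Units.val_pow_eq_pow_val, pow_mul, hwk, one_pow, Units.val_one]),
        ← Units.val_pow_eq_pow_val]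
      congr 1
      conv_rhs => rw [← pow_one (ω w)]
      exact pow_eq_pow_iff_modEq.mpr
        (((hx'.of_dvd (dvd_mul_left _ _)).trans hx2).of_dvd (orderOf_dvd_of_pow_eq_one hwk)))
    have h1 := family_map_auto hW hodd hχ τ ω g
    rw [hω, hchar τ x' hτ] at h1
    rw [hchar σ j hσ]
    refine Eq.trans ?_ h1
    congr 1
    exact pow_eq_pow_iff_modEq.mpr ((hx'.of_dvd (dvd_mul_right _ _)).trans hx1).symm
  have hmem : χ ω g ∈ cycField M := by
    rcases hχ.irr_or_neg ω with h | h
    · exact IsCharacter.mem_cycField (isCharacter_of_irr h) ho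
    · have := neg_mem (IsCharacter.mem_cycField (isCharacter_of_irr h) ho)
      simpa using this
  have hint : IsIntegral ℤ (χ ω g) := by
    rcases hχ.irr_or_neg ω with h | h
    · exact IsCharacter.isIntegral (isCharacter_of_irr h) g
    · have := (IsCharacter.isIntegral (isCharacter_of_irr h) g).neg
      simpa using this
  obtain ⟨q, hq⟩ := rat_of_galConj_fixed hmem hfix
  obtain ⟨z, hz⟩ := int_of_isIntegral_rat (q := q) (hq ▸ hint)
  exact ⟨z, by rw [hq, hz, Rat.cast_intCast]⟩

end Cfsg.Lib.CyclicTI
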