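import Cfsg.Agent.OddChar.Grid
import Cfsg.Agent.Chars.Core

/-!
# Generalised characters of norm three as triples of signed irreducible characters
-/

namespace Cfsg.Lib.Signed

open scoped ComplexConjugate
open Cfsg.Lib.Chars Cfsg.Lib.Grid

universe u

variable {G : Type u} [Group G]

/-- A signed irreducible character as a function. -/
noncomputable def sval (s : Cfsg.IrrCharacter G × Bool) : G → ℂ :=
  if s.2 then (s.1 : G → ℂ) else -(s.1 : G → ℂ)

theorem sval_opp (s : Cfsg.IrrCharacter G × Bool) : sval (opp s) = -sval s := by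
  obtain ⟨χ, b⟩ := s; cases b <;> simp [sval, opp]

theorem sval_irr_or_neg (s : Cfsg.IrrCharacter G × Bool) :
    Cfsg.IsIrrCharacter G (sval s) ∨ Cfsg.IsIrrCharacter G (-sval s) := by
  obtain ⟨χ, b⟩ := s; cases b
  · exact Or.inr (by simpa [sval] using χ.2)
  · exact Or.inl (by simpa [sval] using χ.2)

variable [Fintype G]

open Classical in
theorem classInner_sval (s t : Cfsg.IrrCharacter G × Bool) :
    Cfsg.classInner (sval s) (sval t) =
      (if s = t then 1 else 0) - (if opp s = t then 1 else 0) := by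
  obtain ⟨χ, b⟩ := s; obtain ⟨ψ, c⟩ := t
  cases b <;> cases c <;>
    simp [sval, opp, classInner_neg_left, classInner_neg_right, classInner_irrCharacter]

open Classical in
theorem classInner_sums (A B : Finset (Cfsg.IrrCharacter G × Bool)) :
    Cfsg.classInner (∑ s ∈ A, sval s) (∑ t ∈ B, sval t) =
      ((A.filter (· ∈ B)).card : ℂ) - ((A.filter fun s => opp s ∈ B).card : ℂ) := by
  simp only [classInner_sum_left, classInner_sum_right, classInner_sval, Finset.sum_sub_distrib]
  congr 1 <;>
    rw [Finset.sum_comm, Finset.sum_congr rfl (fun s _ => Finset.sum_ite_eq B _ _), ← Finset.sum_filter,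
      Finset.sum_const, nsmul_one]

theorem exists_valid {f : G → ℂ} (hf : Cfsg.IsGeneralizedCharacter G f)
    (hn : Cfsg.classInner f f = 3) :
    ∃ A : Finset (Cfsg.IrrCharacter G × Bool), Valid A ∧ f = ∑ s ∈ A, sval s := by
  classical
  obtain ⟨a, rfl⟩ := exists_int_decomp hf
  rw [classInner_self_decomp] at hn
  have h3 : ∑ χ, a χ * a χ = 3 := by
    apply Int.cast_injective (α := ℂ)
    simpa using hn
  have hb : ∀ χ, a χ = 0 ∨ a χ = 1 ∨ a χ = -1 := fun χ => by
    have hle : a χ * a χ ≤ 3 := h3 ▸ Finset.single_le_sum (f := fun χ => a χ * a χ)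
      (fun x _ => mul_self_nonneg _) (Finset.mem_univ χ)
    have h1 : a χ ≤ 1 := by nlinarith
    have h2 : -1 ≤ a χ := by nlinarith
    omega
  set S := Finset.univ.filter fun χ => a χ ≠ 0
  refine ⟨S.image fun χ => (χ, decide (a χ = 1)), ⟨?_, ?_⟩, ?_⟩
  · rw [Finset.card_image_of_injective _ fun _ _ h => congrArg Prod.fst h]
    have hS : ∑ χ, a χ * a χ = (S.card : ℤ) := by
      rw [Finset.card_filter, Nat.cast_sum]
      refine Finset.sum_congr rfl fun χ _ => ?_
      rcases hb χ with h | h | h <;> simp [h]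
    rw [h3] at hS
    omega
  · intro s hs ho
    obtain ⟨χ, -, rfl⟩ := Finset.mem_image.mp hs
    obtain ⟨ψ, -, hψ⟩ := Finset.mem_image.mp ho
    simp only [opp, Prod.mk.injEq] at hψ
    obtain ⟨rfl, hψ⟩ := hψ
    cases h : decide (a ψ = 1) <;> simp [h] at hψ
  · rw [Finset.sum_image fun _ _ _ _ h => congrArg Prod.fst h, Finset.sum_filter]
    refine Finset.sum_congr rfl fun χ _ => ?_
    rcases hb χ with h | h | h <;> simp [h, sval]

theorem count_le (A B : Finset (Cfsg.IrrCharacter G × Bool))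
    [DecidablePred (· ∈ B)] [DecidablePred fun s => opp s ∈ B] (hA : Valid A) (hB : Valid B) :
    (A.filter (· ∈ B)).card + (A.filter fun s => opp s ∈ B).card ≤ 3 := by
  classical
  rw [← Finset.card_union_of_disjoint]
  · exact (Finset.card_le_card (Finset.union_subset (Finset.filter_subset _ _)
      (Finset.filter_subset _ _))).trans hA.1.le
  · rw [Finset.disjoint_filter]
    exact fun s _ h => hB.2 s h

theorem rel_one {A B : Finset (Cfsg.IrrCharacter G × Bool)} (hA : Valid A) (hB : Valid B)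
    (h1 : (∑ s ∈ A, sval s) 1 = (∑ s ∈ B, sval s) 1)
    (h : Cfsg.classInner (∑ s ∈ A, sval s) (∑ t ∈ B, sval t) = 1) : One A B := by
  classical
  rw [classInner_sums] at h
  set P := A.filter (· ∈ B) with hP
  set Q := A.filter fun s => opp s ∈ B with hQ
  have hle : P.card + Q.card ≤ 3 := count_le A B hA hB
  have hpq : P.card = Q.card + 1 := by
    have : (P.card : ℂ) = ((Q.card + 1 : ℕ) : ℂ) := by push_cast; linear_combination h
    exact_mod_cast this
  rcases Nat.eq_zero_or_pos Q.card with hq | hq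
  · refine ⟨?_, fun a b ha ha' hb hb' => ?_, fun a ha hb => ?_⟩
    · obtain ⟨a, ha⟩ := Finset.card_pos.mp (show 0 < P.card by omega)
      exact ⟨a, (Finset.mem_filter.mp ha).1, (Finset.mem_filter.mp ha).2⟩
    · exact Finset.card_le_one.mp (show P.card ≤ 1 by omega) a
        (Finset.mem_filter.mpr ⟨ha, ha'⟩) b (Finset.mem_filter.mpr ⟨hb, hb'⟩)
    · have : a ∈ Q := Finset.mem_filter.mpr ⟨ha, hb⟩
      rw [Finset.card_eq_zero.mp hq] at this
      simp at this
  · exfalso
    obtain ⟨c, hc⟩ := Finset.card_eq_one.mp (show Q.card = 1 by omega)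
    have hcQ : c ∈ Q := by rw [hc]; simp
    obtain ⟨hcA, hcB⟩ := Finset.mem_filter.mp hcQ
    have hcP : c ∉ P := fun h' => hB.2 c (Finset.mem_filter.mp h').2 hcB
    have hoP : opp c ∉ P := fun h' => hA.2 c hcA (Finset.mem_filter.mp h').1
    have hAeq : A = insert c P := (Finset.eq_of_subset_of_card_le
      (Finset.insert_subset hcA (Finset.filter_subset _ _))
      (by rw [Finset.card_insert_of_notMem hcP, hA.1]; omega)).symm
    have hBeq : B = insert (opp c) P := (Finset.eq_of_subset_of_card_le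
      (Finset.insert_subset hcB fun s hs => (Finset.mem_filter.mp hs).2)
      (by rw [Finset.card_insert_of_notMem hoP, hB.1]; omega)).symm
    rw [hAeq, hBeq, Finset.sum_insert hcP, Finset.sum_insert hoP, sval_opp] at h1
    simp only [Pi.add_apply, Pi.neg_apply, add_left_inj] at h1
    have h0 : sval c 1 = 0 := by linear_combination h1 / 2
    rcases sval_irr_or_neg c with h' | h'
    · exact IsIrrCharacter.apply_one_ne_zero h' h0
    · exact IsIrrCharacter.apply_one_ne_zero h' (by simp [h0])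

theorem rel_zero {A B : Finset (Cfsg.IrrCharacter G × Bool)} (hA : Valid A) (hB : Valid B)
    (h : Cfsg.classInner (∑ s ∈ A, sval s) (∑ t ∈ B, sval t) = 0) : Zero A B := by
  classical
  rw [classInner_sums, sub_eq_zero, Nat.cast_inj] at h
  have hle := count_le A B hA hB
  refine ⟨?_, fun a b ha ha' hb hb' =>
    Finset.card_le_one.mp (show (A.filter (· ∈ B)).card ≤ 1 by omega) a
      (Finset.mem_filter.mpr ⟨ha, ha'⟩) b (Finset.mem_filter.mpr ⟨hb, hb'⟩)⟩
  constructor
  · rintro ⟨a, ha, hb⟩
    obtain ⟨c, hc⟩ := Finset.card_pos.mp (h ▸ Finset.card_pos.mpr ⟨a, Finset.mem_filter.mpr ⟨ha, hb⟩⟩)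
    exact ⟨c, Finset.mem_filter.mp hc⟩
  · rintro ⟨a, ha, hb⟩
    obtain ⟨c, hc⟩ := Finset.card_pos.mp (h.symm ▸
      Finset.card_pos.mpr ⟨a, Finset.mem_filter.mpr ⟨ha, hb⟩⟩)
    exact ⟨c, Finset.mem_filter.mp hc⟩

end Cfsg.Lib.Signed
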