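import Cfsg.Agent.OddChar.CyclicTI
import Cfsg.Agent.OddChar.Signed

/-!
# Existence and uniqueness of the cyclic trivial-intersection family
-/

namespace Cfsg.Lib.CyclicTI

open scoped ComplexConjugate
open Cfsg.Lib.Chars Cfsg.Lib.Dual Cfsg.Lib.Signed Cfsg.Lib.Grid

universe u

variable {G : Type u} [Group G] {W₁ W₂ : Subgroup G}

local notation "W" => (W₁ ⊔ W₂ : Subgroup G)

variable [Fintype G]

theorem two_le_card_first (hW : Cfsg.IsSelfNormalizingCyclic W₁ W₂) (hodd : Odd (Nat.card W)) :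
    Odd (Nat.card W₁) ∧ Odd (Nat.card W₂) ∧ 3 ≤ Nat.card W₁ ∧ 3 ≤ Nat.card W₂ ∧
      Nat.card W₁ ≠ Nat.card W₂ := by
  have h1 : Odd (Nat.card W₁) := hodd.of_dvd_nat (Subgroup.card_dvd_of_le le_sup_left)
  have h2 : Odd (Nat.card W₂) := hodd.of_dvd_nat (Subgroup.card_dvd_of_le le_sup_right)
  have g1 : 1 < Nat.card W₁ := Finite.one_lt_card_iff_nontrivial.mpr
    ((Subgroup.nontrivial_iff_ne_bot _).mpr hW.1)
  have g2 : 1 < Nat.card W₂ := Finite.one_lt_card_iff_nontrivial.mpr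
    ((Subgroup.nontrivial_iff_ne_bot _).mpr hW.2.1)
  obtain ⟨a, ha⟩ := h1
  obtain ⟨b, hb⟩ := h2
  refine ⟨⟨a, ha⟩, ⟨b, hb⟩, by omega, by omega, fun he => ?_⟩
  have hcop := coprime_card hW
  rw [← he, Nat.coprime_self] at hcop
  omega

/-- The nontrivial characters trivial on `W₂`. -/
abbrev First (W₁ W₂ : Subgroup G) : Type u :=
  {φ : ↥(W₁ ⊔ W₂) →* ℂˣ // OnFirst φ ∧ φ ≠ 1}

/-- The nontrivial characters trivial on `W₁`. -/
abbrev Second (W₁ W₂ : Subgroup G) : Type u :=
  {ψ : ↥(W₁ ⊔ W₂) →* ℂˣ // OnSecond ψ ∧ ψ ≠ 1}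

theorem card_first (hW : Cfsg.IsSelfNormalizingCyclic W₁ W₂) [Fintype (First W₁ W₂)] :
    Fintype.card (First W₁ W₂) + 1 = Nat.card W₁ := by
  classical
  have := Fintype.ofFinite (W →* ℂˣ)
  rw [← card_onFirst hW, Nat.card_eq_fintype_card, Fintype.card_subtype, Fintype.card_subtype,
    ← Finset.card_insert_of_notMem (s := Finset.univ.filter fun φ : W →* ℂˣ => OnFirst φ ∧ φ ≠ 1)
      (a := 1) (by simp)]
  congr 1
  ext φ
  by_cases h : φ = 1
  · simp [h, onFirst_one]
  · simp [h]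

theorem card_second (hW : Cfsg.IsSelfNormalizingCyclic W₁ W₂) [Fintype (Second W₁ W₂)] :
    Fintype.card (Second W₁ W₂) + 1 = Nat.card W₂ := by
  classical
  have := Fintype.ofFinite (W →* ℂˣ)
  rw [← card_onSecond hW, Nat.card_eq_fintype_card, Fintype.card_subtype, Fintype.card_subtype,
    ← Finset.card_insert_of_notMem (s := Finset.univ.filter fun φ : W →* ℂˣ => OnSecond φ ∧ φ ≠ 1)
      (a := 1) (by simp)]
  congr 1
  ext φ
  by_cases h : φ = 1
  · simp [h, onSecond_one]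
  · simp [h]

theorem transpose_grid {ι I J : Type*} {β : I → J → Finset (ι × Bool)} (h : IsGrid β) :
    IsGrid fun j i => β i j where
  valid j i := h.valid i j
  row j i k hik := h.col i k j hik
  col j l i hjl := h.row i j l hjl
  diag j l i k hjl hik := h.diag i k j l hik hjl

/-- The grid decomposition in either orientation. -/
theorem exists_decomp' {ι I J : Type*} [Fintype I] [Fintype J] {β : I → J → Finset (ι × Bool)}
    (h : IsGrid β) (hI : 2 ≤ Fintype.card I) (hJ : 2 ≤ Fintype.card J) (hI' : Fintype.card I ≠ 3)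
    (hJ' : Fintype.card J ≠ 3) (hne : Fintype.card I ≠ Fintype.card J) :
    ∃ (a : I → ι × Bool) (b : J → ι × Bool) (c : I → J → ι × Bool),
      (∀ i j, (∀ s, s ∈ β i j ↔ s = a i ∨ s = b j ∨ s = c i j) ∧ a i ≠ b j ∧ a i ≠ c i j ∧
        b j ≠ c i j) ∧
      Function.Injective (Sum.elim (fun i => (a i).1)
        (Sum.elim (fun j => (b j).1) fun p : I × J => (c p.1 p.2).1)) := by
  rcases Nat.lt_or_ge (Fintype.card J) 4 with h4 | h4
  · obtain ⟨b, a, c, hmem, hinj⟩ := exists_decomp (transpose_grid h) hJ hJ' (by omega)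
    refine ⟨a, b, fun i j => c j i, fun i j => ?_, ?_⟩
    · obtain ⟨h1, h2, h3, h4⟩ := hmem j i
      exact ⟨fun s => by rw [h1 s]; tauto, h2.symm, h4, h3⟩
    · let e : I ⊕ (J ⊕ I × J) → J ⊕ (I ⊕ J × I) :=
        Sum.elim (fun i => Sum.inr (Sum.inl i))
          (Sum.elim (fun j => Sum.inl j) fun p => Sum.inr (Sum.inr (p.2, p.1)))
      have he : Function.Injective e := by
        rintro (i | j | p) (k | l | q) h <;> simp [e] at h ⊢
        · exact h
        · exact h
        · exact Prod.ext h.2 h.1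
      convert hinj.comp he using 1
      funext x
      rcases x with i | j | p <;> rfl
  · exact exists_decomp h hI hI' h4

variable [Fintype ↥(W₁ ⊔ W₂)]

theorem classInner_indFun_family {χ : (W →* ℂˣ) → (G → ℂ)} (hχ : Cfsg.IsCyclicTIFamily W₁ W₂ χ)
    {φ ψ : W →* ℂˣ} (hφ : OnFirst φ) (hψ : OnSecond ψ) (h1 : φ ≠ 1) (h2 : ψ ≠ 1) (θ : G → ℂ) :
    Cfsg.classInner θ (Cfsg.indFun (W) (alpha φ ψ)) =
      Cfsg.classInner θ (χ 1) - Cfsg.classInner θ (χ φ) - Cfsg.classInner θ (χ ψ) +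
        Cfsg.classInner θ (χ (φ * ψ)) := by
  rw [show alpha φ ψ = fun w => 1 - (φ w : ℂ) - (ψ w : ℂ) + (φ w : ℂ) * (ψ w : ℂ) from rfl,
    hχ.induced_eq φ ψ h1 h2 hφ hψ, show (fun g => 1 - χ φ g - χ ψ g + χ (φ * ψ) g) =
      χ 1 - χ φ - χ ψ + χ (φ * ψ) by funext g; simp [hχ.map_one],
    classInner_add_right, classInner_sub_right, classInner_sub_right]

/-- Additivity of the multiplicities in a class function vanishing off both factors. -/
theorem coeff_add {χ : (W →* ℂˣ) → (G → ℂ)} (hχ : Cfsg.IsCyclicTIFamily W₁ W₂ χ) {θ : G → ℂ}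
    (hθ : Cfsg.IsClassFunction G θ)
    (hθV : ∀ w : W, (w : G) ∉ W₁ → (w : G) ∉ W₂ → θ w = 0) {φ ψ : W →* ℂˣ} (hφ : OnFirst φ)
    (hψ : OnSecond ψ) :
    Cfsg.classInner θ (χ (φ * ψ)) =
      Cfsg.classInner θ (χ φ) + Cfsg.classInner θ (χ ψ) - Cfsg.classInner θ (χ 1) := by
  classical
  by_cases h1 : φ = 1
  · subst h1; rw [hom_one_mul]; ring
  by_cases h2 : ψ = 1
  · subst h2; rw [hom_mul_one]; ring
  have h0 : Cfsg.classInner θ (Cfsg.indFun (W) (alpha φ ψ)) = 0 := by
    rw [← classInner_conj_symm, classInner_indFun φ ψ hθ, classInner_def, Finset.sum_eq_zero,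
      mul_zero, map_zero]
    intro w _
    by_cases hw : (w : G) ∈ W₁ ∨ (w : G) ∈ W₂
    · rw [alpha_zero hφ hψ w hw, zero_mul]
    · rw [not_or] at hw
      rw [show θ (w : G) = 0 from hθV w hw.1 hw.2, map_zero, mul_zero]
  rw [classInner_indFun_family hχ hφ hψ h1 h2] at h0
  linear_combination h0

/-- A class function orthogonal to the family vanishes off both factors. -/
theorem eq_zero_of_orth_family (hW : Cfsg.IsSelfNormalizingCyclic W₁ W₂)
    {χ : (W →* ℂˣ) → (G → ℂ)} (hχ : Cfsg.IsCyclicTIFamily W₁ W₂ χ) {θ : G → ℂ}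
    (hθ : Cfsg.IsClassFunction G θ) (horth : ∀ ω, Cfsg.classInner θ (χ ω) = 0) (w : W)
    (hw₁ : (w : G) ∉ W₁) (hw₂ : (w : G) ∉ W₂) : θ w = 0 := by
  refine eq_zero_of_orth hW (fun w : W => θ w) (fun φ ψ h1 h2 hφ hψ => ?_) w hw₁ hw₂
  rw [← classInner_conj_symm, ← classInner_indFun φ ψ hθ, classInner_conj_symm,
    classInner_indFun_family hχ hφ hψ h1 h2]
  simp [horth]

omit [Fintype ↥(W₁ ⊔ W₂)] in
theorem sval_classInner_unit {a b : G → ℂ}
    (ha : Cfsg.IsIrrCharacter G a ∨ Cfsg.IsIrrCharacter G (-a))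
    (hb : Cfsg.IsIrrCharacter G b ∨ Cfsg.IsIrrCharacter G (-b)) :
    Cfsg.classInner a b = 0 ∨ a = b ∨ a = -b := by
  classical
  rcases ha with ha | ha <;> rcases hb with hb | hb
  · by_cases h : a = b
    · exact Or.inr (Or.inl h)
    · left; rw [classInner_irrChar ha hb, if_neg h]
  · by_cases h : a = -b
    · exact Or.inr (Or.inr h)
    · left
      have := classInner_irrChar ha hb
      rw [if_neg h, classInner_neg_right, neg_eq_zero] at this
      exact this
  · by_cases h : -a = b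
    · exact Or.inr (Or.inr (by rw [← h, neg_neg]))
    · left
      have := classInner_irrChar ha hb
      rw [if_neg h, classInner_neg_left, neg_eq_zero] at this
      exact this
  · by_cases h : -a = -b
    · exact Or.inr (Or.inl (neg_inj.mp h))
    · left
      have := classInner_irrChar ha hb
      rw [if_neg h, classInner_neg_left, classInner_neg_right, neg_neg] at this
      exact this

/-- The value at a single line character is forced. -/
theorem eq_of_line {χ χ' : (W →* ℂˣ) → (G → ℂ)} (hχ : Cfsg.IsCyclicTIFamily W₁ W₂ χ)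
    (hχ' : Cfsg.IsCyclicTIFamily W₁ W₂ χ') {ω₀ p q p' q' : W →* ℂˣ}
    (hne : ω₀ ≠ p ∧ ω₀ ≠ q ∧ ω₀ ≠ p' ∧ ω₀ ≠ q' ∧ p ≠ p' ∧ p ≠ q' ∧ q ≠ p' ∧ q ≠ q') (h0 : ω₀ ≠ 1)
    (e : -Cfsg.classInner (χ' ω₀) (χ ω₀) - Cfsg.classInner (χ' ω₀) (χ p) +
      Cfsg.classInner (χ' ω₀) (χ q) = -1)
    (e' : -Cfsg.classInner (χ' ω₀) (χ ω₀) - Cfsg.classInner (χ' ω₀) (χ p') +
      Cfsg.classInner (χ' ω₀) (χ q') = -1) :
    χ' ω₀ = χ ω₀ := by
  classical
  have hdis : ∀ a b, a ≠ b → Cfsg.classInner (χ' ω₀) (χ a) ≠ 0 →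
      Cfsg.classInner (χ' ω₀) (χ b) = 0 := by
    intro a b hab ha
    by_contra hb
    rcases (sval_classInner_unit (hχ'.irr_or_neg ω₀) (hχ.irr_or_neg a)).resolve_left ha with h | h
    · rw [h, hχ.orthonormal, if_neg hab] at hb; exact hb rfl
    · rw [h, classInner_neg_left, hχ.orthonormal, if_neg hab, neg_zero] at hb; exact hb rfl
  obtain ⟨n1, n2, n3, n4, n5, n6, n7, n8⟩ := hne
  by_cases hx : Cfsg.classInner (χ' ω₀) (χ ω₀) = 0
  · exfalso
    rw [hx] at e e'
    by_cases hp : Cfsg.classInner (χ' ω₀) (χ p) = 0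
    · have hq : Cfsg.classInner (χ' ω₀) (χ q) ≠ 0 := fun h => by rw [hp, h] at e; norm_num at e
      rw [hdis q p' n7 hq, hdis q q' n8 hq] at e'
      norm_num at e'
    · rw [hdis p p' n5 hp, hdis p q' n6 hp] at e'
      norm_num at e'
  · rw [hdis ω₀ p n1 hx, hdis ω₀ q n2 hx] at e
    rcases (sval_classInner_unit (hχ'.irr_or_neg ω₀) (hχ.irr_or_neg ω₀)).resolve_left hx with h | h
    · exact h
    · rw [h, classInner_neg_left, hχ.orthonormal, if_pos rfl] at e
      norm_num at e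

/-- The family is unique. -/
theorem family_unique (hW : Cfsg.IsSelfNormalizingCyclic W₁ W₂) (hodd : Odd (Nat.card W))
    {χ χ' : (W →* ℂˣ) → (G → ℂ)} (hχ : Cfsg.IsCyclicTIFamily W₁ W₂ χ)
    (hχ' : Cfsg.IsCyclicTIFamily W₁ W₂ χ') : χ' = χ := by
  classical
  obtain ⟨-, -, h3, h3', -⟩ := two_le_card_first hW hodd
  have := Fintype.ofFinite (First W₁ W₂)
  have := Fintype.ofFinite (Second W₁ W₂)
  have key : ∀ {φ ψ : W →* ℂˣ}, OnFirst φ → OnSecond ψ → φ ≠ 1 → ψ ≠ 1 → ∀ ω₀,
      Cfsg.classInner (χ' ω₀) (χ' 1) - Cfsg.classInner (χ' ω₀) (χ' φ) -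
          Cfsg.classInner (χ' ω₀) (χ' ψ) + Cfsg.classInner (χ' ω₀) (χ' (φ * ψ)) =
        Cfsg.classInner (χ' ω₀) (χ 1) - Cfsg.classInner (χ' ω₀) (χ φ) -
          Cfsg.classInner (χ' ω₀) (χ ψ) + Cfsg.classInner (χ' ω₀) (χ (φ * ψ)) :=
    fun hφ hψ h1 h2 ω₀ => by
      rw [← classInner_indFun_family hχ hφ hψ h1 h2, ← classInner_indFun_family hχ' hφ hψ h1 h2]
  have hone : ∀ ω₀, ω₀ ≠ 1 → Cfsg.classInner (χ' ω₀) (χ 1) = 0 := fun ω₀ h => by
    rw [hχ.map_one, ← hχ'.map_one, hχ'.orthonormal, if_neg h]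
  have hfirst : ∀ φ : W →* ℂˣ, OnFirst φ → φ ≠ 1 → χ' φ = χ φ := by
    intro φ hφ h1
    obtain ⟨⟨ψ, hψ, h2⟩, ⟨ψ', hψ', h2'⟩, hne⟩ := Fintype.exists_pair_of_one_lt_card
      (show 1 < Fintype.card (Second W₁ W₂) by have := card_second hW; omega)
    have hne' : ψ ≠ ψ' := fun h => hne (Subtype.ext h)
    have d := fun {a b a' b' : W →* ℂˣ} (ha : OnFirst a) (hb : OnSecond b) (ha' : OnFirst a')
      (hb' : OnSecond b') => mul_eq_iff hW ha hb ha' hb'
    have f1 : φ ≠ ψ := fun h => h1 ((d hφ onSecond_one onFirst_one hψ).mp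
      (by rw [hom_mul_one, hom_one_mul, h])).1
    have f2 : φ ≠ φ * ψ := fun h => h2 ((d hφ onSecond_one hφ hψ).mp (by rw [hom_mul_one]; exact h)).2.symm
    have f3 : φ ≠ ψ' := fun h => h1 ((d hφ onSecond_one onFirst_one hψ').mp
      (by rw [hom_mul_one, hom_one_mul, h])).1
    have f4 : φ ≠ φ * ψ' := fun h => h2' ((d hφ onSecond_one hφ hψ').mp (by rw [hom_mul_one]; exact h)).2.symm
    have f5 : ψ ≠ φ * ψ' := fun h => h1 ((d onFirst_one hψ hφ hψ').mp (by rw [hom_one_mul]; exact h)).1.symm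
    have f6 : φ * ψ ≠ ψ' := fun h => h1 ((d hφ hψ onFirst_one hψ').mp (by rw [hom_one_mul]; exact h)).1
    have f7 : φ * ψ ≠ φ * ψ' := fun h => hne' ((d hφ hψ hφ hψ').mp h).2
    refine eq_of_line hχ hχ' (p := ψ) (q := φ * ψ) (p' := ψ') (q' := φ * ψ')
      ⟨f1, f2, f3, f4, hne', f5, f6, f7⟩ h1 ?_ ?_
    · have := key hφ hψ h1 h2 φ
      rw [hone φ h1, hχ'.orthonormal, hχ'.orthonormal, hχ'.orthonormal, hχ'.orthonormal,
        if_neg h1, if_pos rfl, if_neg f1, if_neg f2] at this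
      linear_combination -this
    · have := key hφ hψ' h1 h2' φ
      rw [hone φ h1, hχ'.orthonormal, hχ'.orthonormal, hχ'.orthonormal, hχ'.orthonormal,
        if_neg h1, if_pos rfl, if_neg f3, if_neg f4] at this
      linear_combination -this
  have hsecond : ∀ ψ : W →* ℂˣ, OnSecond ψ → ψ ≠ 1 → χ' ψ = χ ψ := by
    intro ψ hψ h2
    obtain ⟨⟨φ, hφ, h1⟩, ⟨φ', hφ', h1'⟩, hne⟩ := Fintype.exists_pair_of_one_lt_card
      (show 1 < Fintype.card (First W₁ W₂) by have := card_first hW; omega)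
    have hne' : φ ≠ φ' := fun h => hne (Subtype.ext h)
    have d := fun {a b a' b' : W →* ℂˣ} (ha : OnFirst a) (hb : OnSecond b) (ha' : OnFirst a')
      (hb' : OnSecond b') => mul_eq_iff hW ha hb ha' hb'
    have f1 : ψ ≠ φ := fun h => h1 ((d onFirst_one hψ hφ onSecond_one).mp
      (by rw [hom_one_mul, hom_mul_one, h])).1.symm
    have f2 : ψ ≠ φ * ψ := fun h => h1 ((d onFirst_one hψ hφ hψ).mp (by rw [hom_one_mul]; exact h)).1.symm
    have f3 : ψ ≠ φ' := fun h => h1' ((d onFirst_one hψ hφ' onSecond_one).mp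
      (by rw [hom_one_mul, hom_mul_one, h])).1.symm
    have f4 : ψ ≠ φ' * ψ := fun h => h1' ((d onFirst_one hψ hφ' hψ).mp (by rw [hom_one_mul]; exact h)).1.symm
    have f5 : φ ≠ φ' * ψ := fun h => h2 ((d hφ onSecond_one hφ' hψ).mp (by rw [hom_mul_one]; exact h)).2.symm
    have f6 : φ * ψ ≠ φ' := fun h => h2 ((d hφ hψ hφ' onSecond_one).mp (by rw [hom_mul_one]; exact h)).2
    have f7 : φ * ψ ≠ φ' * ψ := fun h => hne' ((d hφ hψ hφ' hψ).mp h).1
    refine eq_of_line hχ hχ' (p := φ) (q := φ * ψ) (p' := φ') (q' := φ' * ψ)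
      ⟨f1, f2, f3, f4, hne', f5, f6, f7⟩ h2 ?_ ?_
    · have := key hφ hψ h1 h2 ψ
      rw [hone ψ h2, hχ'.orthonormal, hχ'.orthonormal, hχ'.orthonormal, hχ'.orthonormal,
        if_neg h2, if_pos rfl, if_neg f1, if_neg f2] at this
      linear_combination -this
    · have := key hφ' hψ h1' h2 ψ
      rw [hone ψ h2, hχ'.orthonormal, hχ'.orthonormal, hχ'.orthonormal, hχ'.orthonormal,
        if_neg h2, if_pos rfl, if_neg f3, if_neg f4] at this
      linear_combination -this
  funext ω g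
  set φ := ω.comp (pr₁ hW) with hφdef
  set ψ := ω.comp (pr₂ hW) with hψdef
  have hω : ω = φ * ψ := (comp_mul_comp hW ω).symm
  by_cases h1 : φ = 1
  · rw [hω, h1, hom_one_mul]
    by_cases h2 : ψ = 1
    · rw [h2, hχ.map_one, hχ'.map_one]
    · rw [hsecond ψ (onSecond_comp hW ω) h2]
  by_cases h2 : ψ = 1
  · rw [hω, h2, hom_mul_one, hfirst φ (onFirst_comp hW ω) h1]
  have e := congrFun ((hχ.induced_eq φ ψ h1 h2 (onFirst_comp hW ω) (onSecond_comp hW ω)).symm.trans
    (hχ'.induced_eq φ ψ h1 h2 (onFirst_comp hW ω) (onSecond_comp hW ω))) g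
  rw [hω]
  simp only [hfirst φ (onFirst_comp hW ω) h1, hsecond ψ (onSecond_comp hW ω) h2] at e
  linear_combination -e

set_option maxHeartbeats 800000 in
/-- Existence of the family. -/
theorem exists_family (hW : Cfsg.IsSelfNormalizingCyclic W₁ W₂) (hodd : Odd (Nat.card W)) :
    ∃ χ : (W →* ℂˣ) → (G → ℂ), Cfsg.IsCyclicTIFamily W₁ W₂ χ := by
  classical
  have := Fintype.ofFinite (W →* ℂˣ)
  set f : First W₁ W₂ → Second W₁ W₂ → G → ℂ := fun i j =>
    Cfsg.indFun (W) (alpha i.1 j.1) - fun _ => 1 with hf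
  have hinn1 : ∀ (i : First W₁ W₂) (j : Second W₁ W₂),
      Cfsg.classInner (Cfsg.indFun (W) (alpha i.1 j.1)) (fun _ => 1) = 1 := fun i j => by
    rw [classInner_indFun i.1 j.1 (fun _ _ => rfl),
      show (fun _ : W => (1 : ℂ)) = ev 1 by funext w; simp [ev],
      classInner_alpha_one hW i.2.1 j.2.1 i.2.2 j.2.2]
  have hfone : ∀ i j, Cfsg.classInner (f i j) (fun _ => 1) = 0 := fun i j => by
    simp only [hf]
    rw [classInner_sub_left, hinn1, classInner_self_irr isIrrCharacter_one, sub_self]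
  have hgram : ∀ i j k l, Cfsg.classInner (f i j) (f k l) =
      (if i = k then 1 else 0) + (if j = l then 1 else 0) +
        (if i = k then 1 else 0) * (if j = l then 1 else 0) := fun i j k l => by
    simp only [hf]
    rw [classInner_sub_left, classInner_sub_right, classInner_sub_right, hinn1,
      classInner_self_irr isIrrCharacter_one,
      show Cfsg.classInner (fun _ => 1) (Cfsg.indFun (W) (alpha k.1 l.1)) = 1 by
        rw [← classInner_conj_symm, hinn1, map_one],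
      classInner_indFun_alpha hW i.2.1 j.2.1 k.2.1 l.2.1,
      gram hW i.2.1 j.2.1 k.2.1 l.2.1 i.2.2 j.2.2 k.2.2 l.2.2]
    simp only [← Subtype.ext_iff]
    ring
  have hfgen : ∀ i j, Cfsg.IsGeneralizedCharacter G (f i j) := fun i j => by
    refine IsGeneralizedCharacter.sub (IsGeneralizedCharacter.indFun ?_)
      (IsCharacter.isGeneralized isCharacter_one)
    have := fun ω : W →* ℂˣ => IsCharacter.isGeneralized (isCharacter_of_irr (isIrr_ev ω))
    rw [alpha_eq]
    exact IsGeneralizedCharacter.add (IsGeneralizedCharacter.sub (IsGeneralizedCharacter.sub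
      (this 1) (this i.1)) (this j.1)) (this _)
  have hf1 : ∀ i j, f i j 1 = -1 := fun i j => by
    simp only [hf, Pi.sub_apply]
    rw [indFun_one]
    simp [alpha]
  choose β hβv hβ using fun i j => exists_valid (hfgen i j)
    (by rw [hgram, if_pos rfl, if_pos rfl]; norm_num)
  have hgrid : IsGrid β :=
    { valid := hβv
      row := fun i j l h => rel_one (hβv i j) (hβv i l) (by rw [← hβ, ← hβ, hf1, hf1])
        (by rw [← hβ, ← hβ, hgram, if_pos rfl, if_neg h]; ring)
      col := fun i k j h => rel_one (hβv i j) (hβv k j) (by rw [← hβ, ← hβ, hf1, hf1])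
        (by rw [← hβ, ← hβ, hgram, if_neg h, if_pos rfl]; ring)
      diag := fun i k j l h h' => rel_zero (hβv i j) (hβv k l)
        (by rw [← hβ, ← hβ, hgram, if_neg h, if_neg h']; ring) }
  obtain ⟨o1, o2, h3, h3', hne⟩ := two_le_card_first hW hodd
  have hc1 := card_first hW
  have hc2 := card_second hW
  obtain ⟨x1, hx1⟩ := o1
  obtain ⟨x2, hx2⟩ := o2
  obtain ⟨a, b, c, hmem, hinj⟩ := exists_decomp' hgrid (by omega) (by omega) (by omega) (by omega)
    (by omega)
  have hnp : ∀ i j, ∀ s ∈ β i j, s.1 ≠ principal G := by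
    intro i j s hs he
    have h := hfone i j
    rw [hβ, show (fun _ : G => (1 : ℂ)) = ∑ t ∈ {(principal G, true)}, sval t by
        simp [sval, principal], classInner_sums, sub_eq_zero, Nat.cast_inj] at h
    obtain ⟨-, hval⟩ := hβv i j
    by_cases hb : s.2 = true
    · have hs' : s = (principal G, true) := Prod.ext he hb
      have : 0 < ((β i j).filter fun t => opp t ∈ ({(principal G, true)} : Finset _)).card :=
        h ▸ Finset.card_pos.mpr ⟨s, Finset.mem_filter.mpr ⟨hs, by simp [hs']⟩⟩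
      obtain ⟨t, ht⟩ := Finset.card_pos.mp this
      simp only [Finset.mem_filter, Finset.mem_singleton] at ht
      exact hval t ht.1 (ht.2.trans hs'.symm ▸ hs)
    · have hs' : opp s = (principal G, true) := Prod.ext he (by simpa [opp] using hb)
      have : 0 < ((β i j).filter fun t => t ∈ ({(principal G, true)} : Finset _)).card :=
        h.symm ▸ Finset.card_pos.mpr ⟨s, Finset.mem_filter.mpr ⟨hs, by simp [hs']⟩⟩
      obtain ⟨t, ht⟩ := Finset.card_pos.mp this
      simp only [Finset.mem_filter, Finset.mem_singleton] at ht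
      exact hval s hs (hs'.trans ht.2.symm ▸ ht.1)
  let sy : Option (First W₁ W₂ ⊕ (Second W₁ W₂ ⊕ First W₁ W₂ × Second W₁ W₂)) →
      Cfsg.IrrCharacter G × Bool := fun k => match k with
    | none => (principal G, true)
    | some (Sum.inl i) => opp (a i)
    | some (Sum.inr (Sum.inl j)) => opp (b j)
    | some (Sum.inr (Sum.inr p)) => c p.1 p.2
  have hi₀ : Nonempty (First W₁ W₂) := Fintype.card_pos_iff.mp (by omega)
  have hj₀ : Nonempty (Second W₁ W₂) := Fintype.card_pos_iff.mp (by omega)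
  obtain ⟨i₀⟩ := hi₀
  obtain ⟨j₀⟩ := hj₀
  have hsy : Function.Injective fun k => (sy k).1 := by
    have hmid : ∀ x, (sy (some x)).1 = Sum.elim (fun i => (a i).1)
        (Sum.elim (fun j => (b j).1) fun p : First W₁ W₂ × Second W₁ W₂ => (c p.1 p.2).1) x := by
      rintro (i | j | p) <;> rfl
    have hnone : ∀ x, (sy none).1 ≠ (sy (some x)).1 := by
      rintro (i | j | p) h
      · exact hnp i j₀ (a i) (((hmem i j₀).1 _).mpr (Or.inl rfl)) h.symm
      · exact hnp i₀ j (b j) (((hmem i₀ j).1 _).mpr (Or.inr (Or.inl rfl))) h.symm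
      · exact hnp p.1 p.2 _ (((hmem p.1 p.2).1 _).mpr (Or.inr (Or.inr rfl))) h.symm
    rintro (_ | x) (_ | y) h
    · rfl
    · exact absurd h (hnone y)
    · exact absurd h.symm (hnone x)
    · simp only [hmid] at h
      rw [hinj h]
  let key : (W →* ℂˣ) → Option (First W₁ W₂ ⊕ (Second W₁ W₂ ⊕ First W₁ W₂ × Second W₁ W₂)) :=
    fun ω => if h1 : ω.comp (pr₁ hW) = 1 then
      (if h2 : ω.comp (pr₂ hW) = 1 then none
        else some (Sum.inr (Sum.inl ⟨_, onSecond_comp hW ω, h2⟩)))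
      else (if h2 : ω.comp (pr₂ hW) = 1 then some (Sum.inl ⟨_, onFirst_comp hW ω, h1⟩)
        else some (Sum.inr (Sum.inr (⟨_, onFirst_comp hW ω, h1⟩, ⟨_, onSecond_comp hW ω, h2⟩))))
  let back : Option (First W₁ W₂ ⊕ (Second W₁ W₂ ⊕ First W₁ W₂ × Second W₁ W₂)) → (W →* ℂˣ) :=
    fun k => match k with
    | none => 1
    | some (Sum.inl i) => i.1
    | some (Sum.inr (Sum.inl j)) => j.1
    | some (Sum.inr (Sum.inr p)) => p.1.1 * p.2.1
  have hback : ∀ ω, back (key ω) = ω := by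
    intro ω
    conv_rhs => rw [← comp_mul_comp hW ω]
    by_cases h1 : ω.comp (pr₁ hW) = 1 <;> by_cases h2 : ω.comp (pr₂ hW) = 1
    · simp only [key, back, dif_pos h1, dif_pos h2, h1, h2]
      exact (hom_one_mul _).symm
    · simp only [key, back, dif_pos h1, dif_neg h2, h1]
      exact (hom_one_mul _).symm
    · simp only [key, back, dif_neg h1, dif_pos h2, h2]
      exact (hom_mul_one _).symm
    · simp only [key, back, dif_neg h1, dif_neg h2]
  have hkey : Function.Injective key := fun ω ω' h => by rw [← hback ω, h, hback ω']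
  refine ⟨fun ω => sval (sy (key ω)), ?_⟩
  have horth : ∀ ω ω', Cfsg.classInner (sval (sy (key ω))) (sval (sy (key ω'))) =
      if ω = ω' then 1 else 0 := by
    intro ω ω'
    rw [classInner_sval]
    by_cases h : ω = ω'
    · subst h
      rw [if_pos rfl, if_pos rfl, if_neg, sub_zero]
      intro h'
      have := congrArg Prod.snd h'
      simp [opp] at this
    · have hne' : (sy (key ω)).1 ≠ (sy (key ω')).1 := fun he => h (hkey (hsy he))
      rw [if_neg h, if_neg fun he => hne' (congrArg Prod.fst he),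
        if_neg fun he => hne' (by rw [← he]; rfl), sub_zero]
  have hmap : sval (sy (key 1)) = fun _ => (1 : ℂ) := by
    have : key 1 = none := by
      simp only [key]
      rw [dif_pos (MonoidHom.one_comp _), dif_pos (MonoidHom.one_comp _)]
    rw [this]
    simp [sy, sval, principal]
  have hind : ∀ φ ψ : W →* ℂˣ, φ ≠ 1 → ψ ≠ 1 → OnFirst φ → OnSecond ψ →
      Cfsg.indFun (W) (alpha φ ψ) =
        fun g => 1 - sval (sy (key φ)) g - sval (sy (key ψ)) g + sval (sy (key (φ * ψ))) g := by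
    intro φ ψ h1 h2 hφ hψ
    have k1 : key φ = some (Sum.inl ⟨φ, hφ, h1⟩) := by
      have e1 : φ.comp (pr₁ hW) = φ := by simpa [hom_mul_one] using comp_pr₁ hW hφ onSecond_one
      have e2 : φ.comp (pr₂ hW) = 1 := by simpa [hom_mul_one] using comp_pr₂ hW hφ onSecond_one
      simp only [key]
      rw [dif_neg (by rw [e1]; exact h1), dif_pos e2]
      simp [e1]
    have k2 : key ψ = some (Sum.inr (Sum.inl ⟨ψ, hψ, h2⟩)) := by
      have e1 : ψ.comp (pr₁ hW) = 1 := by simpa [hom_one_mul] using comp_pr₁ hW onFirst_one hψ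
      have e2 : ψ.comp (pr₂ hW) = ψ := by simpa [hom_one_mul] using comp_pr₂ hW onFirst_one hψ
      simp only [key]
      rw [dif_pos e1, dif_neg (by rw [e2]; exact h2)]
      simp [e2]
    have k3 : key (φ * ψ) = some (Sum.inr (Sum.inr (⟨φ, hφ, h1⟩, ⟨ψ, hψ, h2⟩))) := by
      have e1 := comp_pr₁ hW hφ hψ
      have e2 := comp_pr₂ hW hφ hψ
      simp only [key]
      rw [dif_neg (by rw [e1]; exact h1), dif_neg (by rw [e2]; exact h2)]
      simp [e1, e2]
    rw [k1, k2, k3]
    set i : First W₁ W₂ := ⟨φ, hφ, h1⟩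
    set j : Second W₁ W₂ := ⟨ψ, hψ, h2⟩
    funext g
    have hsum : β i j = {a i, b j, c i j} := by
      ext s; rw [(hmem i j).1 s]; simp
    obtain ⟨-, hab, hac, hbc⟩ := hmem i j
    have := congrFun (hβ i j) g
    rw [hsum, Finset.sum_insert (by simp [hab, hac]), Finset.sum_pair hbc] at this
    simp only [hf, Pi.sub_apply, Pi.add_apply] at this
    simp only [sy, sval_opp, Pi.neg_apply]
    linear_combination this
  refine ⟨fun ω => sval_irr_or_neg _, fun a b => by convert horth a b, hmap, fun ω w hw₁ hw₂ => ?_, hind⟩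
  refine sub_eq_zero.mp (eq_zero_of_orth hW (fun x : W => sval (sy (key ω)) x - ev ω x)
    (fun φ ψ h1 h2 hφ hψ => ?_) w hw₁ hw₂)
  have hcls : Cfsg.IsClassFunction G (sval (sy (key ω))) := by
    rcases sval_irr_or_neg (sy (key ω)) with h | h
    · exact isClassFunction_isChar (isCharacter_of_irr h)
    · intro x y
      have := isClassFunction_isChar (isCharacter_of_irr h) x y
      simpa using this
  show Cfsg.classInner ((fun x : W => sval (sy (key ω)) x) - ev ω) (alpha φ ψ) = 0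
  rw [classInner_sub_left, ← classInner_conj_symm, ← classInner_indFun φ ψ hcls, classInner_conj_symm,
    hind φ ψ h1 h2 hφ hψ]
  rw [show (fun g => 1 - sval (sy (key φ)) g - sval (sy (key ψ)) g + sval (sy (key (φ * ψ))) g) =
      sval (sy (key 1)) - sval (sy (key φ)) - sval (sy (key ψ)) + sval (sy (key (φ * ψ))) by
    funext g; simp [hmap]]
  simp only [classInner_add_right, classInner_sub_right, horth, classInner_alpha, classInner_ev]
  ring

end Cfsg.Lib.CyclicTI
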