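import Cfsg.Agent.OddChar.FeitThompsonBound
import Cfsg.Agent.Chars.Clifford
import Cfsg.Agent.Chars.SmallDeg

/-!
# Normal Sylow subgroups of linear groups of small degree
-/

namespace Cfsg.Lib.OddChar.Blichfeldt

open Subgroup Cfsg.Lib.Chars
open scoped IsMulCommutative

universe u v

variable {p : ℕ} [Fact p.Prime]

/-- Every Sylow `p`-subgroup is normal. -/
def AllNormal (p : ℕ) (G : Type u) [Group G] : Prop :=
  ∀ Q : Sylow p G, (Q : Subgroup G).Normal

theorem allNormal_of_equiv {A : Type u} {B : Type v} [Group A] [Group B] [Finite A] (e : A ≃* B)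
    (h : AllNormal p B) : AllNormal p A := fun Q => by
  have hf : Function.Surjective e.toMonoidHom := e.surjective
  have h1 := h (Q.mapSurjective hf)
  have h2 : (Q : Subgroup A) =
      ((Q.mapSurjective hf : Sylow p B) : Subgroup B).comap e.toMonoidHom := by
    rw [Sylow.coe_mapSurjective, comap_map_eq_self_of_injective (show Function.Injective e.toMonoidHom from e.injective)]
  rw [h2]
  exact Normal.comap h1 _

/-- In a group with normal Sylow subgroup every `p`-subgroup lies below each Sylow subgroup. -/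
theorem le_of_allNormal {G : Type u} [Group G] [Finite G] {K : Subgroup G} (hK : AllNormal p K)
    (T : Sylow p G) (hT : (T : Subgroup G) ≤ K) {S : Subgroup G} (hS : IsPGroup p S) (hSK : S ≤ K) :
    S ≤ T := by
  have := hK (T.subtype hT)
  have h1 : IsPGroup p (S.subgroupOf K) := hS.comap_of_injective K.subtype K.subtype_injective
  have := Sylow.unique_of_normal (T.subtype hT) this
  obtain ⟨Q, hQ⟩ := h1.exists_le_sylow
  rw [Subsingleton.elim Q (T.subtype hT), Sylow.coe_subtype] at hQ
  intro s hs
  exact hQ (show (⟨s, hSK hs⟩ : K) ∈ S.subgroupOf K from hs)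

variable {G : Type u} [Group G] [Finite G]

/-- An abelian Sylow subgroup meets centre and commutator subgroup trivially. -/
theorem center_inter_commutator (P : Sylow p G) [IsMulCommutative (P : Subgroup G)] {z : G}
    (hzc : z ∈ center G) (hzG : z ∈ commutator G) (hzP : z ∈ (P : Subgroup G)) : z = 1 := by
  have key : ∀ (k : ℕ) (g₀ : G), g₀⁻¹ * z ^ k * g₀ ∈ (P : Subgroup G) →
      g₀⁻¹ * z ^ k * g₀ = z ^ k := fun k g₀ _ => by
    rw [mul_assoc, ← mem_center_iff.mp (pow_mem hzc k) g₀, inv_mul_cancel_left]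
  have h1 := MonoidHom.transfer_eq_pow (H := (P : Subgroup G)) (MonoidHom.id (P : Subgroup G)) z key
  have h2 : MonoidHom.transfer (MonoidHom.id (P : Subgroup G)) z = 1 :=
    Abelianization.commutator_subset_ker (MonoidHom.transfer (MonoidHom.id (P : Subgroup G))) hzG
  rw [h2] at h1
  have h3 : z ^ (P : Subgroup G).index = 1 := (congrArg Subtype.val h1).symm
  have h4 : orderOf z ∣ (P : Subgroup G).index := orderOf_dvd_of_pow_eq_one h3
  obtain ⟨k, hk⟩ := IsPGroup.iff_orderOf.mp P.2 ⟨z, hzP⟩
  rw [← Subgroup.orderOf_coe] at hk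
  have hk' : orderOf z = p ^ k := hk
  rcases Nat.eq_zero_or_pos k with h | h
  · rw [h, pow_zero] at hk'
    exact orderOf_eq_one_iff.mp hk'
  · exact absurd ((dvd_pow_self p h.ne').trans (hk' ▸ h4)) P.not_dvd_index

variable {n : ℕ}

theorem faithful_of_character {ρ : Representation ℂ G (Fin n → ℂ)} (hρ : Function.Injective ρ)
    {g : G} (h : ρ.character g = ρ.character 1) : g = 1 := by
  apply hρ
  rw [map_one]
  exact (eq_id_of_character_eq_finrank ρ g).mp (h.trans ρ.char_one)

/-- A `p`-subgroup is abelian. -/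
theorem abelian_of_small {ρ : Representation ℂ G (Fin n → ℂ)} (hρ : Function.Injective ρ)
    (hn : n < p) {Q : Subgroup G} (hQ : IsPGroup p Q) : IsMulCommutative Q := by
  have hres := IsCharacter.restrict (χ := ρ.character) ⟨n, ρ, rfl⟩ Q
  have hsmall : ∀ q : ℕ, q.Prime → q ∣ Nat.card Q → deg (fun x : Q => ρ.character x) < q := by
    intro q hq hqd
    obtain ⟨k, hk⟩ := IsPGroup.iff_card.mp hQ
    rw [hk] at hqd
    rw [(Nat.prime_dvd_prime_iff_eq hq Fact.out).mp (hq.dvd_of_dvd_pow hqd)]
    have : deg (fun x : Q => ρ.character x) = n := by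
      rw [show deg (fun x : Q => ρ.character x) = deg ρ.character from rfl, deg_character,
        Module.finrank_fin_fun]
    omega
  refine ⟨⟨fun a b => ?_⟩⟩
  have h1 := commutator_mem_ker_of_small hres hsmall a b
  have h2 := faithful_of_character hρ (g := ((a * b * a⁻¹ * b⁻¹ : Q) : G)) h1
  exact mul_inv_eq_one.mp (Subtype.ext (by simpa [mul_assoc] using h2) :
    a * b * (b * a)⁻¹ = 1)

/-- Some irreducible constituent of a faithful character is nontrivial at a nontrivial element. -/
theorem exists_constituent [Fintype G] {ρ : Representation ℂ G (Fin n → ℂ)}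
    (hρ : Function.Injective ρ) (Q : G → Prop) (hQ : ∃ g, Q g ∧ g ≠ 1) :
    ∃ ψ : Cfsg.IrrCharacter G, deg (ψ : G → ℂ) ≤ n ∧ ∃ g, Q g ∧ (ψ : G → ℂ) g ≠ (ψ : G → ℂ) 1 := by
  classical
  obtain ⟨g, hg, hg1⟩ := hQ
  obtain ⟨m, hm⟩ := Chars.exists_decomp ρ
  by_contra hall
  push Not at hall
  apply hg1
  apply faithful_of_character hρ
  rw [hm]
  simp only [Finset.sum_apply, Pi.smul_apply]
  refine Finset.sum_congr rfl fun ψ _ => ?_
  by_cases h : m ψ = 0
  · simp [h]
  · rw [hall ψ ?_ g hg]
    have h1 : n = ∑ φ : Cfsg.IrrCharacter G, m φ * deg (φ : G → ℂ) := by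
      apply Nat.cast_injective (R := ℂ)
      have h2 := congrFun hm 1
      simp only [Representation.char_one, Finset.sum_apply, nsmul_eq_mul, Pi.mul_apply, Pi.natCast_apply,
        irr_apply_one_eq_deg, Module.finrank_fin_fun] at h2
      push_cast
      exact h2
    calc deg (ψ : G → ℂ) ≤ m ψ * deg (ψ : G → ℂ) := Nat.le_mul_of_pos_left _ (Nat.pos_of_ne_zero h)
      _ ≤ n := h1 ▸ Finset.single_le_sum (f := fun φ : Cfsg.IrrCharacter G => m φ * deg (φ : G → ℂ))
          (fun _ _ => Nat.zero_le _) (Finset.mem_univ ψ)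

omit [Finite G] in
/-- A constituent of the restriction of a character of degree below `p` is invariant. -/
theorem invariant_of_constituent [Fintype G] {R : Subgroup G} [R.Normal] [Fintype R] {T : Subgroup G}
    (hsup : R ⊔ T = ⊤) (hT : IsPGroup p T) {ψ : Cfsg.IrrCharacter G} (hψ : deg (ψ : G → ℂ) < p)
    {ν : R → ℂ} (hν : Cfsg.IsIrrCharacter R ν)
    (hc : Cfsg.classInner (fun a : R => (ψ : G → ℂ) a) ν ≠ 0) : ∀ g : G, conjN R g ν = ν := by
  classical
  let S : Subgroup G :=
    { carrier := {g | conjN R g ν = ν}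
      one_mem' := conjN_one R ν
      mul_mem' := fun {a b} ha hb => by
        rw [Set.mem_ofPred_eq] at ha hb ⊢
        rw [conjN_mul, ha, hb]
      inv_mem' := fun {a} ha => by
        rw [Set.mem_ofPred_eq] at ha ⊢
        conv_lhs => rw [← ha, ← conjN_mul, mul_inv_cancel, conjN_one] }
  suffices h : S = ⊤ from fun g => (h ▸ mem_top g : g ∈ S)
  rw [eq_top_iff, ← hsup, sup_le_iff]
  refine ⟨fun a ha => conjN_of_mem (isClassFunction_isChar (isCharacter_of_irr hν)) ⟨a, ha⟩,
    fun x hx => ?_⟩
  set f : (R → ℂ) → (R → ℂ) := conjN R x with hf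
  have hiter : ∀ i : ℕ, f^[i] ν = conjN R (x ^ i) ν := by
    intro i
    induction i with
    | zero => simp [conjN_one]
    | succ i ih => rw [Function.iterate_succ_apply', ih, hf, ← conjN_mul, pow_succ]
  obtain ⟨k, hk⟩ := IsPGroup.iff_orderOf.mp hT ⟨x, hx⟩
  rw [Subgroup.orderOf_mk] at hk
  have hper : Function.IsPeriodicPt f (p ^ k) ν := by
    rw [Function.IsPeriodicPt, Function.IsFixedPt, hiter, ← hk, pow_orderOf_eq_one, conjN_one]
  obtain ⟨l, -, hl⟩ := (Nat.dvd_prime_pow Fact.out).mp hper.minimalPeriod_dvd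
  have hle : Function.minimalPeriod f ν ≤ (conjOrbit R ν).card := by
    calc _ = ((Finset.range (Function.minimalPeriod f ν)).image fun i => f^[i] ν).card := by
          rw [Finset.card_image_of_injOn, Finset.card_range]
          rw [Finset.coe_range]
          exact Function.iterate_injOn_Iio_minimalPeriod
      _ ≤ _ := Finset.card_le_card fun φ hφ => by
          obtain ⟨i, -, rfl⟩ := Finset.mem_image.mp hφ
          exact (mem_conjOrbit R).mpr ⟨x ^ i, (hiter i).symm⟩
  have horb : (conjOrbit R ν).card ≤ deg (ψ : G → ℂ) := by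
    obtain ⟨e, he⟩ := IsCharacter.exists_mult (IsCharacter.restrict (isCharacter_of_irr ψ.2) R) hν
    have h1 := congrFun (clifford R ψ.2 hν hc) 1
    simp only [Pi.smul_apply, Finset.sum_apply, smul_eq_mul, he] at h1
    have h2 : ∀ φ ∈ conjOrbit R ν, φ 1 = ν 1 := fun φ hφ => by
      obtain ⟨g, rfl⟩ := (mem_conjOrbit R).mp hφ
      show ν _ = ν 1
      congr 1
      exact Subtype.ext (by simp)
    obtain ⟨d, hd, hd1⟩ := IsIrrCharacter.apply_one hν
    rw [Finset.sum_congr rfl h2, Finset.sum_const, nsmul_eq_mul, hd1,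
      show ((1 : R) : G) = 1 from rfl, irr_apply_one_eq_deg] at h1
    have h3 : deg (ψ : G → ℂ) = e * ((conjOrbit R ν).card * d) := by exact_mod_cast h1
    have h4 : 1 ≤ e := Nat.pos_of_ne_zero fun h => hc (by rw [he, h, Nat.cast_zero])
    rw [h3]
    exact (Nat.le_mul_of_pos_right _ hd).trans (Nat.le_mul_of_pos_left _ h4)
  have hl0 : l = 0 := by
    by_contra h
    have h1 := Nat.le_self_pow h p
    omega
  rw [hl0, pow_zero, Function.minimalPeriod_eq_one_iff_isFixedPt] at hl
  exact hl

/-- The case of an `r`-group extended by the Sylow subgroup. -/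
theorem centralize_rp [Fintype G] {ρ : Representation ℂ G (Fin n → ℂ)} (hρ : Function.Injective ρ)
    (hn : n + 1 < p) (P : Sylow p G) [IsMulCommutative (P : Subgroup G)] {r : ℕ} [Fact r.Prime]
    (hr : r ≠ p) (R : Subgroup G) [R.Normal] (hR : IsPGroup r R)
    (hsup : R ⊔ (P : Subgroup G) = ⊤)
    (hcent : ∀ S : Subgroup G, S.Normal → S < R → S ≤ center G) :
    (P : Subgroup G) ≤ centralizer (R : Set G) := by
  classical
  intro x hx
  by_contra hxc
  let C : Subgroup G := R ⊓ centralizer ({x} : Set G)
  have hCne : C ≠ R := fun h => hxc (mem_centralizer_iff.mpr fun s hs =>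
    (mem_centralizer_singleton_iff.mp (h.symm ▸ (show s ∈ R from hs) : s ∈ C).2))
  have hTcop : ∀ z ∈ R, z ∈ (P : Subgroup G) → z = 1 := fun z hz hzP => by
    have h1 : orderOf z ∣ Nat.card R := by
      simpa using orderOf_dvd_natCard (⟨z, hz⟩ : R)
    obtain ⟨k, hk⟩ := IsPGroup.iff_card.mp hR
    obtain ⟨l, hl⟩ := IsPGroup.iff_card.mp P.2
    have h2 : orderOf z ∣ Nat.card (P : Subgroup G) := by
      simpa using orderOf_dvd_natCard (⟨z, hzP⟩ : (P : Subgroup G))
    rw [hk] at h1
    rw [hl] at h2
    exact orderOf_eq_one_iff.mp (Nat.eq_one_of_dvd_coprimes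
      (Nat.Coprime.pow k l ((Nat.coprime_primes Fact.out Fact.out).mpr hr)) h1 h2)
  -- commutator of `R`
  have hR'lt : ⁅R, R⁆ < R := by
    refine lt_of_le_of_ne (commutator_le_self R) fun h => ?_
    rcases eq_or_ne R ⊥ with h0 | h0
    · exact hxc (mem_centralizer_iff.mpr fun s hs => by
        rw [h0] at hs
        rw [mem_bot.mp hs, one_mul, mul_one])
    · have : Nontrivial R := (nontrivial_iff_ne_bot R).mpr h0
      have := hR.isNilpotent
      have h2 : _root_.commutator R = ⊤ := by
        apply map_injective R.subtype_injective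
        rw [_root_.commutator_def, map_commutator, ← MonoidHom.range_eq_map, R.range_subtype]
        exact h
      exact (Group.IsSolvable.commutator_lt_top_of_nontrivial R).ne h2
  have hR'c : ⁅R, R⁆ ≤ center G := hcent _ inferInstance hR'lt
  -- the fixed points of `x`
  have hCn : C.Normal := by
    rw [← normalizer_eq_top_iff, eq_top_iff, ← hsup, sup_le_iff]
    have key : ∀ g : G, (∀ c ∈ C, g * c * g⁻¹ ∈ C) → g ∈ normalizer (C : Set G) := fun g hg =>
      mem_normalizer_fintype fun c hc => hg c hc
    constructor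
    · intro s hs
      refine key s fun c hc => ?_
      have h1 : s * c * s⁻¹ * c⁻¹ ∈ center G := hR'c (commutator_mem_commutator hs hc.1)
      refine ⟨(inferInstance : R.Normal).conj_mem c hc.1 s, mem_centralizer_singleton_iff.mpr ?_⟩
      rw [show s * c * s⁻¹ = (s * c * s⁻¹ * c⁻¹) * c by group, mul_assoc,
        mem_centralizer_singleton_iff.mp hc.2, ← mul_assoc, ← mem_center_iff.mp h1 x, mul_assoc]
    · intro y hy
      refine key y fun c hc => ⟨(inferInstance : R.Normal).conj_mem c hc.1 y,
        mem_centralizer_singleton_iff.mpr ?_⟩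
      have hxy : x * y = y * x := setLike_mul_comm hx hy
      have h1 := mem_centralizer_singleton_iff.mp hc.2
      have h2 : x * y⁻¹ = y⁻¹ * x := by
        rw [eq_inv_mul_iff_mul_eq, ← mul_assoc, ← hxy, mul_inv_cancel_right]
      rw [mul_assoc, ← h2, ← mul_assoc, mul_assoc y c x, h1, ← mul_assoc, ← hxy]
      simp only [mul_assoc]
  have hCc : C ≤ center G := hcent C hCn (lt_of_le_of_ne inf_le_left hCne)
  -- a constituent on which `R` is not abelian
  have hnab : ∃ s ∈ R, ∃ t ∈ R, s * t ≠ t * s := by
    by_contra hab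
    push Not at hab
    apply hxc
    refine mem_centralizer_iff.mpr fun s hs => ?_
    by_contra hne
    have hc1 : x * s * x⁻¹ * s⁻¹ ≠ 1 := fun h =>
      hne (eq_mul_of_mul_inv_eq (mul_inv_eq_one.mp h)).symm
    obtain ⟨ψ, hψn, g, ⟨rfl⟩, hg⟩ := exists_constituent hρ (fun g => g = x * s * x⁻¹ * s⁻¹)
      ⟨_, rfl, hc1⟩
    obtain ⟨ν, hνi, hν⟩ := Chars.exists_constituent R (isCharacter_of_irr ψ.2)
      (IsIrrCharacter.apply_one_ne_zero ψ.2)
    have hinvar := invariant_of_constituent (ψ := ψ) hsup P.2 (by omega) hνi hν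
    obtain ⟨e, -, he⟩ := restrict_eq_mult_of_invariant R ψ.2 hνi hinvar hν
    have hν1 : ν 1 = 1 := irr_deg_one_of_comm (fun a b => Subtype.ext (hab _ a.2 _ b.2)) hνi
    obtain ⟨f, hf⟩ := exists_hom_of_deg_one (isCharacter_of_irr hνi) hν1
    have hsR : x * s * x⁻¹ ∈ R := (inferInstance : R.Normal).conj_mem s hs x
    have hinv' := congrFun (hinvar x) ⟨s, hs⟩
    simp only [conjN, hf] at hinv'
    apply hg
    have h1 := congrFun he ⟨x * s * x⁻¹ * s⁻¹, R.mul_mem hsR (R.inv_mem hs)⟩
    have h2 := congrFun he 1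
    simp only [Pi.smul_apply, hf, map_one, Units.val_one] at h1 h2
    have h3 : f ⟨x * s * x⁻¹ * s⁻¹, R.mul_mem hsR (R.inv_mem hs)⟩ = 1 := by
      rw [show (⟨x * s * x⁻¹ * s⁻¹, R.mul_mem hsR (R.inv_mem hs)⟩ : R) =
        (⟨x * s * x⁻¹, hsR⟩ : R) * ⟨s, hs⟩⁻¹ from rfl, map_mul, map_inv, Units.ext hinv',
        mul_inv_cancel]
    rw [h3, Units.val_one] at h1
    exact h1.trans h2.symm
  obtain ⟨s₀, hs₀, t₀, ht₀, hst⟩ := hnab
  obtain ⟨ψ, hψn, g, ⟨rfl⟩, hg⟩ := exists_constituent hρ (fun g => g = s₀ * t₀ * s₀⁻¹ * t₀⁻¹)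
    ⟨_, rfl, fun h => hst (eq_mul_of_mul_inv_eq (mul_inv_eq_one.mp h))⟩
  obtain ⟨ν', hνi, hν⟩ := Chars.exists_constituent R (isCharacter_of_irr ψ.2)
    (IsIrrCharacter.apply_one_ne_zero ψ.2)
  let ν : Cfsg.IrrCharacter R := ⟨ν', hνi⟩
  have hinv : ∀ g, conjN R g (ν : R → ℂ) = ν :=
    invariant_of_constituent (ψ := ψ) hsup P.2 (by omega) hνi hν
  obtain ⟨e, he0, he⟩ := restrict_eq_mult_of_invariant R ψ.2 ν.2 hinv hν
  obtain ⟨d, hd, hd1⟩ := IsIrrCharacter.apply_one ν.2
  have hψ1 := congrFun he 1
  simp only [Pi.smul_apply] at hψ1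
  have hdn : d ≤ n := by
    have h1 : ((deg (ψ : G → ℂ) : ℕ) : ℂ) = ((e * d : ℕ) : ℂ) := by
      rw [← irr_apply_one_eq_deg]
      simpa [hd1] using hψ1
    have h2 := Nat.cast_injective h1
    have he0' : 1 ≤ e := Nat.pos_of_ne_zero fun h => by
      rw [h, zero_mul] at h2; exact (deg_irr_pos ψ).ne' h2
    nlinarith
  have hd2 : 2 ≤ d := by
    by_contra hlt
    obtain ⟨f, hf⟩ := exists_hom_of_deg_one (isCharacter_of_irr ν.2)
      (by rw [hd1, show d = 1 by omega, Nat.cast_one])
    apply hg
    have h1 := congrFun he ((⟨s₀, hs₀⟩ : R) * ⟨t₀, ht₀⟩ * (⟨s₀, hs₀⟩ : R)⁻¹ * (⟨t₀, ht₀⟩ : R)⁻¹)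
    simp only [Pi.smul_apply, hf, map_mul, map_inv, mul_inv_cancel_comm, mul_inv_cancel,
      Units.val_one] at h1
    simp only [hf, map_one, Units.val_one] at hψ1
    exact h1.trans hψ1.symm
  -- `ν` vanishes off the centre
  let Z : Subgroup G := R ⊓ center G
  have hvan : ∀ a : R, (a : G) ∉ Z → (ν : R → ℂ) a = 0 := by
    obtain ⟨k, σ, hσ, hσc⟩ := ν.2
    let ι := MonoidHom.toHomUnits σ
    let M : Subgroup R :=
      { carrier := {a | ∃ c : ℂ, σ a = c • LinearMap.id}
        one_mem' := ⟨1, by simp [Module.End.one_eq_id]⟩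
        mul_mem' := by
          rintro a b ⟨c, hc⟩ ⟨c', hc'⟩
          exact ⟨c * c', by rw [map_mul, hc, hc', smul_mul_assoc, mul_smul_comm, smul_smul,
            show (LinearMap.id : (Fin k → ℂ) →ₗ[ℂ] _) * LinearMap.id = LinearMap.id from one_mul _]⟩
        inv_mem' := by
          rintro a ⟨c, hc⟩
          refine ⟨c⁻¹, ?_⟩
          have h1 : σ a⁻¹ * σ a = 1 := by rw [← map_mul, inv_mul_cancel, map_one]
          rw [hc, mul_smul_comm, show σ a⁻¹ * (LinearMap.id : (Fin k → ℂ) →ₗ[ℂ] _) = σ a⁻¹ from
            mul_one _] at h1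
          rcases eq_or_ne c 0 with h0 | h0
          · rw [h0, zero_smul] at h1
            have := nontrivial_of_irreducible σ
            exact absurd h1 zero_ne_one
          · rw [← Module.End.one_eq_id, ← h1, smul_smul, inv_mul_cancel₀ h0, one_smul] }
    have hnotM : ∀ a, a ∉ M → ∃ b, σ (b * a * b⁻¹ * a⁻¹) ≠ 1 := by
      intro a ha
      by_contra hall
      push Not at hall
      apply ha
      refine schur_scalar σ (σ a) fun b v => ?_
      have h1 : σ (b * a) = σ (a * b) := by
        rw [show b * a = (b * a * b⁻¹ * a⁻¹) * (a * b) by group, map_mul, hall, one_mul]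
      rw [map_mul, map_mul] at h1
      exact (LinearMap.congr_fun h1 v).symm
    have hzero : ∀ a, a ∉ M → σ.character a = 0 := by
      intro a ha
      obtain ⟨b, hb⟩ := hnotM a ha
      set z := b * a * b⁻¹ * a⁻¹ with hz
      have hzc : (z : G) ∈ center G := hR'c (commutator_mem_commutator b.2 a.2)
      have hzR : z ∈ center R := mem_center_iff.mpr fun y => Subtype.ext (mem_center_iff.mp hzc y)
      obtain ⟨c, hc⟩ := schur_scalar σ (σ z) fun g v => by
        rw [← Module.End.mul_apply, ← Module.End.mul_apply, ← map_mul, ← map_mul,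
          mem_center_iff.mp hzR g]
      have h1 : σ.character a = c * σ.character a := by
        conv_lhs => rw [← isClassFunction_character σ a b, show b * a * b⁻¹ = z * a by rw [hz]; group]
        rw [Representation.character, map_mul, hc, smul_mul_assoc,
          show (LinearMap.id : (Fin k → ℂ) →ₗ[ℂ] _) * σ a = σ a from one_mul _, map_smul,
          smul_eq_mul, Representation.character]
      by_contra h0
      apply hb
      rw [hc, show c = 1 from mul_right_cancel₀ h0 (by rw [one_mul]; exact h1.symm), one_smul]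
      rfl
    have hMne : M.map R.subtype ≠ R := by
      intro h
      have hall : ∀ a : R, a ∈ M := fun a => by
        obtain ⟨b, hb, hba⟩ : (a : G) ∈ M.map R.subtype := by rw [h]; exact a.2
        rwa [← R.subtype_injective hba]
      have : Module.finrank ℂ (Fin k → ℂ) = 1 := by
        rw [← Nat.dvd_one]
        have h2 := finrank_dvd_index_of_scalar σ ⊤ (fun a _ => hall a)
        rwa [index_top] at h2
      rw [← hσc, σ.char_one, this, Nat.cast_one] at hd1
      have h3 : d = 1 := by exact_mod_cast hd1.symm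
      omega
    have hMn : (M.map R.subtype).Normal := by
      refine ⟨fun y hy g => ?_⟩
      obtain ⟨a, ha, rfl⟩ := hy
      refine ⟨MulAut.conjNormal g a, ?_, by simp⟩
      by_contra hna
      have h1 := hzero _ hna
      have h2 := congrFun (hinv g) a
      rw [← hσc] at h2
      simp only [conjN] at h2
      rw [show (MulAut.conjNormal g a : R) = ⟨g * a * g⁻¹, (inferInstance : R.Normal).conj_mem a a.2 g⟩
        from Subtype.ext (MulAut.conjNormal_apply g a)] at h1
      obtain ⟨c, hc⟩ := ha
      have h3 : σ.character a = c * Module.finrank ℂ (Fin k → ℂ) := by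
        rw [Representation.character, hc, map_smul, LinearMap.trace_id, smul_eq_mul]
      rw [h1] at h2
      rcases mul_eq_zero.mp (h2.trans h3).symm with h4 | h4
      · rw [h4, zero_smul] at hc
        have := nontrivial_of_irreducible σ
        have h5 : σ a⁻¹ * σ a = 1 := by rw [← map_mul, inv_mul_cancel, map_one]
        rw [hc, mul_zero] at h5
        exact zero_ne_one h5
      · exact (finrank_pos_of_irreducible σ).ne' (by exact_mod_cast h4)
    have hMc := hcent _ hMn (lt_of_le_of_ne (map_subtype_le M) hMne)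
    intro a ha
    rw [← hσc]
    exact hzero a fun h => ha ⟨a.2, hMc ⟨a, h, rfl⟩⟩
  -- count
  have hcard : Nat.card R = Nat.card Z * (d * d) := by
    have h1 : ∑ a : R, ‖(ν : R → ℂ) a‖ ^ 2 = (Nat.card R : ℝ) := by
      apply Complex.ofReal_injective
      rw [FeitThompsonBound.sum_norm_sq, classInner_irr_self, mul_one, Complex.ofReal_natCast]
    rw [← Finset.sum_filter_add_sum_filter_not Finset.univ (fun a : R => (a : G) ∈ Z),
      Finset.sum_eq_zero (s := Finset.univ.filter fun a : R => ¬ (a : G) ∈ Z) fun a ha => by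
        rw [hvan a (Finset.mem_filter.mp ha).2, norm_zero, zero_pow two_ne_zero],
      add_zero, Finset.sum_congr rfl (g := fun _ => (d : ℝ) ^ 2) fun a ha => by
        rw [FeitThompsonBound.center_apply ν.2 (mem_center_iff.mpr fun y => Subtype.ext
          (mem_center_iff.mp (Finset.mem_filter.mp ha).2.2 y)), hd1, Complex.natCast_re],
      Finset.sum_const, nsmul_eq_mul, ← Fintype.card_subtype, ← Nat.card_eq_fintype_card] at h1
    have h2 : Nat.card {a : R // (a : G) ∈ Z} = Nat.card Z :=
      Nat.card_congr (subgroupOfEquivOfLe (inf_le_left : Z ≤ R)).toEquiv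
    rw [h2, sq] at h1
    exact_mod_cast h1.symm
  -- fixed points of `x` on `R ⧸ Z`
  have : Z.Normal := inferInstance
  let π := QuotientGroup.mk' Z
  let Rb := R.map π
  have : Rb.Normal := Normal.map inferInstance π (QuotientGroup.mk'_surjective Z)
  let act : zpowers x →* MulAut Rb := (MulAut.conjNormal.comp π).comp (zpowers x).subtype
  let := MulAction.compHom Rb act
  have hxp : IsPGroup p (zpowers x) := P.2.to_le (zpowers_le.mpr hx)
  have hfix : MulAction.fixedPoints (zpowers x) Rb = {1} := by
    ext q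
    rw [MulAction.mem_fixedPoints, Set.mem_singleton_iff]
    constructor
    · intro hq
      obtain ⟨a, ha, haq⟩ := q.2
      have h1 := congrArg Subtype.val (hq ⟨x, mem_zpowers x⟩)
      have h2 : π x * π a * (π x)⁻¹ = π a := by
        rw [haq]
        simpa [act, MulAction.compHom_smul_def, MulAut.conjNormal_apply] using h1
      have h3 : a⁻¹ * (x * a * x⁻¹) ∈ Z := by
        rw [← QuotientGroup.eq]
        simpa [π] using h2.symm
      set z := a⁻¹ * (x * a * x⁻¹) with hz
      have hxa : ∀ i : ℕ, x ^ i * a * (x ^ i)⁻¹ = a * z ^ i := by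
        intro i
        induction i with
        | zero => simp
        | succ i ih =>
          rw [pow_succ, mul_inv_rev,
            show x ^ i * x * a * (x⁻¹ * (x ^ i)⁻¹) = x ^ i * (x * a * x⁻¹) * (x ^ i)⁻¹ by group,
            show x * a * x⁻¹ = a * z by rw [hz, mul_inv_cancel_left], ← mul_assoc, mul_assoc (x ^ i * a),
            ← mem_center_iff.mp h3.2 (x ^ i)⁻¹, ← mul_assoc, ih, pow_succ, mul_assoc]
      have h4 := hxa (orderOf x)
      rw [pow_orderOf_eq_one, one_mul, inv_one, mul_one] at h4
      have h5 : z ^ orderOf x = 1 := mul_eq_left.mp h4.symm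
      obtain ⟨k, hk⟩ := IsPGroup.iff_orderOf.mp hxp ⟨x, mem_zpowers x⟩
      rw [Subgroup.orderOf_mk] at hk
      obtain ⟨l, hl⟩ := IsPGroup.iff_orderOf.mp hR ⟨z, h3.1⟩
      rw [Subgroup.orderOf_mk] at hl
      have h6 : orderOf z ∣ p ^ k := hk ▸ orderOf_dvd_of_pow_eq_one h5
      have hz1 : z = 1 := orderOf_eq_one_iff.mp (Nat.eq_one_of_dvd_coprimes
        (Nat.Coprime.pow l k ((Nat.coprime_primes Fact.out Fact.out).mpr hr))
        (hl ▸ dvd_refl _) h6)
      have haC : a ∈ C := ⟨ha, mem_centralizer_singleton_iff.mpr (by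
        have h7 : x * a * x⁻¹ = a := inv_mul_eq_one.mp (hz ▸ hz1) |>.symm
        exact (mul_inv_eq_iff_eq_mul.mp h7).symm)⟩
      refine Subtype.ext ?_
      rw [← haq, OneMemClass.coe_one]
      exact (QuotientGroup.eq_one_iff a).mpr ⟨ha, hCc haC⟩
    · rintro rfl g
      show act g 1 = 1
      exact map_one _
  have hRb : Nat.card Rb = d * d := by
    have h1 := card_mul_index (Z.subgroupOf R)
    rw [Nat.card_congr (subgroupOfEquivOfLe (inf_le_left : Z ≤ R)).toEquiv, hcard] at h1
    have h2 : Nat.card Rb = (Z.subgroupOf R).index := by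
      let f := π.comp R.subtype
      have h3 : f.range = Rb := by rw [MonoidHom.range_comp, R.range_subtype]
      have h4 : f.ker = Z.subgroupOf R := by
        ext a
        simp [f, π, mem_subgroupOf]
      rw [← h4, index_ker, h3]
    rw [h2]
    exact Nat.eq_of_mul_eq_mul_left Nat.card_pos h1
  have hmod := hxp.card_modEq_card_fixedPoints Rb
  rw [hfix, hRb, Nat.card_coe_set_eq, Set.ncard_singleton] at hmod
  have h1 : p ∣ (d - 1) * (d + 1) := by
    have h2 := (Nat.modEq_iff_dvd' (by nlinarith)).mp hmod.symm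
    rwa [mul_comm, ← Nat.sq_sub_sq, one_pow, sq]
  rcases (Fact.out : p.Prime).dvd_mul.mp h1 with h2 | h2
  · have := Nat.le_of_dvd (by omega) h2; omega
  · have := Nat.le_of_dvd (by omega) h2; omega

/-- A group all of whose proper subgroups have a normal Sylow subgroup. -/
theorem normal_step [Fintype G] {ρ : Representation ℂ G (Fin n → ℂ)} (hρ : Function.Injective ρ)
    (hn : n + 1 < p) (P : Sylow p G) (hbig : (n + 1) ^ 2 ≤ Nat.card (P : Subgroup G))
    (hprop : ∀ L : Subgroup G, L ≠ ⊤ → AllNormal p L) : (P : Subgroup G).Normal := by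
  classical
  by_contra hnot
  have hP1 : (P : Subgroup G) ≠ ⊥ := fun h => hnot (h ▸ inferInstance)
  have : IsMulCommutative (P : Subgroup G) := abelian_of_small hρ (by omega) P.2
  have hPab : ∀ T : Sylow p G, IsMulCommutative (T : Subgroup G) := fun T =>
    abelian_of_small hρ (by omega) T.2
  -- no proper normal subgroup contains `P`
  have hnor : ∀ M : Subgroup G, M.Normal → (P : Subgroup G) ≤ M → M = ⊤ := by
    intro M hM hPM
    by_contra hne
    apply hnot
    rw [← normalizer_eq_top_iff, eq_top_iff]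
    intro g _
    refine mem_normalizer_fintype fun y hy => ?_
    have hle : (P : Subgroup G).map (MulAut.conj g).toMonoidHom ≤ M := by
      rintro _ ⟨z, hz, rfl⟩
      exact hM.conj_mem z (hPM hz) g
    exact le_of_allNormal (hprop M hne) P hPM (P.2.map _) hle ⟨y, hy, rfl⟩
  have hproper : ∀ y : G, y ∉ center G → centralizer ({y} : Set G) ≠ ⊤ := by
    intro y hy h
    exact hy (mem_center_iff.mpr fun z =>
      mem_centralizer_singleton_iff.mp (show z ∈ centralizer ({y} : Set G) from h ▸ mem_top z))
  -- a normal `p`-subgroup is central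
  have hcen : ∀ M : Subgroup G, M.Normal → (P : Subgroup G) ≤ centralizer (M : Set G) →
      M ≤ center G := by
    intro M hM hPM y hy
    have h := hnor _ inferInstance hPM
    exact mem_center_iff.mpr fun z =>
      ((mem_centralizer_iff.mp (show z ∈ centralizer (M : Set G) from h ▸ mem_top z)) y hy).symm
  by_cases hperf : _root_.commutator G = ⊤
  · -- the perfect case
    have hZ : (P : Subgroup G) ⊓ center G = ⊥ := (eq_bot_iff_forall _).mpr fun z hz =>
      center_inter_commutator P hz.2 (hperf ▸ mem_top z) hz.1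
    have hconj : ∀ a : G, (P : Subgroup G).map (MulAut.conj a).toMonoidHom =
        ((a • P : Sylow p G) : Subgroup G) := fun a => rfl
    have hone : ∀ g : G, g ∉ center G → ∀ a b : G,
        centralizer ({g} : Set G) ⊓ (P : Subgroup G).map (MulAut.conj a).toMonoidHom ≠ ⊥ →
        centralizer ({g} : Set G) ⊓ (P : Subgroup G).map (MulAut.conj b).toMonoidHom ≠ ⊥ →
        (P : Subgroup G).map (MulAut.conj a).toMonoidHom =
          (P : Subgroup G).map (MulAut.conj b).toMonoidHom := by
      intro g hg a b ha hb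
      rw [hconj] at ha hb ⊢
      rw [hconj]
      have hnc : ∀ (T : Sylow p G) (z : G), z ∈ (T : Subgroup G) → z ≠ 1 → z ∉ center G := by
        intro T z hz hz1 hc
        obtain ⟨c, rfl⟩ := MulAction.exists_smul_eq G P T
        obtain ⟨y, hy, rfl⟩ := hz
        apply hz1
        have hy' : y ∈ center G := by
          have := (inferInstance : (center G).Normal).conj_mem _ hc c⁻¹
          simpa [mul_assoc] using this
        rw [(eq_bot_iff_forall _).mp hZ y ⟨hy, hy'⟩]
        exact map_one _
      have hprp := hprop _ (hproper g hg)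
      obtain ⟨Q⟩ : Nonempty (Sylow p (centralizer ({g} : Set G))) := inferInstance
      let S : Subgroup G := (Q : Subgroup _).map (centralizer ({g} : Set G)).subtype
      have : Subsingleton (Sylow p (centralizer ({g} : Set G))) := by
        have := Sylow.unique_of_normal Q (hprp Q)
        infer_instance
      have hSmax : ∀ T : Subgroup G, IsPGroup p T → T ≤ centralizer ({g} : Set G) → T ≤ S := by
        intro T hT hTC t ht
        obtain ⟨Q', hQ'⟩ := (hT.comap_of_injective (centralizer ({g} : Set G)).subtype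
          (subtype_injective _)).exists_le_sylow
        rw [Subsingleton.elim Q' Q] at hQ'
        exact ⟨⟨t, hTC ht⟩, hQ' ht, rfl⟩
      have hSp : IsPGroup p S := Q.2.map _
      have hSab : IsMulCommutative S := abelian_of_small hρ (by omega) hSp
      -- `S` lies in any conjugate meeting the centralizer
      have hSle : ∀ c : G, centralizer ({g} : Set G) ⊓ ((c • P : Sylow p G) : Subgroup G) ≠ ⊥ →
          S ≤ (c • P : Sylow p G) ∧ ∃ d ∈ S, d ≠ 1 := by
        intro c hc
        obtain ⟨d, hd, hd1⟩ := (bot_or_exists_ne_one _).resolve_left hc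
        have hdS : d ∈ S := by
          have hdp : IsPGroup p (zpowers d) := (c • P).2.to_le (zpowers_le.mpr hd.2)
          exact hSmax _ hdp (zpowers_le.mpr hd.1) (mem_zpowers d)
        refine ⟨le_of_allNormal (hprop _ (hproper d (hnc _ d hd.2 hd1))) (c • P) ?_ hSp ?_,
          d, hdS, hd1⟩
        · intro y hy
          have := hPab (c • P)
          exact mem_centralizer_singleton_iff.mpr (setLike_mul_comm hy hd.2)
        · intro y hy
          exact mem_centralizer_singleton_iff.mpr (setLike_mul_comm hy hdS)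
      obtain ⟨hSa, s, hs, hs1⟩ := hSle a ha
      obtain ⟨hSb, -⟩ := hSle b hb
      have hcs := hprop _ (hproper s (hnc _ s (hSa hs) hs1))
      have hin : ∀ T : Sylow p G, s ∈ (T : Subgroup G) →
          (T : Subgroup G) ≤ centralizer ({s} : Set G) := fun T hsT y hy => by
        have := hPab T
        exact mem_centralizer_singleton_iff.mpr (setLike_mul_comm hy hsT)
      exact le_antisymm
        (le_of_allNormal hcs (b • P) (hin _ (hSb hs)) (a • P).2 (hin _ (hSa hs)))
        (le_of_allNormal hcs (a • P) (hin _ (hSa hs)) (b • P).2 (hin _ (hSb hs)))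
    obtain ⟨ψ, hψn, g, hg, hgψ⟩ := exists_constituent hρ (fun g => g ∈ (P : Subgroup G))
      ((bot_or_exists_ne_one _).resolve_left hP1)
    have hψ1 : (ψ : G → ℂ) 1 ≠ 1 := by
      intro h
      obtain ⟨f, hf⟩ := exists_hom_of_deg_one (isCharacter_of_irr ψ.2) h
      have hker := Abelianization.commutator_subset_ker f
      rw [hperf] at hker
      apply hgψ
      simp only [hf, MonoidHom.mem_ker.mp (hker (mem_top g)), map_one]
    have : Fintype (P : Subgroup G) := Fintype.ofFinite _
    have h1 := FeitThompsonBound.second_bound (P : Subgroup G)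
      (fun a ha b hb => setLike_mul_comm ha hb) hZ hone ψ.2 hψ1 hnor
    rw [irr_apply_one_eq_deg, Complex.natCast_re] at h1
    have h2 : Nat.card (P : Subgroup G) < (1 + deg (ψ : G → ℂ)) ^ 2 := by exact_mod_cast h1
    have h3 : (1 + deg (ψ : G → ℂ)) ^ 2 ≤ (n + 1) ^ 2 := Nat.pow_le_pow_left (by omega) 2
    omega
  · -- the commutator subgroup is proper
    have hGP : _root_.commutator G ⊔ (P : Subgroup G) = ⊤ := by
      refine hnor _ (normalizer_eq_top_iff.mp (eq_top_iff.mpr fun g _ => ?_)) le_sup_right
      refine mem_normalizer_fintype fun y hy => ?_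
      rw [show g * y * g⁻¹ = g * y * g⁻¹ * y⁻¹ * y by group]
      exact mul_mem (mem_sup_left (commutator_mem_commutator (mem_top g) (mem_top y))) hy
    let M := _root_.commutator G
    have hMn : M.Normal := inferInstance
    have hQbot : M ⊓ (P : Subgroup G) = ⊥ := by
      obtain ⟨Q⟩ : Nonempty (Sylow p M) := inferInstance
      have hQn := hprop M hperf Q
      have := Sylow.unique_of_normal Q hQn
      have hle : M ⊓ (P : Subgroup G) ≤ (Q : Subgroup M).map M.subtype := by
        intro y hy
        obtain ⟨Q', hQ'⟩ := ((P.2.to_le (inf_le_right : M ⊓ (P : Subgroup G) ≤ P)).comap_of_injective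
          M.subtype M.subtype_injective).exists_le_sylow
        rw [Subsingleton.elim Q' Q] at hQ'
        exact ⟨⟨y, hy.1⟩, hQ' hy, rfl⟩
      let Qg := (Q : Subgroup M).map M.subtype
      have hQgn : Qg.Normal := by
        have : (Q : Subgroup M).Characteristic := Sylow.characteristic_of_subsingleton Q
        exact inferInstance
      have hQgp : IsPGroup p Qg := Q.2.map _
      have hQgP : Qg ≤ P := hQgp.le_sylow_of_normal P
      have hQc : Qg ≤ center G := hcen _ hQgn fun y hy => mem_centralizer_iff.mpr fun z hz =>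
        setLike_mul_comm (hQgP hz) hy
      exact (eq_bot_iff_forall _).mpr fun y hy =>
        center_inter_commutator P (hQc (hle hy)) hy.1 hy.2
    have hMp : ¬ p ∣ Nat.card M := by
      intro hdvd
      obtain ⟨y, hy⟩ := exists_prime_orderOf_dvd_card' p hdvd
      have hyp : IsPGroup p (zpowers (y : G)) := IsPGroup.of_card (n := 1)
        (by rw [Nat.card_zpowers, Subgroup.orderOf_coe, hy, pow_one])
      obtain ⟨T, hT⟩ := hyp.exists_le_sylow
      obtain ⟨c, rfl⟩ := MulAction.exists_smul_eq G P T
      obtain ⟨z, hz, hzy⟩ := hT (mem_zpowers _)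
      have hzM : z ∈ M := by
        have h1 : (c * z * c⁻¹ : G) ∈ M := by
          show (MulAut.conj c).toMonoidHom z ∈ M
          exact hzy ▸ y.2
        simpa [mul_assoc] using hMn.conj_mem _ h1 c⁻¹
      have h2 := (eq_bot_iff_forall _).mp hQbot z ⟨hzM, hz⟩
      have hy1 : (y : G) = 1 := by rw [← hzy, h2]; exact map_one _
      rw [OneMemClass.coe_eq_one] at hy1
      rw [hy1, orderOf_one] at hy
      exact (Fact.out : p.Prime).one_lt.ne hy
    -- `P` centralizes a Sylow subgroup of the commutator subgroup for each prime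
    apply hnot
    suffices hle : M ≤ centralizer ((P : Subgroup G) : Set G) by
      rw [← normalizer_eq_top_iff, eq_top_iff, ← hGP, sup_le_iff]
      exact ⟨hle.trans (centralizer_le_normalizer _), le_normalizer⟩
    by_contra hcon
    have hcard : ¬ Nat.card M ∣ Nat.card (M ⊓ centralizer ((P : Subgroup G) : Set G) : Subgroup G) :=
      fun h => hcon (inf_eq_left.mp
        (eq_of_le_of_card_ge inf_le_left (Nat.le_of_dvd Nat.card_pos h)))
    apply hcard
    rw [Nat.dvd_iff_prime_pow_dvd_dvd]
    intro r k hr hrk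
    rcases Nat.eq_zero_or_pos k with rfl | hk
    · simp
    have hrp : r ≠ p := by
      rintro rfl
      exact hMp ((dvd_pow_self r hk.ne').trans hrk)
    have := Fact.mk hr
    obtain ⟨R₀⟩ : Nonempty (Sylow r M) := inferInstance
    let R := (R₀ : Subgroup M).map M.subtype
    have hfr := Sylow.normalizer_sup_eq_top R₀
    let N := normalizer (R : Set G)
    -- some conjugate of `P` normalizes `R`
    have hdiv : p ^ (Nat.card G).factorization p ∣ Nat.card N := by
      have h1 : Nat.card G ∣ Nat.card M * Nat.card N := by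
        refine ⟨Nat.card (N ⊓ M : Subgroup G), ?_⟩
        have h2 := Subgroup.relIndex_sup_left (H := N) (K := M)
        rw [show M ⊔ N = ⊤ from sup_comm M N ▸ hfr] at h2
        have h3 := card_mul_index N
        have h4 : Nat.card (N ⊓ M : Subgroup G) * (N ⊓ M).relIndex M = Nat.card M := by
          rw [relIndex, ← Nat.card_congr (subgroupOfEquivOfLe (inf_le_right : N ⊓ M ≤ M)).toEquiv,
            card_mul_index]
        rw [inf_relIndex_right] at h4
        have h5 : M.relIndex N * Nat.card (N ⊓ M : Subgroup G) = Nat.card N := by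
          rw [← inf_relIndex_left, relIndex, mul_comm,
            ← Nat.card_congr (subgroupOfEquivOfLe (inf_le_left : N ⊓ M ≤ N)).toEquiv, card_mul_index]
        have h6 : M.index = M.relIndex N := by rw [← h2, relIndex_top_right]
        calc Nat.card M * Nat.card N = (Nat.card M * M.index) * Nat.card (N ⊓ M : Subgroup G) := by
              rw [h6, ← h5]; ring
          _ = Nat.card G * Nat.card (N ⊓ M : Subgroup G) := by rw [card_mul_index]
      exact (Nat.Coprime.dvd_of_dvd_mul_left
        (Nat.Coprime.pow_left _ ((Fact.out : p.Prime).coprime_iff_not_dvd.mpr hMp))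
        ((Nat.ordProj_dvd _ p).trans h1))
    obtain ⟨T, hT⟩ := Sylow.exists_subgroup_card_pow_prime p hdiv
    let Ts : Sylow p G := Sylow.ofCard (T.map N.subtype)
      (by rw [Nat.card_congr (equivMapOfInjective T N.subtype N.subtype_injective).toEquiv.symm, hT])
    obtain ⟨c, hc⟩ := MulAction.exists_smul_eq G Ts P
    let R' := R.map (MulAut.conj c).toMonoidHom
    have hR'M : R' ≤ M := by
      rintro _ ⟨y, hy, rfl⟩
      exact hMn.conj_mem y (map_subtype_le _ hy) c
    have hPR : (P : Subgroup G) ≤ normalizer (R' : Set G) := by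
      intro y hy
      have hy' : y ∈ ((c • Ts : Sylow p G) : Subgroup G) := by rw [hc]; exact hy
      obtain ⟨t, ht, rfl⟩ := hy'
      obtain ⟨t', -, rfl⟩ := (show t ∈ T.map N.subtype from ht)
      refine mem_normalizer_fintype fun _ ⟨z, hz, hze⟩ => ?_
      subst hze
      refine ⟨t' * z * (t' : G)⁻¹, (mem_normalizer_iff.mp t'.2 z).mp hz, ?_⟩
      simp [mul_assoc]
    have hR'p : IsPGroup r R' := (R₀.2.map _).map _
    have hcent : R' ≤ centralizer ((P : Subgroup G) : Set G) := by
      by_cases htop : R' ⊔ (P : Subgroup G) = ⊤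
      · have : R'.Normal := by
          rw [← normalizer_eq_top_iff, eq_top_iff, ← htop, sup_le_iff]
          exact ⟨le_normalizer, hPR⟩
        rw [le_centralizer_iff]
        refine centralize_rp hρ hn P hrp R' hR'p htop fun S hS hSR => ?_
        refine hcen S hS ?_
        have hSP : S ⊔ (P : Subgroup G) ≠ ⊤ := by
          intro h
          apply hSR.ne
          refine le_antisymm hSR.le fun y hy => ?_
          obtain ⟨a, ha, b, hb, rfl⟩ := mem_sup_of_normal_left.mp (h ▸ mem_top y : y ∈ S ⊔ P)
          have hbR : b ∈ R' := by simpa using R'.mul_mem (R'.inv_mem (hSR.le ha)) hy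
          rw [(eq_bot_iff_forall _).mp hQbot b ⟨hR'M hbR, hb⟩, mul_one]
          exact ha
        intro y hy
        refine mem_centralizer_iff.mpr fun z hz => ?_
        have h1 : z * y * z⁻¹ * y⁻¹ ∈ (P : Subgroup G) := by
          refine mul_mem ?_ (inv_mem hy)
          exact le_of_allNormal (hprop _ hSP) P le_sup_right (P.2.map (MulAut.conj z).toMonoidHom)
            (fun w hw => by
              obtain ⟨w', hw', rfl⟩ := hw
              exact mul_mem (mul_mem (mem_sup_left hz) (mem_sup_right hw')) (inv_mem (mem_sup_left hz)))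
            ⟨y, hy, rfl⟩
        have h2 : z * y * z⁻¹ * y⁻¹ ∈ M := by
          rw [mul_assoc (z * y), mul_assoc z]
          refine mul_mem (hR'M (hSR.le hz)) ?_
          rw [← mul_assoc]
          exact hMn.conj_mem _ (inv_mem (hR'M (hSR.le hz))) y
        exact eq_mul_of_mul_inv_eq (mul_inv_eq_one.mp
          ((eq_bot_iff_forall _).mp hQbot _ ⟨h2, h1⟩))
      · intro z hz
        refine mem_centralizer_iff.mpr fun y hy => ?_
        have h1 : z * y * z⁻¹ * y⁻¹ ∈ (P : Subgroup G) := by
          refine mul_mem ?_ (inv_mem hy)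
          exact le_of_allNormal (hprop _ htop) P le_sup_right (P.2.map (MulAut.conj z).toMonoidHom)
            (fun w hw => by
              obtain ⟨w', hw', rfl⟩ := hw
              exact mul_mem (mul_mem (mem_sup_left hz) (mem_sup_right hw')) (inv_mem (mem_sup_left hz)))
            ⟨y, hy, rfl⟩
        have h2 : z * y * z⁻¹ * y⁻¹ ∈ M := commutator_mem_commutator (mem_top z) (mem_top y)
        exact (eq_mul_of_mul_inv_eq (mul_inv_eq_one.mp
          ((eq_bot_iff_forall _).mp hQbot _ ⟨h2, h1⟩))).symm
    calc r ^ k ∣ r ^ (Nat.card M).factorization r :=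
          pow_dvd_pow r ((hr.pow_dvd_iff_le_factorization Nat.card_pos.ne').mp hrk)
      _ = Nat.card R' := by
          rw [← R₀.card_eq_multiplicity]
          exact ((Nat.card_congr (equivMapOfInjective R _ (MulAut.conj c).injective).toEquiv.symm).trans
            (Nat.card_congr (equivMapOfInjective _ _ M.subtype_injective).toEquiv.symm)).symm
      _ ∣ _ := card_dvd_of_le (le_inf hR'M hcent)

/-- The theorem of Feit and Thompson. -/
theorem allNormal : ∀ (m : ℕ) (G : Type u) [Group G] [Finite G], Nat.card G = m →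
    ∀ ρ : Representation ℂ G (Fin n → ℂ), Function.Injective ρ → ((n + 1) ^ 2 ≤ p ∨
      (n + 1 < p ∧ ∀ K : Subgroup G, ¬ p ^ 2 ∣ Nat.card K → AllNormal p K)) → AllNormal p G := by
  intro m
  induction m using Nat.strong_induction_on with
  | _ m ih =>
    intro G _ _ hm ρ hρ h P
    have := Fintype.ofFinite G
    by_cases hp : p ∣ Nat.card G
    swap
    · have h1 : (P : Subgroup G) = ⊥ := by
        rw [← card_eq_one, P.card_eq_multiplicity, Nat.factorization_eq_zero_of_not_dvd hp, pow_zero]
      rw [h1]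
      infer_instance
    have hn : n + 1 < p := by
      rcases h with h | h
      · have := (Fact.out : p.Prime).two_le
        nlinarith
      · exact h.1
    by_cases hbig : (n + 1) ^ 2 ≤ Nat.card (P : Subgroup G)
    · refine normal_step hρ hn P hbig fun L hL => ?_
      have hlt : Nat.card L < m := by
        rw [← hm]
        refine lt_of_le_of_ne (Nat.le_of_dvd Nat.card_pos (card_subgroup_dvd_card L)) fun h => hL ?_
        exact eq_top_of_card_eq L h
      refine ih _ hlt L rfl (ρ.comp L.subtype) (hρ.comp L.subtype_injective) ?_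
      refine h.imp_right fun h2 => ⟨h2.1, fun K hK => ?_⟩
      let e := equivMapOfInjective K L.subtype L.subtype_injective
      exact allNormal_of_equiv e (h2.2 _ (by rwa [← Nat.card_congr e.toEquiv]))
    · obtain ⟨k, hk⟩ := IsPGroup.iff_card.mp P.2
      rw [P.card_eq_multiplicity] at hk hbig
      have hk1 : 1 ≤ (Nat.card G).factorization p :=
        (Fact.out : p.Prime).factorization_pos_of_dvd Nat.card_pos.ne' hp
      rcases h with h | ⟨-, h⟩
      · exact absurd (h.trans (Nat.le_self_pow (by omega) p)) hbig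
      · have hnd : ¬ p ^ 2 ∣ Nat.card (⊤ : Subgroup G) := by
          rw [card_top]
          intro hd
          apply hbig
          exact (Nat.pow_le_pow_left hn.le 2).trans (Nat.pow_le_pow_right (Fact.out : p.Prime).pos
            (((Fact.out : p.Prime).pow_dvd_iff_le_factorization Nat.card_pos.ne').mp hd))
        exact allNormal_of_equiv (topEquiv (G := G)).symm (h ⊤ hnd) P

end Cfsg.Lib.OddChar.Blichfeldt
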