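import Cfsg.Agent.Blocks.SmallDegMain
import Cfsg.Agent.OddChar.Blichfeldt
import Cfsg.Agent.Chars.Values

/-!
Groups of odd order with a faithful character of degree `n`: Sylow subgroups for primes `p ≥ 2 n + 1`
are normal.
-/

set_option autoImplicit false
set_option linter.unusedSectionVars false

namespace Cfsg.Lib.OddChar.OddSmallDegree

open Cfsg.Lib.Chars Cfsg.Lib.Blocks
open scoped ComplexConjugate Classical

universe u

variable {G : Type u} [Group G] [Fintype G] {p : ℕ} [Fact p.Prime]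

/-- The irreducible case, odd order. -/
theorem deg_bound_irr_odd (hodd : Odd (Nat.card G)) (hsq : ¬ p ^ 2 ∣ Nat.card G)
    (hgen : Subgroup.closure {g : G | g ^ p = 1} = ⊤) (hne : ∃ a b : G, a * b ≠ b * a)
    {χ : G → ℂ} (hχ : Cfsg.IsIrrCharacter G χ) (hfaith : ∀ g, χ g = χ 1 → g = 1) :
    p < 2 * deg χ + 1 := by
  have hp := (Fact.out : p.Prime)
  have hirr := hχ
  obtain ⟨n, ρ, hρ, rfl⟩ := hχ
  rw [deg_character, Module.finrank_fintype_fun_eq_card, Fintype.card_fin]
  by_contra hlt
  have hρinj : Function.Injective ρ := by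
    refine (injective_iff_map_eq_one _).2 fun g hg => hfaith g ?_
    show LinearMap.trace ℂ _ (ρ g) = LinearMap.trace ℂ _ (ρ 1)
    rw [hg, map_one ρ]
  obtain ⟨M, hM⟩ := exists_isPModular hp
  have : CharP (Res M) p := charP_res hM
  have hn2 : 2 ≤ n := by
    by_contra hn
    obtain ⟨a, b, hab⟩ := hne
    refine hab (hρinj ?_)
    rw [map_mul, map_mul]
    have hsc : ∀ f : Module.End ℂ (Fin n → ℂ), ∃ c : ℂ, f = c • 1 := fun f => by
      rcases Nat.eq_zero_or_pos n with rfl | h
      · exact ⟨0, LinearMap.ext fun w => Subsingleton.elim _ _⟩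
      · have h1 : n = 1 := by omega
        subst h1
        refine ⟨f (fun _ => 1) 0, LinearMap.ext fun w => ?_⟩
        have hw : w = w 0 • (fun _ => (1 : ℂ)) := funext fun i => by
          rw [Subsingleton.elim i 0]; simp
        conv_lhs => rw [hw, map_smul]
        funext i
        rw [Subsingleton.elim i 0]
        simp [mul_comm]
    obtain ⟨c, hc⟩ := hsc (ρ a)
    rw [hc, smul_mul_assoc, mul_smul_comm, one_mul, mul_one]
  obtain ⟨g₀, hg₀, hg₀1⟩ : ∃ g : G, g ^ p = 1 ∧ g ≠ 1 := by
    by_contra hall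
    push Not at hall
    obtain ⟨a, b, hab⟩ := hne
    have htop : (⊤ : Subgroup G) = ⊥ := by
      rw [← hgen, Subgroup.closure_eq_bot_iff]
      exact fun g hg => Set.mem_singleton_iff.2 (hall g hg)
    have ha : a ∈ (⊥ : Subgroup G) := htop ▸ Subgroup.mem_top a
    rw [Subgroup.mem_bot] at ha
    exact hab (by rw [ha, one_mul, mul_one])
  have hdiv : p ∣ Nat.card G := orderOf_eq_prime hg₀ hg₀1 ▸ orderOf_dvd_natCard g₀
  obtain ⟨P⟩ : Nonempty (Sylow p G) := inferInstance
  obtain ⟨C, hP⟩ := exists_cyc hdiv hsq P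
  obtain ⟨U, σ, hU, hσ⟩ := exists_faithful_reduction hM ρ hρinj
    fun N hN hNp => eq_bot_of_normal_pGroup hsq hgen hne N hN hNp
  have hcent : ∀ v : C.V, ((v : C.H) : G) ∈ Subgroup.center G :=
    C.mem_center_of_small_dim σ hσ P hP hgen (by rw [hU]; omega)
  set χ := ρ.character with hχdef
  have hχc : Cfsg.IsCharacter G χ := ⟨n, ρ, rfl⟩
  have hχ1 : χ 1 = (n : ℂ) := by
    rw [hχdef, ρ.char_one, Module.finrank_fintype_fun_eq_card, Fintype.card_fin]
  set f : G → ℂ := χ * fun g => conj (χ g) with hf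
  have hfc : Cfsg.IsCharacter G f := IsCharacter.mul hχc (IsCharacter.conjugate hχc)
  have hfV : ∀ v : C.V, f ((v : C.H) : G) = f 1 := by
    intro v
    set g := ((v : C.H) : G)
    obtain ⟨c, hc⟩ := schur_scalar ρ (ρ g) fun h w => by
      rw [← Module.End.mul_apply, ← Module.End.mul_apply, ← map_mul, ← map_mul,
        Subgroup.mem_center_iff.1 (hcent v) h]
    have hpow : c ^ orderOf g = 1 := by
      have h1 : ρ (g ^ orderOf g) = 1 := by rw [pow_orderOf_eq_one, map_one]
      rw [map_pow, hc, show (c • LinearMap.id : Module.End ℂ (Fin n → ℂ)) = c • 1 from rfl,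
        smul_pow, one_pow] at h1
      have : Nontrivial (Fin n → ℂ) := by
        have : Nonempty (Fin n) := ⟨⟨0, by omega⟩⟩
        infer_instance
      obtain ⟨w, hw⟩ := exists_ne (0 : Fin n → ℂ)
      exact smul_left_injective ℂ hw (by simpa using LinearMap.congr_fun h1 w)
    have hval : χ g = c * (n : ℂ) := by
      show LinearMap.trace ℂ _ (ρ g) = _
      rw [hc, map_smul, LinearMap.trace_id, Module.finrank_fintype_fun_eq_card, Fintype.card_fin,
        smul_eq_mul]
    have hnorm := Complex.norm_eq_one_of_pow_eq_one hpow (orderOf_pos g).ne'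
    show χ g * conj (χ g) = χ 1 * conj (χ 1)
    rw [hval, hχ1, map_mul, mul_mul_mul_comm, Complex.mul_conj', hnorm]
    norm_num
  -- decomposition
  choose m hm using fun η : IrrCharacter G => IsCharacter.exists_mult hfc η.2
  have hexp : ∀ g, f g = ∑ η : IrrCharacter G, (m η : ℂ) * (η : G → ℂ) g := fun g => by
    rw [classFunction_expand_apply (isClassFunction_isChar hfc) g]
    exact Finset.sum_congr rfl fun η _ => by rw [hm]
  have hker : ∀ η : IrrCharacter G, m η ≠ 0 →
      ∀ v : C.V, (η : G → ℂ) ((v : C.H) : G) = (η : G → ℂ) 1 := by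
    intro η hη v
    have h1 : ∑ θ : IrrCharacter G, (m θ : ℝ) *
        (((θ : G → ℂ) 1).re - ((θ : G → ℂ) ((v : C.H) : G)).re) = 0 := by
      have h2 := congrArg Complex.re (hfV v)
      rw [hexp, hexp, Complex.re_sum, Complex.re_sum] at h2
      simp only [mul_sub, Finset.sum_sub_distrib]
      rw [sub_eq_zero]
      simpa [Complex.mul_re] using h2.symm
    have h3 := (Finset.sum_eq_zero_iff_of_nonneg fun θ _ => mul_nonneg (Nat.cast_nonneg _)
      (sub_nonneg.2 (IsCharacter.re_le (isCharacter_of_irr θ.2) _))).1 h1 η (Finset.mem_univ _)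
    exact IsCharacter.eq_apply_one_of_re_eq (isCharacter_of_irr η.2)
      (sub_eq_zero.1 ((mul_eq_zero.1 h3).resolve_left (Nat.cast_ne_zero.2 hη))).symm
  choose a ha using fun η : IrrCharacter G => C.exists_nat_cc (isCharacter_of_irr η.2) 0
  let one : IrrCharacter G := ⟨fun _ => 1, isIrrCharacter_one⟩
  have hm1 : m one = 1 := by
    apply Nat.cast_injective (R := ℂ)
    rw [← hm, Nat.cast_one, ← classInner_self_irr hirr, classInner_def, classInner_def]
    simp only [hf, one, Pi.mul_apply, map_one, mul_one]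
  have ha1 : a one = 1 := by
    apply Nat.cast_injective (R := ℂ)
    rw [← ha, Cyc.cc]
    simp only [one, zero_mul, AddChar.map_zero_eq_one, map_one, mul_one, Finset.sum_const,
      Finset.card_univ, ZMod.card, nsmul_one, Nat.cast_one]
    exact inv_mul_cancel₀ (Nat.cast_ne_zero.2 hp.ne_zero)
  have hd1 : deg (one : G → ℂ) = 1 := by
    apply Nat.cast_injective (R := ℂ)
    rw [← irr_apply_one_eq_deg, Nat.cast_one]
  have hdeg : n * n = ∑ η, m η * deg (η : G → ℂ) := by
    apply Nat.cast_injective (R := ℂ)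
    have h := hexp 1
    rw [show f 1 = χ 1 * conj (χ 1) from rfl, hχ1, Complex.conj_natCast] at h
    push_cast
    rw [h]
    exact Finset.sum_congr rfl fun η _ => by rw [irr_apply_one_eq_deg]
  have hodd' : ∀ η : IrrCharacter G, Odd (deg (η : G → ℂ)) := fun η => hodd.of_dvd_nat (Cfsg.Lib.Chars.IsIrrCharacter.deg_dvd η.2)
  have hnodd : Odd n := by
    have h := hodd' ⟨χ, hirr⟩
    rwa [show ((⟨χ, hirr⟩ : IrrCharacter G) : G → ℂ) = χ from rfl, hχdef, deg_character,
      Module.finrank_fintype_fun_eq_card, Fintype.card_fin] at h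
  have hle : ∀ η ∈ Finset.univ.erase one, (p + 1) * (m η * a η) ≤ 2 * (m η * deg (η : G → ℂ)) := by
    intro η hη
    rcases eq_or_ne (m η) 0 with h0 | h0
    · simp [h0]
    rw [mul_left_comm, mul_left_comm 2]
    exact Nat.mul_le_mul_left _ (C.cc_zero_le hM P hP hgen (hker η h0)
      (fun e => (Finset.mem_erase.1 hη).1 (Subtype.ext e)) (ha η))
  obtain ⟨η₀, hη₀, hm₀⟩ : ∃ η ∈ Finset.univ.erase one, m η ≠ 0 := by
    by_contra hall
    push Not at hall
    have h1 : n * n = 1 := by
      rw [hdeg, ← Finset.add_sum_erase _ _ (Finset.mem_univ one), hm1, hd1,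
        Finset.sum_eq_zero fun η hη => by rw [hall η hη, zero_mul]]
      rfl
    have : 2 * 2 ≤ n * n := Nat.mul_le_mul hn2 hn2
    omega
  have hA : (p + 1) * ∑ η, m η * a η + 2 ≤ 2 * ∑ η, m η * deg (η : G → ℂ) + (p + 1) ∧
      (p = 2 * n + 1 → (p + 1) * ∑ η, m η * a η + 2 < 2 * ∑ η, m η * deg (η : G → ℂ) + (p + 1)) := by
    rw [← Finset.add_sum_erase _ _ (Finset.mem_univ one), ← Finset.add_sum_erase _
      (fun η : IrrCharacter G => m η * deg (η : G → ℂ)) (Finset.mem_univ one), hm1, ha1, hd1]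
    rw [mul_add, mul_add, Finset.mul_sum, Finset.mul_sum]
    refine ⟨?_, fun hp' => ?_⟩
    · have := Finset.sum_le_sum hle
      omega
    · have hlt : (p + 1) * (m η₀ * a η₀) < 2 * (m η₀ * deg (η₀ : G → ℂ)) := by
        refine lt_of_le_of_ne (hle η₀ hη₀) fun he => ?_
        have h1 : deg (η₀ : G → ℂ) = (n + 1) * a η₀ := by
          rw [hp'] at he
          exact (Nat.eq_of_mul_eq_mul_left (show 0 < 2 * m η₀ by omega) (by linear_combination he)).symm
        have h2 := hodd' η₀
        rw [h1] at h2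
        exact (Nat.not_even_iff_odd.2 h2) ((Odd.add_one hnodd).mul_right _)
      have := Finset.sum_lt_sum hle ⟨η₀, hη₀, hlt⟩
      omega
  have hlow : n ≤ ∑ η, m η * a η := by
    obtain ⟨m', hm'⟩ := IsCharacter.exists_decomp (IsCharacter.comp_hom hχc C.iota)
    have hsq' : ((∑ η, m η * a η : ℕ) : ℂ) = ((∑ ξ, m' ξ * m' ξ : ℕ) : ℂ) := by
      push_cast
      have h1 : Cfsg.classInner (fun x => χ (C.iota x)) (fun x => χ (C.iota x)) = C.cc f 0 := by
        rw [classInner_def, Cyc.cc, Nat.card_congr Multiplicative.toAdd, Nat.card_zmod]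
        congr 1
        exact Fintype.sum_equiv Multiplicative.toAdd _ _ fun x => by
          rw [zero_mul, AddChar.map_zero_eq_one, map_one, mul_one]; rfl
      have h2 : C.cc f 0 = ∑ η : IrrCharacter G, (m η : ℂ) * (a η : ℂ) := by
        simp only [← ha, Cyc.cc, hexp, Finset.mul_sum, Finset.sum_mul]
        rw [Finset.sum_comm]
        exact Finset.sum_congr rfl fun η _ => Finset.sum_congr rfl fun i _ => by ring
      rw [← h2, ← h1, hm']
      simp only [← Nat.cast_smul_eq_nsmul ℂ, classInner_self_decomp, Complex.conj_natCast]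
    have h3 : n = ∑ ξ, m' ξ := by
      apply Nat.cast_injective (R := ℂ)
      have h4 := congrFun hm' 1
      rw [map_one, hχ1, Finset.sum_apply] at h4
      push_cast
      rw [h4]
      refine Finset.sum_congr rfl fun ξ _ => ?_
      rw [Pi.smul_apply, irr_deg_one_of_comm (fun a b => mul_comm a b) ξ.2, nsmul_one]
    rw [Nat.cast_inj] at hsq'
    rw [hsq', h3]
    exact Finset.sum_le_sum fun ξ _ => Nat.le_mul_self _
  rw [← hdeg] at hA
  have hmono := Nat.add_le_add_right (Nat.mul_le_mul_left (p + 1) hlow) 2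
  rcases eq_or_lt_of_le (not_lt.1 hlt) with he | hgt
  · have := hA.2 he.symm
    nlinarith
  · have := hA.1
    nlinarith

/-- A faithful character has degree at least `(p - 1) / 2`. -/
theorem deg_bound_faithful_odd (hodd : Odd (Nat.card G)) (hdiv : p ∣ Nat.card G) (hsq : ¬ p ^ 2 ∣ Nat.card G)
    (hnn : ∀ H : Subgroup G, H.Normal → Nat.card H ≠ p) {χ : G → ℂ} (hχ : Cfsg.IsCharacter G χ)
    (hfaith : ∀ g : G, χ g = χ 1 → g = 1) : p < 2 * deg χ + 1 := by
  have hp := (Fact.out : p.Prime)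
  obtain ⟨P⟩ : Nonempty (Sylow p G) := inferInstance
  obtain ⟨C, hP⟩ := exists_cyc hdiv hsq P
  have hPc : Nat.card (P : Subgroup G) = p := by rw [← hP, Nat.card_zpowers, C.order]
  set K := Subgroup.normalClosure ((P : Subgroup G) : Set G) with hK
  have hχK : Cfsg.IsCharacter K fun x : K => χ x := IsCharacter.comp_hom hχ K.subtype
  obtain ⟨m, hm⟩ := IsCharacter.exists_decomp hχK
  obtain ⟨ψ, hψ0, a, b, hab⟩ : ∃ ψ : IrrCharacter K, m ψ ≠ 0 ∧ ∃ a b : K,
      (ψ : K → ℂ) (a * b * a⁻¹ * b⁻¹) ≠ (ψ : K → ℂ) 1 := by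
    by_contra hall
    push Not at hall
    have hcomm : ∀ a b : K, a * b = b * a := by
      intro a b
      have h1 : (fun x : K => χ x) (a * b * a⁻¹ * b⁻¹) = (fun x : K => χ x) 1 := by
        rw [hm]
        simp only [Finset.sum_apply, Pi.smul_apply]
        refine Finset.sum_congr rfl fun ψ _ => ?_
        rcases eq_or_ne (m ψ) 0 with h0 | h0
        · simp [h0]
        · rw [hall ψ h0]
      have h2 : a * b * a⁻¹ * b⁻¹ = 1 := Subtype.ext (hfaith _ h1)
      calc a * b = a * b * a⁻¹ * b⁻¹ * (b * a) := by group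
        _ = b * a := by rw [h2, one_mul]
    refine hnn (P : Subgroup G) ?_ hPc
    refine ⟨fun x hx g => ?_⟩
    have hxK : g * x * g⁻¹ ∈ K := Subgroup.normalClosure_normal.conj_mem _
      (Subgroup.subset_normalClosure hx) g
    have hN : g * x * g⁻¹ ∈ Subgroup.normalizer ((P : Subgroup G) : Set G) := by
      refine Subgroup.centralizer_le_normalizer _ ?_
      rw [Subgroup.mem_centralizer_iff]
      intro z hz
      exact congrArg Subtype.val (hcomm ⟨z, Subgroup.subset_normalClosure hz⟩ ⟨_, hxK⟩)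
    have hxp : IsPGroup p (Subgroup.zpowers (g * x * g⁻¹)) := by
      obtain ⟨j, hj⟩ := P.2 ⟨x, hx⟩
      rintro ⟨z, k, rfl⟩
      refine ⟨j, Subtype.ext ?_⟩
      show ((g * x * g⁻¹) ^ k) ^ p ^ j = 1
      rw [← zpow_natCast, ← zpow_mul, mul_comm k, zpow_mul, zpow_natCast, conj_pow,
        show x ^ p ^ j = 1 from congrArg Subtype.val hj, mul_one, mul_inv_cancel, one_zpow]
    exact (hxp.inf_normalizer_sylow P |>.le ⟨Subgroup.mem_zpowers _, hN⟩).2
  set N := kerSubgroup (ψ : K → ℂ) (isCharacter_of_irr ψ.2) with hN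
  have : N.Normal := kerSubgroup_normal _
  set π := QuotientGroup.mk' N
  have hπ : Function.Surjective π := QuotientGroup.mk'_surjective N
  obtain ⟨φ, hφc, hφ⟩ := exists_factor π hπ (isCharacter_of_irr ψ.2) fun k hk => by
    rw [QuotientGroup.ker_mk'] at hk
    exact (mem_kerSubgroup _ k).1 hk
  have : Fintype (K ⧸ N) := Fintype.ofFinite _
  have hφi : Cfsg.IsIrrCharacter (K ⧸ N) φ := IsIrrCharacter.descend hφc π hπ (hφ ▸ ψ.2)
  have hval : ∀ x, (ψ : K → ℂ) x = φ (π x) := fun x => congrFun hφ x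
  have hφf : ∀ q, φ q = φ 1 → q = 1 := by
    intro q hq
    obtain ⟨x, rfl⟩ := hπ q
    rw [← map_one π, ← hval, ← hval] at hq
    exact (QuotientGroup.eq_one_iff x).2 ((mem_kerSubgroup _ x).2 hq)
  have hsqQ : ¬ p ^ 2 ∣ Nat.card (K ⧸ N) := fun h =>
    hsq ((h.trans (Subgroup.card_quotient_dvd_card N)).trans (Subgroup.card_subgroup_dvd_card K))
  have hgenK : Subgroup.closure {k : K | k ^ p = 1} = ⊤ := by
    rw [eq_top_iff]
    intro k _
    have h1 : K ≤ (Subgroup.closure {k : K | k ^ p = 1}).map K.subtype := by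
      rw [hK, Subgroup.normalClosure, Subgroup.closure_le]
      intro z hz
      have hzK : z ∈ K := Subgroup.subset_closure hz
      refine ⟨⟨z, hzK⟩, Subgroup.subset_closure (Subtype.ext ?_), rfl⟩
      obtain ⟨x, hx, hxz⟩ := Group.mem_conjugatesOfSet_iff.1 hz
      obtain ⟨c, rfl⟩ := isConj_iff.1 hxz
      show (c * x * c⁻¹) ^ p = 1
      have h2 := pow_card_eq_one' (x := (⟨x, hx⟩ : (P : Subgroup G)))
      rw [hPc] at h2
      rw [conj_pow, show x ^ p = 1 from congrArg Subtype.val h2, mul_one, mul_inv_cancel]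
    obtain ⟨k', hk', e⟩ := h1 k.2
    exact Subtype.ext e ▸ hk'
  have hgenQ : Subgroup.closure {q : K ⧸ N | q ^ p = 1} = ⊤ := by
    rw [eq_top_iff, ← Subgroup.map_top_of_surjective π hπ, ← hgenK, MonoidHom.map_closure]
    refine Subgroup.closure_mono ?_
    rintro _ ⟨k, hk, rfl⟩
    show π k ^ p = 1
    rw [← map_pow, hk, map_one]
  have hneQ : ∃ a b : K ⧸ N, a * b ≠ b * a := by
    refine ⟨π a, π b, fun e => hab ?_⟩
    rw [hval, hval]
    congr 1
    rw [map_mul, map_mul, map_mul, map_inv, map_inv, map_one, e]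
    group
  have hoddQ : Odd (Nat.card (K ⧸ N)) :=
    hodd.of_dvd_nat ((Subgroup.card_quotient_dvd_card N).trans (Subgroup.card_subgroup_dvd_card K))
  refine (deg_bound_irr_odd hoddQ hsqQ hgenQ hneQ hφi hφf).trans_le ?_
  suffices h : deg φ ≤ deg χ by omega
  have h1 : deg φ = deg (ψ : K → ℂ) := by
    unfold deg
    rw [hval 1, map_one]
  have h2 : deg χ = ∑ ξ : IrrCharacter K, m ξ * deg (ξ : K → ℂ) := by
    apply Nat.cast_injective (R := ℂ)
    rw [← IsCharacter.apply_one_eq_deg hχ, show χ 1 = (fun x : K => χ x) 1 from rfl, hm]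
    simp only [Finset.sum_apply, nsmul_eq_mul]
    push_cast
    simp only [Pi.mul_apply, Pi.natCast_apply, irr_apply_one_eq_deg]
  rw [h1, h2]
  exact (Nat.le_mul_of_pos_left _ (Nat.pos_of_ne_zero hψ0)).trans
    (Finset.single_le_sum (f := fun ξ : IrrCharacter K => m ξ * deg (ξ : K → ℂ))
      (fun ξ _ => Nat.zero_le _) (Finset.mem_univ ψ))


/-- In a group of odd order with a faithful representation of degree `n`, the Sylow subgroups for
primes `p ≥ 2 n + 1` are normal. -/
theorem sylow_normal (hodd : Odd (Nat.card G)) {n : ℕ} (hn : 0 < n) (ρ : Representation ℂ G (Fin n → ℂ))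
    (hρ : Function.Injective ρ) (hp : 2 * n + 1 ≤ p) (P : Sylow p G) : (P : Subgroup G).Normal := by
  refine Cfsg.Lib.OddChar.Blichfeldt.allNormal (Nat.card G) G rfl ρ hρ (Or.inr ⟨by omega, ?_⟩) P
  intro K hK Q
  haveI : Fintype K := Fintype.ofFinite _
  by_cases hdiv : p ∣ Nat.card K
  swap
  · have h1 : (Q : Subgroup K) = ⊥ := by
      rw [← Subgroup.card_eq_one, Q.card_eq_multiplicity, Nat.factorization_eq_zero_of_not_dvd hdiv, pow_zero]
    rw [h1]
    infer_instance
  by_contra hQ
  have hQc : Nat.card (Q : Subgroup K) = p := by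
    rw [Q.card_eq_multiplicity]
    have h2 : (Nat.card K).factorization p = 1 := by
      have h3 := Nat.Prime.factorization_pos_of_dvd (Fact.out : p.Prime) Nat.card_pos.ne' hdiv
      have h4 : ¬ 2 ≤ (Nat.card K).factorization p := fun h =>
        hK ((Nat.Prime.pow_dvd_iff_le_factorization (Fact.out : p.Prime) Nat.card_pos.ne').2 h)
      omega
    rw [h2, pow_one]
  have hχ : Cfsg.IsCharacter K fun x : K => ρ.character x :=
    IsCharacter.comp_hom (χ := ρ.character) ⟨n, ρ, rfl⟩ K.subtype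
  have hdeg : deg (fun x : K => ρ.character x) = n := by
    have h := deg_character ρ
    rw [Module.finrank_fintype_fun_eq_card, Fintype.card_fin] at h
    exact h
  have := deg_bound_faithful_odd (p := p) (hodd.of_dvd_nat (Subgroup.card_subgroup_dvd_card K)) hdiv hK
    (fun H hH hHc => hQ (by
      have hHp : IsPGroup p H := IsPGroup.of_card (n := 1) (by rw [hHc, pow_one])
      obtain ⟨R, hR⟩ := hHp.exists_le_sylow
      have hle : H ≤ (Q : Subgroup K) := by
        obtain ⟨c, rfl⟩ := MulAction.exists_smul_eq K R Q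
        intro x hx
        rw [Sylow.coe_subgroup_smul, Subgroup.mem_pointwise_smul_iff_inv_smul_mem]
        exact hR (by simpa using hH.conj_mem x hx c⁻¹)
      rw [← Subgroup.eq_of_le_of_card_ge hle (le_of_eq (hQc.trans hHc.symm))]
      exact hH))
    hχ (fun g hg => Subtype.ext (Cfsg.Lib.OddChar.Blichfeldt.faithful_of_character hρ hg))
  omega

end Cfsg.Lib.OddChar.OddSmallDegree
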