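import Cfsg.Prelude.Def_OddOrderChar
import Cfsg.Agent.Chars.Frob
import Cfsg.Agent.Chars.Real
import Cfsg.Agent.OddChar.Dual

/-!
# Characters of a Frobenius group induced from linear characters of the kernel
-/

set_option linter.unusedSectionVars false

namespace Cfsg.Lib.FrobLin

open scoped ComplexConjugate
open Cfsg.Lib.Chars Cfsg.Lib.Dual

universe u

variable {N : Type u} [Group N] [Fintype N] (K : Subgroup N) [K.Normal] [Fintype K]

theorem ev_ne_one {θ : K →* ℂˣ} (h : θ ≠ 1) : ev θ ≠ fun _ => 1 := by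
  intro he
  exact h (ev_injective (he.trans (funext fun x => by simp [ev])))

/-- conjugation of a homomorphism -/
def conjHom (g : N) (θ : K →* ℂˣ) : K →* ℂˣ :=
  θ.comp (MulAut.conjNormal g : MulAut K).toMonoidHom

theorem ev_conjHom (g : N) (θ : K →* ℂˣ) : ev (conjHom K g θ) = conjN K g (ev θ) := by
  rw [conjN_eq_comp]; rfl

theorem inner_one_one :
    Cfsg.classInner (Cfsg.indFun K fun _ => 1) (Cfsg.indFun K fun _ => 1) = (K.index : ℂ) := by
  classical
  have h1 : Cfsg.IsIrrCharacter K (fun _ => (1 : ℂ)) := isIrrCharacter_one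
  have h := classInner_indFun_eq_card K h1 h1
  have hc : Nat.card {g : N // conjN K g (fun _ => (1 : ℂ)) = fun _ => 1} = Nat.card N :=
    Nat.card_congr (Equiv.subtypeUnivEquiv fun g => rfl)
  rw [hc, ← K.card_mul_index, Nat.cast_mul] at h
  exact mul_left_cancel₀ (by exact_mod_cast Nat.card_pos.ne') h

theorem inner_one_principal :
    Cfsg.classInner (Cfsg.indFun K fun _ => 1) (fun _ => (1 : ℂ)) = 1 := by
  classical
  rw [frobenius_reciprocity K _ (isClassFunction_isChar (isCharacter_of_irr isIrrCharacter_one)),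
    classInner_self_irr isIrrCharacter_one]

theorem inner_one_lin {θ : K →* ℂˣ} (hθ : θ ≠ 1) :
    Cfsg.classInner (Cfsg.indFun K fun _ => 1) (Cfsg.indFun K (ev θ)) = 0 := by
  classical
  have h := classInner_indFun_eq_card K (isIrrCharacter_one : Cfsg.IsIrrCharacter K fun _ => (1 : ℂ))
    (isIrr_ev θ)
  have hc : Nat.card {g : N // conjN K g (fun _ => (1 : ℂ)) = ev θ} = 0 := by
    rw [Nat.card_eq_zero]
    exact Or.inl ⟨fun g => ev_ne_one K hθ g.2.symm⟩
  rw [hc, Nat.cast_zero] at h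
  exact (mul_eq_zero.mp h).resolve_left (by exact_mod_cast Nat.card_pos.ne')

theorem indFun_ev_one (θ : K →* ℂˣ) : Cfsg.indFun K (ev θ) 1 = (K.index : ℂ) := by
  rw [indFun_one]; simp [ev]

theorem indFun_const_one : Cfsg.indFun K (fun _ => (1 : ℂ)) 1 = (K.index : ℂ) := by
  rw [indFun_one]; simp

theorem conjFun_indFun (θ : K → ℂ) :
    Cfsg.conjFun (Cfsg.indFun K θ) = Cfsg.indFun K (Cfsg.conjFun θ) := by
  funext g
  simp only [Cfsg.conjFun, indFun_apply, map_mul, map_sum, map_inv₀, Complex.conj_natCast]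
  congr 1
  refine Finset.sum_congr rfl fun x _ => ?_
  by_cases hx : x⁻¹ * g * x ∈ K
  · rw [extendByZero_mem _ hx, extendByZero_mem _ hx]
    rfl
  · rw [extendByZero_not_mem _ hx, extendByZero_not_mem _ hx, map_zero]

theorem conjFun_ev (θ : K →* ℂˣ) : Cfsg.conjFun (ev θ) = ev θ⁻¹ := by
  funext x
  have hn : ‖(θ x : ℂ)‖ = 1 := by
    have hp : (θ x : ℂ) ^ Nat.card K = 1 := by
      rw [← Units.val_pow_eq_pow_val, ← map_pow, pow_card_eq_one', map_one, Units.val_one]
    exact Complex.norm_eq_one_of_pow_eq_one hp Nat.card_pos.ne'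
  show conj (θ x : ℂ) = ((θ⁻¹ x : ℂˣ) : ℂ)
  rw [MonoidHom.inv_apply, Units.val_inv_eq_inv_val, Complex.inv_eq_conj hn]

open scoped Classical in
/-- The irreducible characters of `N` induced from non-principal linear characters of `K`. -/
noncomputable def linSet : Finset (N → ℂ) :=
  haveI : Fintype (K →* ℂˣ) := Fintype.ofFinite _
  (Finset.univ.filter fun θ : K →* ℂˣ => θ ≠ 1).image fun θ => Cfsg.indFun K (ev θ)

theorem mem_linSet {φ : N → ℂ} :
    φ ∈ linSet K ↔ ∃ θ : K →* ℂˣ, θ ≠ 1 ∧ Cfsg.indFun K (ev θ) = φ := by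
  simp [linSet]

variable (hC : ∀ n ∈ K, n ≠ 1 → Subgroup.centralizer ({n} : Set N) ≤ K)

include hC in
theorem isIrr_of_mem {φ : N → ℂ} (hφ : φ ∈ linSet K) : Cfsg.IsIrrCharacter N φ := by
  obtain ⟨θ, hθ, rfl⟩ := (mem_linSet K).mp hφ
  exact isIrr_indFun_of_centralizer_le K hC (isIrr_ev θ) (ev_ne_one K hθ)

theorem conj_mem {φ : N → ℂ} (hφ : φ ∈ linSet K) : Cfsg.conjFun φ ∈ linSet K := by
  obtain ⟨θ, hθ, rfl⟩ := (mem_linSet K).mp hφ
  refine (mem_linSet K).mpr ⟨θ⁻¹, fun h => hθ (MonoidHom.ext fun x => ?_), ?_⟩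
  · simpa using DFunLike.congr_fun h x
  · rw [conjFun_indFun, conjFun_ev]

include hC in
theorem conj_ne (hodd : Odd (Nat.card N)) {φ : N → ℂ} (hφ : φ ∈ linSet K) :
    Cfsg.conjFun φ ≠ φ := by
  classical
  intro he
  have hirr := isIrr_of_mem K hC hφ
  have hp := eq_principal_of_real hodd ⟨φ, hirr⟩ fun g => Complex.conj_eq_iff_im.mp (congrFun he g)
  obtain ⟨θ, hθ, hθφ⟩ := (mem_linSet K).mp hφ
  have h0 := inner_one_lin K hθ
  have h1 : φ = fun _ => (1 : ℂ) := congrArg Subtype.val hp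
  rw [hθφ, h1, inner_one_principal] at h0
  exact one_ne_zero h0

include hC in
theorem inner_eq {φ ψ : N → ℂ} (hφ : φ ∈ linSet K) (hψ : ψ ∈ linSet K) [Decidable (φ = ψ)] :
    Cfsg.classInner φ ψ = if φ = ψ then 1 else 0 := by
  classical
  rw [classInner_irrChar (isIrr_of_mem K hC hφ) (isIrr_of_mem K hC hψ)]
  congr

include hC in
/-- `|linSet| [N:K] + 1` is the number of linear characters of `K`. -/
theorem card_linSet : (linSet K).card * K.index + 1 = Nat.card (K →* ℂˣ) := by
  classical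
  haveI : Fintype (K →* ℂˣ) := Fintype.ofFinite _
  have hmaps : ∀ θ ∈ (Finset.univ.filter fun θ : K →* ℂˣ => θ ≠ 1),
      Cfsg.indFun K (ev θ) ∈ linSet K := fun θ hθ =>
    (mem_linSet K).mpr ⟨θ, (Finset.mem_filter.mp hθ).2, rfl⟩
  have hfib : ∀ φ ∈ linSet K, ((Finset.univ.filter fun θ : K →* ℂˣ => θ ≠ 1).filter
      fun θ => Cfsg.indFun K (ev θ) = φ).card = K.index := by
    intro φ hφ
    obtain ⟨θ₀, h₀, rfl⟩ := (mem_linSet K).mp hφ
    have hin : inertia K (ev θ₀) = K := by
      refine le_antisymm (fun g hg => ?_)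
        (le_inertia (isClassFunction_isChar (isCharacter_of_irr (isIrr_ev θ₀))))
      by_contra hgK
      exact ev_ne_one K h₀ (eq_one_of_conjN_eq K hC hgK (isIrr_ev θ₀) (mem_inertia.mp hg))
    have horb : (conjOrbit K (ev θ₀)).card = K.index := by
      have h := card_conjOrbit K (ev θ₀)
      rw [hin, ← K.card_mul_index, mul_comm (Nat.card K) K.index] at h
      exact Nat.eq_of_mul_eq_mul_right Nat.card_pos h
    rw [← horb]
    refine Finset.card_bij (fun θ _ => ev θ) (fun θ hθ => ?_) (fun a _ b _ h => ev_injective h)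
      (fun ψ hψ => ?_)
    · simp only [Finset.mem_filter, Finset.mem_univ, true_and] at hθ
      have h := classInner_indFun_eq_card K (isIrr_ev θ₀) (isIrr_ev θ)
      rw [hθ.2, classInner_self_irr (isIrr_of_mem K hC hφ), mul_one] at h
      have hne : Nat.card {g : N // conjN K g (ev θ₀) = ev θ} ≠ 0 := by
        intro h0
        rw [h0, Nat.cast_zero] at h
        exact Nat.card_pos.ne' (by exact_mod_cast h : Nat.card K = 0)
      obtain ⟨⟨g, hg⟩⟩ := (Nat.card_ne_zero.mp hne).1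
      exact (mem_conjOrbit K).mpr ⟨g, hg⟩
    · obtain ⟨g, rfl⟩ := (mem_conjOrbit K).mp hψ
      refine ⟨conjHom K g θ₀, ?_, ev_conjHom K g θ₀⟩
      simp only [Finset.mem_filter, Finset.mem_univ, true_and]
      refine ⟨fun h1 => h₀ (MonoidHom.ext fun x => ?_), by rw [ev_conjHom, indFun_conjN]⟩
      have := DFunLike.congr_fun h1 ((MulAut.conjNormal g : MulAut K).symm x)
      simpa [conjHom] using this
  have h := Finset.card_eq_sum_card_fiberwise (s := Finset.univ.filter fun θ : K →* ℂˣ => θ ≠ 1)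
    (t := linSet K) (f := fun θ => Cfsg.indFun K (ev θ)) hmaps
  rw [Finset.sum_congr rfl hfib, Finset.sum_const, smul_eq_mul] at h
  rw [← h, Finset.filter_ne', Finset.card_erase_of_mem (Finset.mem_univ _), Finset.card_univ,
    Nat.card_eq_fintype_card]
  have := Fintype.card_pos (α := K →* ℂˣ)
  omega

end Cfsg.Lib.FrobLin
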