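import Cfsg.Agent.S1516
import Cfsg.Agent.OddChar.FrobeniusLinear
import Cfsg.Agent.Chars.Inertia
import Cfsg.Agent.Chars.IrrTools
import Cfsg.Agent.Chars.Count
import Cfsg.Agent.Chars.Constituent

/-!
# Sets of characters induced from a normal subgroup: sums and degree bounds
-/

set_option linter.unusedSectionVars false
set_option linter.style.haveILetI false

set_option linter.unusedVariables false

namespace Cfsg.Lib.InducedFamily

open Cfsg.Lib.Chars
open scoped ComplexConjugate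

universe u v

/-- A constituent of a character is constant on the kernel of that character. -/
theorem constituent_const {G : Type u} [Group G] [Fintype G] {χ η : G → ℂ}
    (hχ : Cfsg.IsCharacter G χ) (hη : Cfsg.IsIrrCharacter G η) (hc : Cfsg.classInner χ η ≠ 0)
    {b : G} (hb : χ b = χ 1) : η b = η 1 := by
  classical
  obtain ⟨m, hm⟩ := IsCharacter.exists_decomp hχ
  have hmη : m ⟨η, hη⟩ ≠ 0 := by
    intro h
    apply hc
    rw [hm]
    simp only [← Nat.cast_smul_eq_nsmul ℂ]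
    rw [classInner_irrSum (fun ψ => (m ψ : ℂ)) ⟨η, hη⟩, h, Nat.cast_zero]
  have h1 := congrArg Complex.re hb
  rw [hm] at h1
  simp only [Finset.sum_apply, nsmul_eq_mul, Pi.mul_apply, Pi.natCast_apply, Complex.re_sum,
    Complex.mul_re, Complex.natCast_re, Complex.natCast_im, zero_mul, sub_zero] at h1
  have h2 := (Finset.sum_eq_sum_iff_of_le (s := Finset.univ) fun ψ _ =>
    mul_le_mul_of_nonneg_left (IsCharacter.re_le (isCharacter_of_irr ψ.2) b) (Nat.cast_nonneg (m ψ))).mp h1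
    ⟨η, hη⟩ (Finset.mem_univ _)
  exact IsCharacter.eq_apply_one_of_re_eq (isCharacter_of_irr hη)
    (mul_left_cancel₀ (by exact_mod_cast hmη) h2)

/-- If a subgroup is central modulo the kernel of an irreducible character, the square of the
degree is at most its index. -/
theorem deg_sq_le_index {G : Type u} [Group G] [Fintype G] {ψ : G → ℂ} (hψ : Cfsg.IsIrrCharacter G ψ)
    (Z : Subgroup G) (hZ : ∀ z ∈ Z, ∀ g : G, ψ (z * g * z⁻¹ * g⁻¹) = ψ 1) :
    deg ψ ^ 2 ≤ Z.index := by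
  classical
  obtain ⟨n, ρ, hρ, rfl⟩ := id hψ
  haveI := hρ
  have hdeg : deg ρ.character = n := by rw [deg_character]; simp
  have habs : ∀ z ∈ Z, ‖ρ.character z‖ = (n : ℝ) := by
    intro z hz
    have hcomm : ∀ g v, ρ z (ρ g v) = ρ g (ρ z v) := by
      intro g v
      have h1 : ρ (z * g * z⁻¹ * g⁻¹) = LinearMap.id :=
        (eq_id_of_character_eq_finrank ρ _).mp (by rw [hZ z hz g, ρ.char_one])
      have h2 : ρ (z * g) = ρ (g * z) := by
        rw [show z * g = (z * g * z⁻¹ * g⁻¹) * (g * z) by group, map_mul, h1]; rfl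
      rw [map_mul, map_mul] at h2
      exact LinearMap.congr_fun h2 v
    obtain ⟨c, hc⟩ := schur_scalar ρ (ρ z) hcomm
    haveI := nontrivial_of_irreducible ρ
    obtain ⟨v, hv⟩ := exists_ne (0 : Fin n → ℂ)
    have hpow : ∀ k : ℕ, ρ (z ^ k) v = c ^ k • v := by
      intro k
      induction k with
      | zero => simp
      | succ k ih =>
        rw [pow_succ', map_mul, Module.End.mul_apply, ih, map_smul, hc, pow_succ]
        simp [smul_smul]
    have hc1 : c ^ orderOf z = 1 := smul_left_injective ℂ hv (by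
      simpa [pow_orderOf_eq_one] using (hpow (orderOf z)).symm)
    rw [Representation.character, hc, map_smul, LinearMap.trace_id, smul_eq_mul, norm_mul,
      Complex.norm_eq_one_of_pow_eq_one hc1 (orderOf_pos z).ne', one_mul]
    simp
  have h1 := classInner_self ρ.character
  rw [classInner_self_irr hψ] at h1
  have h2 : (Nat.card G : ℝ)⁻¹ * ∑ g : G, ‖ρ.character g‖ ^ 2 = 1 := by exact_mod_cast h1.symm
  have hG : (0 : ℝ) < Nat.card G := by exact_mod_cast Nat.card_pos
  have h3 : (Nat.card Z : ℝ) * (n : ℝ) ^ 2 ≤ Nat.card G := by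
    rw [inv_mul_eq_one₀ hG.ne'] at h2
    rw [h2]
    calc (Nat.card Z : ℝ) * (n : ℝ) ^ 2
        = ∑ g ∈ Finset.univ.filter (· ∈ Z), ‖ρ.character g‖ ^ 2 := by
          rw [Finset.sum_congr rfl fun g hg => by rw [habs g (Finset.mem_filter.mp hg).2],
            Finset.sum_const, nsmul_eq_mul, Nat.card_eq_fintype_card, Fintype.card_subtype]
      _ ≤ ∑ g : G, ‖ρ.character g‖ ^ 2 :=
          Finset.sum_le_sum_of_subset_of_nonneg (Finset.subset_univ _) fun _ _ _ => sq_nonneg _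
  rw [← Z.card_mul_index] at h3
  push_cast at h3
  rw [hdeg]
  exact_mod_cast le_of_mul_le_mul_left h3 (by exact_mod_cast Nat.card_pos)

/-- Degree bound through a normal subgroup with a central section. -/
theorem deg_sq_le_of_section {G : Type u} [Group G] [Fintype G] {θ : G → ℂ} (hθ : Cfsg.IsIrrCharacter G θ)
    (C D : Subgroup G) [C.Normal] (hDC : D ≤ C)
    (hcent : ∀ x ∈ D, ∀ y ∈ C, θ (x * y * x⁻¹ * y⁻¹) = θ 1) :
    deg θ ^ 2 ≤ C.index ^ 2 * D.relIndex C := by
  classical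
  obtain ⟨ψ, hψ, hψc⟩ := exists_constituent C (isCharacter_of_irr hθ) (IsIrrCharacter.apply_one_ne_zero hθ)
  have h1 : deg ψ ^ 2 ≤ (D.subgroupOf C).index := by
    refine deg_sq_le_index hψ _ fun z hz g => ?_
    refine constituent_const (IsCharacter.restrict (isCharacter_of_irr hθ) C) hψ hψc ?_
    simpa using hcent z hz g g.2
  have h2 : deg θ ≤ C.index * deg ψ := by
    have hind : Cfsg.classInner (Cfsg.indFun C ψ) θ ≠ 0 := by
      rw [frobenius_reciprocity C ψ (isClassFunction_isChar (isCharacter_of_irr hθ)), ← classInner_conj_symm]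
      exact fun h => hψc (by simpa using h)
    refine (constituent_le (IsCharacter.indFun (isCharacter_of_irr hψ)) hθ hind).1.trans (le_of_eq ?_)
    apply Nat.cast_injective (R := ℂ)
    rw [← IsCharacter.apply_one_eq_deg (IsCharacter.indFun (isCharacter_of_irr hψ)), indFun_one,
      IsCharacter.apply_one_eq_deg (isCharacter_of_irr hψ), Nat.cast_mul]
  calc deg θ ^ 2 ≤ (C.index * deg ψ) ^ 2 := Nat.pow_le_pow_left h2 2
    _ = C.index ^ 2 * deg ψ ^ 2 := mul_pow _ _ _
    _ ≤ _ := Nat.mul_le_mul_left _ h1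

open scoped Classical in
/-- The degree squares of the irreducible characters trivial on a normal subgroup sum to its index. -/
theorem sum_deg_sq_above {G : Type u} [Group G] [Fintype G] (A : Subgroup G) [A.Normal] :
    ∑ θ ∈ Finset.univ.filter (fun θ : Cfsg.IrrCharacter G => ∀ a ∈ A, (θ : G → ℂ) a = (θ : G → ℂ) 1),
      deg (θ : G → ℂ) ^ 2 = A.index := by
  classical
  have hπ := QuotientGroup.mk'_surjective A
  rw [Subgroup.index, ← sum_deg_sq_nat (G := G ⧸ A)]
  symm
  refine Finset.sum_bij (fun η _ => (⟨_, IsIrrCharacter.comp_surjective η.2 (QuotientGroup.mk' A) hπ⟩ :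
    Cfsg.IrrCharacter G)) ?_ ?_ ?_ ?_
  · intro η _
    refine Finset.mem_filter.mpr ⟨Finset.mem_univ _, fun a ha => ?_⟩
    show (η : G ⧸ A → ℂ) (QuotientGroup.mk' A a) = (η : G ⧸ A → ℂ) (QuotientGroup.mk' A 1)
    rw [map_one]
    exact congrArg _ ((QuotientGroup.eq_one_iff a).mpr ha)
  · intro η _ η' _ h
    refine Subtype.ext (funext fun q => ?_)
    obtain ⟨x, rfl⟩ := hπ q
    exact congrFun (congrArg Subtype.val h) x
  · intro θ hθ
    obtain ⟨b, hb, hθb⟩ := exists_factor (QuotientGroup.mk' A) hπ (isCharacter_of_irr θ.2)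
      (fun k hk => (Finset.mem_filter.mp hθ).2 k (by rwa [QuotientGroup.ker_mk'] at hk))
    have hbirr : Cfsg.IsIrrCharacter (G ⧸ A) b :=
      irr_of_comp_irr hb (QuotientGroup.mk' A) (hθb ▸ θ.2)
    exact ⟨⟨b, hbirr⟩, Finset.mem_univ _, Subtype.ext hθb.symm⟩
  · intro η _
    simp [deg]

section Induced

variable {L : Type u} [Group L] [Fintype L] {K : Subgroup L} [K.Normal]

theorem finite_above (A : Subgroup L) : (Cfsg.inducedIrrAbove K A).Finite := by
  refine (Set.finite_range fun θ : Cfsg.IrrCharacter K => Cfsg.indFun K (θ : K → ℂ)).subset ?_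
  rintro φ ⟨θ, hθ, -, -, rfl⟩
  exact ⟨⟨θ, hθ⟩, rfl⟩

theorem above_subset (A : Subgroup L) : Cfsg.inducedIrrAbove K A ⊆ Cfsg.inducedIrrAbove K ⊥ := by
  rintro φ ⟨θ, hθ, h1, -, rfl⟩
  exact ⟨θ, hθ, h1, fun a ha => by rw [show a = 1 from Subtype.ext (Subgroup.mem_bot.mp ha)], rfl⟩

theorem conj_mem_above (A : Subgroup L) {φ : L → ℂ} (h : φ ∈ Cfsg.inducedIrrAbove K A) :
    Cfsg.conjFun φ ∈ Cfsg.inducedIrrAbove K A := by
  obtain ⟨θ, hθ, h1, hA, rfl⟩ := h
  letI : Fintype K := Fintype.ofFinite _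
  refine ⟨Cfsg.conjFun θ, IsIrrCharacter.conjugate hθ, fun h => h1 (funext fun x => ?_), fun a ha => ?_,
    Cfsg.Lib.FrobLin.conjFun_indFun K θ⟩
  · have := congrFun h x
    simpa [Cfsg.conjFun] using congrArg conj this
  · simp [Cfsg.conjFun, hA a ha]

theorem deg_indFun {θ : K → ℂ} (hθ : Cfsg.IsCharacter K θ) :
    deg (Cfsg.indFun K θ) = K.index * deg θ := by
  apply Nat.cast_injective (R := ℂ)
  rw [← IsCharacter.apply_one_eq_deg (IsCharacter.indFun hθ), indFun_one,
    IsCharacter.apply_one_eq_deg hθ, Nat.cast_mul]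

open scoped Classical in
/-- The squares of the degrees in one fibre of induction. -/
theorem fiber_sum {θ : K → ℂ} (hθ : Cfsg.IsIrrCharacter K θ) :
    (deg (Cfsg.indFun K θ) : ℝ) ^ 2 / (Cfsg.classInner (Cfsg.indFun K θ) (Cfsg.indFun K θ)).re =
      (K.index : ℝ) * ∑ η ∈ Finset.univ.filter (fun η : Cfsg.IrrCharacter K =>
        Cfsg.indFun K (η : K → ℂ) = Cfsg.indFun K θ), (deg (η : K → ℂ) : ℝ) ^ 2 := by
  classical
  set s := Finset.univ.filter (fun η : Cfsg.IrrCharacter K =>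
    Cfsg.indFun K (η : K → ℂ) = Cfsg.indFun K θ)
  have hi := classInner_indFun_eq_card K hθ hθ
  have hci : Nat.card {g : L // conjN K g θ = θ} = Nat.card (inertia K θ) := by
    refine Nat.card_congr (Equiv.subtypeEquivRight fun g => mem_inertia.symm)
  rw [hci] at hi
  have hK : (Nat.card K : ℂ) ≠ 0 := by exact_mod_cast Nat.card_pos.ne'
  have hinner : Cfsg.classInner (Cfsg.indFun K θ) (Cfsg.indFun K θ) =
      (((Nat.card (inertia K θ) : ℝ) / Nat.card K : ℝ) : ℂ) := by
    push_cast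
    rw [eq_div_iff hK, mul_comm, hi]
  have hs : s.image (fun η : Cfsg.IrrCharacter K => (η : K → ℂ)) = conjOrbit K θ := by
    ext φ
    rw [Finset.mem_image, mem_conjOrbit]
    constructor
    · rintro ⟨η, hη, rfl⟩
      by_contra h
      have h0 := classInner_indFun_eq_card K hθ η.2
      haveI : IsEmpty {g : L // conjN K g θ = (η : K → ℂ)} := ⟨fun g => h ⟨g.1, g.2⟩⟩
      have he : Nat.card {g : L // conjN K g θ = (η : K → ℂ)} = 0 := Nat.card_of_isEmpty
      rw [he, Nat.cast_zero, (Finset.mem_filter.mp hη).2, hi] at h0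
      exact (Nat.card_pos (α := inertia K θ)).ne' (by exact_mod_cast h0)
    · rintro ⟨g, rfl⟩
      exact ⟨⟨_, IsIrrCharacter.conjN hθ g⟩, Finset.mem_filter.mpr ⟨Finset.mem_univ _, indFun_conjN K g θ⟩, rfl⟩
  have hcard : s.card * Nat.card (inertia K θ) = Nat.card K * K.index := by
    rw [← Finset.card_image_of_injective s Subtype.val_injective, hs, card_conjOrbit K θ, K.card_mul_index]
  have hdeg : ∀ η ∈ s, deg (η : K → ℂ) = deg θ := by
    intro η hη
    have := congrArg deg (Finset.mem_filter.mp hη).2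
    rw [deg_indFun (isCharacter_of_irr η.2), deg_indFun (isCharacter_of_irr hθ)] at this
    exact Nat.eq_of_mul_eq_mul_left (Nat.pos_of_ne_zero K.index_ne_zero_of_finite) this
  rw [Finset.sum_congr rfl fun η hη => by rw [hdeg η hη], Finset.sum_const, nsmul_eq_mul, hinner,
    Complex.ofReal_re, deg_indFun (isCharacter_of_irr hθ)]
  have hcard' : (s.card : ℝ) * Nat.card (inertia K θ) = Nat.card K * K.index := by exact_mod_cast hcard
  have h1 : (0 : ℝ) < Nat.card K := by exact_mod_cast Nat.card_pos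
  have h2 : (0 : ℝ) < Nat.card (inertia K θ) := by exact_mod_cast Nat.card_pos
  push_cast
  field_simp
  linear_combination -((K.index : ℝ) * (deg θ : ℝ) ^ 2) * hcard'

/-- The weighted degree sum over the induced family. -/
theorem sum_ratio (A : Subgroup L) [A.Normal] :
    ∑ φ ∈ (finite_above (K := K) A).toFinset, (deg φ : ℝ) ^ 2 / (Cfsg.classInner φ φ).re =
      (K.index : ℝ) * ((A.relIndex K : ℝ) - 1) := by
  classical
  set T := Finset.univ.filter (fun θ : Cfsg.IrrCharacter K =>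
    ∀ a ∈ A.subgroupOf K, (θ : K → ℂ) a = (θ : K → ℂ) 1)
  set one : Cfsg.IrrCharacter K := ⟨fun _ => 1, isIrrCharacter_one⟩
  have himg : (finite_above (K := K) A).toFinset =
      (T.erase one).image fun θ : Cfsg.IrrCharacter K => Cfsg.indFun K (θ : K → ℂ) := by
    ext φ
    simp only [Set.Finite.mem_toFinset, Finset.mem_image, Finset.mem_erase, T, Finset.mem_filter,
      Finset.mem_univ, true_and, Subgroup.mem_subgroupOf]
    constructor
    · rintro ⟨θ, hθ, h1, hA, rfl⟩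
      exact ⟨⟨θ, hθ⟩, ⟨fun h => h1 (congrArg Subtype.val h), hA⟩, rfl⟩
    · rintro ⟨θ, ⟨h1, hA⟩, rfl⟩
      exact ⟨θ, θ.2, fun h => h1 (Subtype.ext h), hA, rfl⟩
  have hclosed : ∀ θ ∈ T.erase one, ∀ η : Cfsg.IrrCharacter K,
      Cfsg.indFun K (η : K → ℂ) = Cfsg.indFun K (θ : K → ℂ) → η ∈ T.erase one := by
    intro θ hθ η h
    obtain ⟨h1, hT⟩ := Finset.mem_erase.mp hθ
    obtain ⟨g, hg⟩ : ∃ g : L, conjN K g (θ : K → ℂ) = (η : K → ℂ) := by
      by_contra hno
      have h0 := classInner_indFun_eq_card K θ.2 η.2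
      haveI : IsEmpty {g : L // conjN K g (θ : K → ℂ) = (η : K → ℂ)} := ⟨fun g => hno ⟨g.1, g.2⟩⟩
      have h0' := classInner_indFun_eq_card K θ.2 θ.2
      have he : Nat.card {g : L // conjN K g (θ : K → ℂ) = (η : K → ℂ)} = 0 := Nat.card_of_isEmpty
      rw [h, h0', he, Nat.cast_inj] at h0
      haveI : Nonempty {g : L // conjN K g (θ : K → ℂ) = (θ : K → ℂ)} := ⟨⟨1, conjN_one K _⟩⟩
      exact Nat.card_pos.ne' h0
    refine Finset.mem_erase.mpr ⟨fun he => h1 (Subtype.ext ?_), Finset.mem_filter.mpr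
      ⟨Finset.mem_univ _, fun a ha => ?_⟩⟩
    · have := congrArg (conjN K g⁻¹) hg
      rw [← conjN_mul, mul_inv_cancel, conjN_one, he] at this
      exact this.trans (funext fun _ => rfl)
    · rw [← hg, conjN]
      show (θ : K → ℂ) ⟨g * a * g⁻¹, _⟩ = (θ : K → ℂ) ⟨g * (1 : K) * g⁻¹, _⟩
      have e1 : (⟨g * (1 : K) * g⁻¹, Subgroup.Normal.conj_mem inferInstance _ (1 : K).2 g⟩ : K) = 1 :=
        Subtype.ext (by simp)
      rw [e1]
      exact (Finset.mem_filter.mp hT).2 _ (Subgroup.mem_subgroupOf.mpr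
        (Subgroup.Normal.conj_mem inferInstance _ (Subgroup.mem_subgroupOf.mp ha) g))
  rw [himg]
  have hfib : ∑ φ ∈ (T.erase one).image (fun θ : Cfsg.IrrCharacter K => Cfsg.indFun K (θ : K → ℂ)),
      (deg φ : ℝ) ^ 2 / (Cfsg.classInner φ φ).re =
      ∑ θ ∈ T.erase one, (K.index : ℝ) * (deg (θ : K → ℂ) : ℝ) ^ 2 := by
    refine Finset.sum_image' _ fun θ hθ => ?_
    rw [fiber_sum θ.2, Finset.mul_sum]
    refine Finset.sum_congr ?_ fun _ _ => rfl
    ext η
    simp only [Finset.mem_filter, Finset.mem_univ, true_and]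
    exact ⟨fun h => ⟨hclosed θ hθ η h, h⟩, fun h => h.2⟩
  rw [hfib, ← Finset.mul_sum]
  congr 1
  have hsum := sum_deg_sq_above (A.subgroupOf K)
  have hone : one ∈ T := Finset.mem_filter.mpr ⟨Finset.mem_univ _, fun _ _ => rfl⟩
  rw [← Finset.add_sum_erase T _ hone] at hsum
  have hd1 : deg (one : K → ℂ) = 1 := by simp [one, deg]
  rw [hd1] at hsum
  have hsum' : (1 : ℝ) + ∑ θ ∈ T.erase one, (deg (θ : K → ℂ) : ℝ) ^ 2 = A.relIndex K := by
    exact_mod_cast hsum
  linarith

/-- A member of degree `[L : K]`. -/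
theorem exists_minimal (hsolv : Group.IsSolvable K) (A : Subgroup L) [A.Normal] (hAK : A < K) :
    ∃ φ ∈ Cfsg.inducedIrrAbove K A, deg φ = K.index := by
  classical
  haveI := hsolv
  set B := A.subgroupOf K
  haveI : B.Normal := inferInstance
  haveI : Group.IsSolvable (K ⧸ B) := Group.isSolvable_of_surjective (QuotientGroup.mk'_surjective B)
  haveI : Nontrivial (K ⧸ B) := QuotientGroup.nontrivial_iff.mpr fun h => hAK.not_ge (Subgroup.subgroupOf_eq_top.mp h)
  have hlt := Group.IsSolvable.commutator_lt_top_of_nontrivial (G := K ⧸ B)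
  obtain ⟨q, -, hq⟩ := SetLike.exists_of_lt hlt
  obtain ⟨f, hf⟩ := Cfsg.Lib.Dual.exists_hom_ne_one (A := Abelianization (K ⧸ B)) mul_comm
    (a := Abelianization.of q) (fun h => hq (by rwa [← MonoidHom.mem_ker, Abelianization.ker_of] at h))
  set g : K →* ℂˣ := f.comp (Abelianization.of.comp (QuotientGroup.mk' B)) with hg
  have hg1 : g ≠ 1 := fun h => by
    obtain ⟨x, rfl⟩ := QuotientGroup.mk'_surjective B q
    exact hf (DFunLike.congr_fun h x)
  refine ⟨Cfsg.indFun K (Cfsg.Lib.Dual.ev g), ⟨_, isIrrCharacter_linear g, Cfsg.Lib.FrobLin.ev_ne_one K hg1,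
    fun a ha => ?_, rfl⟩, ?_⟩
  · have : QuotientGroup.mk' B a = 1 := (QuotientGroup.eq_one_iff a).mpr ha
    simp only [hg, Cfsg.Lib.Dual.ev, MonoidHom.comp_apply, this, map_one]
  · rw [show Cfsg.Lib.Dual.ev g = fun x => (g x : ℂ) from rfl, deg_indFun (isCharacter_linear g)]
    simp [deg, Cfsg.Lib.Dual.ev]

end Induced

section Extend

variable {L : Type u} [Group L] [Fintype L] {G : Type v} [Group G] [Fintype G]
  {S : Set (L → ℂ)} {τ : (L → ℂ) → (G → ℂ)} {R : (L → ℂ) → Finset (G → ℂ)}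

/-- Coherence extends through all characters of small enough degree. -/
theorem coherent_extend (hS : Cfsg.IsCoherenceSystem S τ R) {T₀ T : Finset (L → ℂ)}
    (h₀T : T₀ ⊆ T) (hTS : ↑T ⊆ S) (h₀c : ∀ φ ∈ T₀, Cfsg.conjFun φ ∈ T₀)
    (hTc : ∀ φ ∈ T, Cfsg.conjFun φ ∈ T)
    (hcoh : Cfsg.IsCoherent (↑T₀ : Set (L → ℂ)) {1}ᶜ τ) {χ₁ : L → ℂ} (hχ₁ : χ₁ ∈ T₀)
    (hstep : ∀ χ ∈ T, χ ∉ T₀ → deg χ₁ ∣ deg χ ∧
      (2 * deg χ * deg χ₁ : ℝ) < ∑ φ ∈ T₀, (deg φ : ℝ) ^ 2 / (Cfsg.classInner φ φ).re) :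
    Cfsg.IsCoherent (↑T : Set (L → ℂ)) {1}ᶜ τ := by
  classical
  suffices H : ∀ k : ℕ, ∀ S₁ : Finset (L → ℂ), (T \ S₁).card = k → T₀ ⊆ S₁ → S₁ ⊆ T →
      (∀ φ ∈ S₁, Cfsg.conjFun φ ∈ S₁) → Cfsg.IsCoherent (↑S₁ : Set (L → ℂ)) {1}ᶜ τ →
      Cfsg.IsCoherent (↑T : Set (L → ℂ)) {1}ᶜ τ from
    H _ T₀ rfl (Finset.Subset.refl _) h₀T h₀c hcoh
  intro k
  induction k using Nat.strong_induction_on with
  | _ k ih =>
    intro S₁ hk h₀ h₁ hc hco
    rcases (T \ S₁).eq_empty_or_nonempty with he | ⟨χ, hχ⟩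
    · rwa [Finset.Subset.antisymm (Finset.sdiff_eq_empty_iff_subset.mp he) h₁]
    obtain ⟨hχT, hχS₁⟩ := Finset.mem_sdiff.mp hχ
    have hχb : Cfsg.conjFun χ ∉ S₁ := fun h => hχS₁ (by
      simpa [Cfsg.Lib.Coherence.conjFun_conjFun] using hc _ h)
    have hn : ∀ φ ∈ S, Cfsg.classInner φ φ = ((⌊(Cfsg.classInner φ φ).re⌋₊ : ℕ) : ℂ) := fun φ hφ => by
      obtain ⟨m, -, hm⟩ := Cfsg.Lib.Coherence.sys_norm hS hφ
      simp [hm]
    obtain ⟨hdvd, hlt⟩ := hstep χ hχT fun h => hχS₁ (h₀ h)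
    have hnew := Cfsg.Agent.S1516.result S τ R hS (fun φ => deg φ)
      (fun φ => ⌊(Cfsg.classInner φ φ).re⌋₊)
      (fun φ hφ => IsCharacter.apply_one_eq_deg (hS.isCharacter φ hφ)) hn S₁
      (fun φ hφ => hTS (h₁ hφ)) hc hco χ (hTS hχT) hχS₁ hχb χ₁ (h₀ hχ₁) hdvd (by
        refine hlt.trans_le ?_
        refine le_trans (le_of_eq (Finset.sum_congr rfl fun φ hφ => ?_))
          (Finset.sum_le_sum_of_subset_of_nonneg h₀ fun φ _ _ => by positivity)
        congr 1
        have := congrArg Complex.re (hn φ (hTS (h₀T hφ)))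
        simpa using this)
    set S₂ := S₁ ∪ {χ, Cfsg.conjFun χ} with hS₂
    refine ih _ ?_ S₂ rfl (h₀.trans Finset.subset_union_left) ?_ ?_ ?_
    · rw [← hk]
      refine Finset.card_lt_card (Finset.ssubset_iff_subset_ne.mpr ⟨?_, fun h => ?_⟩)
      · exact Finset.sdiff_subset_sdiff (Finset.Subset.refl _) Finset.subset_union_left
      · have := h.ge hχ
        simp [hS₂] at this
    · exact Finset.union_subset h₁ (by
        intro φ hφ
        rcases Finset.mem_insert.mp hφ with rfl | h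
        · exact hχT
        · rw [Finset.mem_singleton.mp h]; exact hTc χ hχT)
    · intro φ hφ
      rcases Finset.mem_union.mp hφ with h | h
      · exact Finset.mem_union_left _ (hc φ h)
      · refine Finset.mem_union_right _ ?_
        rcases Finset.mem_insert.mp h with rfl | h
        · exact Finset.mem_insert_of_mem (Finset.mem_singleton_self _)
        · rw [Finset.mem_singleton.mp h, Cfsg.Lib.Coherence.conjFun_conjFun]
          exact Finset.mem_insert_self _ _
    · simpa [hS₂] using hnew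

end Extend

end Cfsg.Lib.InducedFamily
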