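import Cfsg.Agent.OddChar.FrobeniusCoherence
import Cfsg.Agent.Chars.TI
import Cfsg.Agent.Chars.Real
import Cfsg.Agent.S1514
import Cfsg.Agent.S1523
import Cfsg.Agent.S1531

/-!
# Coherence for a trivial intersection kernel with Frobenius normaliser
-/

set_option linter.unusedSectionVars false
set_option linter.style.haveILetI false
set_option linter.unusedVariables false

namespace Cfsg.Lib.FrobCoherence

open Cfsg.Lib.Chars Cfsg.Lib.InducedFamily
open scoped commutatorElement ComplexConjugate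

universe u

variable {G : Type u} [Group G] [Fintype G]

section TI

variable (K L : Subgroup G) [Fintype L] [(K.subgroupOf L).Normal] (hKL : K < L)
  (hTI : ∀ g : G, g ∉ L → ∀ k ∈ K, g * k * g⁻¹ ∈ K → k = 1)
  (hC : ∀ k ∈ K, k ≠ 1 → Subgroup.centralizer ({k} : Set G) ≤ K)

include hC in
theorem centralizer_le_sub : ∀ n ∈ K.subgroupOf L, n ≠ 1 →
    Subgroup.centralizer ({n} : Set L) ≤ K.subgroupOf L := by
  intro n hn hn1 y hy
  refine hC n hn (fun h => hn1 (Subtype.ext h)) ?_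
  rw [Subgroup.mem_centralizer_singleton_iff] at hy ⊢
  exact congrArg Subtype.val hy

include hTI hC in
/-- Induction is an isometry on the degree zero combinations. -/
theorem indFun_isometry :
    Cfsg.IsLinearIsometryOn (Cfsg.zspanOn (Cfsg.inducedIrrAbove (K.subgroupOf L) ⊥) {1}ᶜ)
        (fun α : L → ℂ => Cfsg.indFun L α) ∧
      ∀ α ∈ Cfsg.zspanOn (Cfsg.inducedIrrAbove (K.subgroupOf L) ⊥) {1}ᶜ, Cfsg.indFun L α 1 = 0 := by
  classical
  set S := Cfsg.inducedIrrAbove (K.subgroupOf L) ⊥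
  have hC0 := centralizer_le_sub K L hC
  have hgood : ∀ α ∈ Cfsg.zspan S, Cfsg.IsGeneralizedCharacter L α ∧ ∀ x : L, (x : G) ∉ K → α x = 0 := by
    intro α hα
    refine ⟨Cfsg.Lib.Coherence.zspan_gen (fun s hs =>
      IsCharacter.isGeneralized (isCharacter_of_irr (irr_above hC0 hs))) hα, ?_⟩
    intro x hx
    refine Submodule.span_induction (p := fun f _ => f x = 0) ?_ rfl ?_ ?_ hα
    · rintro _ ⟨θ, -, -, -, rfl⟩
      exact indFun_normal_not_mem _ θ hx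
    · intro a b _ _ h1 h2; simp [h1, h2]
    · intro n a _ h; simp [h]
  refine ⟨⟨fun a _ b _ => indFun_add L a b, fun a _ n => ?_, fun a ha b hb => ?_,
    fun a ha => IsGeneralizedCharacter.indFun (hgood a ha.1).1⟩, fun a ha => ?_⟩
  · show Cfsg.indFun L (n • a) = n • Cfsg.indFun L a
    rw [← Int.cast_smul_eq_zsmul ℂ, ← Int.cast_smul_eq_zsmul ℂ, indFun_smul]
  · have hb' := isClassFunction_generalized (hgood b hb.1).1
    show Cfsg.classInner (Cfsg.indFun L a) (Cfsg.indFun L b) = _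
    rw [frobenius_reciprocity _ _ (isClassFunction_indFun _ b), classInner_def, classInner_def]
    refine congrArg _ (Finset.sum_congr rfl fun x _ => ?_)
    by_cases hx : (x : G) ∈ K
    · by_cases h1 : x = 1
      · rw [h1, (Cfsg.Lib.Coherence.mem_one.mp ha).2, zero_mul, zero_mul]
      · rw [indFun_TI_apply' L (K : Set G) hTI hb' (hgood b hb.1).2 x hx h1]
    · rw [(hgood a ha.1).2 x hx, zero_mul, zero_mul]
  · rw [indFun_one, (Cfsg.Lib.Coherence.mem_one.mp ha).2, mul_zero]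

include hKL in
theorem card_sub : Nat.card (K.subgroupOf L) = Nat.card K :=
  Nat.card_congr (Subgroup.subgroupOfEquivOfLe hKL.le).toEquiv

include hKL in
theorem sub_ne_top : K.subgroupOf L ≠ ⊤ := fun h => hKL.not_ge (Subgroup.subgroupOf_eq_top.mp h)

include hKL in
theorem sub_ne_bot (hK : K ≠ ⊥) : K.subgroupOf L ≠ ⊥ := fun h => by
  have := card_sub K L hKL
  rw [h, Subgroup.card_bot] at this
  exact hK (Subgroup.card_eq_one.mp this.symm)

include hKL in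
theorem comm_sub : IsMulCommutative (K.subgroupOf L) ↔ IsMulCommutative K := by
  constructor
  · intro h
    exact ⟨⟨fun a b => Subtype.ext (congrArg (fun x : K.subgroupOf L => ((x : L) : G))
      (h.is_comm.comm ⟨⟨a, hKL.le a.2⟩, a.2⟩ ⟨⟨b, hKL.le b.2⟩, b.2⟩) :)⟩⟩
  · intro h
    exact ⟨⟨fun a b => Subtype.ext (Subtype.ext
      (congrArg Subtype.val (h.is_comm.comm (⟨((a : L) : G), a.2⟩ : K) ⟨((b : L) : G), b.2⟩) :))⟩⟩

include hKL in
theorem relIndex_derived_sub :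
    ⁅K.subgroupOf L, K.subgroupOf L⁆.relIndex (K.subgroupOf L) = ⁅K, K⁆.relIndex K := by
  have : ⁅K.subgroupOf L, K.subgroupOf L⁆ = ⁅K, K⁆.subgroupOf L := by
    apply Subgroup.map_injective L.subtype_injective
    rw [Subgroup.map_commutator, Subgroup.map_subgroupOf_eq_of_le hKL.le,
      Subgroup.map_subgroupOf_eq_of_le ((Subgroup.commutator_le_self K).trans hKL.le)]
  rw [this, Subgroup.relIndex_subgroupOf hKL.le]

include hKL hC in
/-- The smallest possible kernel is elementary abelian and gives a single character. -/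
theorem small_kernel (hK : K ≠ ⊥) (he : Nat.card K = (K.subgroupOf L).index + 1) :
    Nat.card ↥(Cfsg.inducedIrrAbove (K.subgroupOf L) ⊥) = 1 ∧
      ∃ p : ℕ, p.Prime ∧ Cfsg.IsElementaryAbelian p K := by
  classical
  set K₀ := K.subgroupOf L
  have hC0 := centralizer_le_sub K L hC
  have hcard := card_sub K L hKL
  have hcard' : Nat.card K₀ = K₀.index + 1 := hcard.trans he
  haveI := isNilpotent_kernel hC0 (sub_ne_top K L hKL)
  -- all non-identity elements are conjugate in `L`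
  have hconj : ∀ a ∈ K₀, a ≠ 1 → ∀ b ∈ K₀, b ≠ 1 → IsConj a b := by
    intro a ha ha1 b hb hb1
    set s := Finset.univ.filter fun x : L => IsConj a x
    set t := Finset.univ.filter fun x : L => x ∈ K₀ ∧ x ≠ 1
    have hst : s ⊆ t := by
      intro x hx
      obtain ⟨c, rfl⟩ := isConj_iff.mp (Finset.mem_filter.mp hx).2
      exact Finset.mem_filter.mpr ⟨Finset.mem_univ _, Subgroup.Normal.conj_mem inferInstance a ha c,
        by simpa using ha1⟩
    have ht : t.card + 1 = Nat.card K₀ := by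
      have : insert (1 : L) t = Finset.univ.filter (fun x => x ∈ K₀) := by
        ext n
        by_cases h : n = 1 <;> simp [t, h, K₀.one_mem]
      rw [Nat.card_eq_fintype_card, Fintype.card_subtype, ← this,
        Finset.card_insert_of_notMem (by simp [t])]
    have hs : K₀.index ≤ s.card := by
      have h2 := card_isConj_mul a
      rw [show Nat.card {x : L // IsConj a x} = s.card by
        rw [Nat.card_eq_fintype_card, Fintype.card_subtype], ← K₀.card_mul_index] at h2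
      have h3 := Subgroup.card_le_of_le (hC0 a ha ha1)
      by_contra hlt
      have h4 := Nat.mul_le_mul (Nat.lt_of_not_le hlt) h3
      have h5 : 0 < Nat.card (Subgroup.centralizer ({a} : Set L)) := Nat.card_pos
      nlinarith
    have hst' : s = t := Finset.eq_of_subset_of_card_le hst (by omega)
    have : b ∈ s := hst'.symm ▸ Finset.mem_filter.mpr ⟨Finset.mem_univ _, hb, hb1⟩
    exact (Finset.mem_filter.mp this).2
  haveI : Nontrivial K₀ := (Subgroup.nontrivial_iff_ne_bot _).mpr (sub_ne_bot K L hKL hK)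
  obtain ⟨z, hz, hz1⟩ := (Subgroup.bot_or_exists_ne_one (Subgroup.center K₀)).resolve_left
    (Group.IsNilpotent.center_ne_bot (G := K₀))
  have hcomm : IsMulCommutative K₀ := by
    refine ⟨⟨fun a b => ?_⟩⟩
    by_cases ha : a = 1
    · simp [ha]
    obtain ⟨c, hc⟩ := isConj_iff.mp (hconj z z.2 (fun h => hz1 (Subtype.ext h)) a a.2
      (fun h => ha (Subtype.ext h)))
    have hb' : c⁻¹ * b * c ∈ K₀ := by
      simpa using Subgroup.Normal.conj_mem inferInstance (b : L) b.2 c⁻¹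
    have h := congrArg Subtype.val (Subgroup.mem_center_iff.mp hz ⟨_, hb'⟩)
    simp only [Subgroup.coe_mul] at h
    apply Subtype.ext
    simp only [Subgroup.coe_mul, ← hc]
    calc c * (z : L) * c⁻¹ * b = c * ((z : L) * (c⁻¹ * b * c)) * c⁻¹ := by group
      _ = c * ((c⁻¹ * b * c) * z) * c⁻¹ := by rw [h]
      _ = b * (c * z * c⁻¹) := by group
  obtain ⟨p, hp, hpd⟩ := Nat.exists_prime_and_dvd (Finite.one_lt_card (α := K₀)).ne'
  haveI : Fact p.Prime := ⟨hp⟩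
  obtain ⟨x, hx⟩ := exists_prime_orderOf_dvd_card' (G := K₀) p hpd
  refine ⟨?_, p, hp, (comm_sub K L hKL).mp hcomm, fun a ha => ?_⟩
  · have h1 : (x : L) ≠ 1 := fun h => by
      rw [show x = 1 from Subtype.ext h, orderOf_one] at hx
      exact hp.ne_one hx.symm
    have hsum := sum_deg_sq (K := K₀) hC0 ⊥
    have hA : ⁅K₀, K₀⁆ ≤ ⊥ := (commutator_le_bot_iff.mpr hcomm).le
    rw [Finset.sum_congr rfl fun φ hφ => by
      rw [deg_above_derived hA ((Set.Finite.mem_toFinset _).mp hφ)], Finset.sum_const, smul_eq_mul,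
      Subgroup.relIndex_bot_left, hcard, he, Nat.add_sub_cancel, ← sq] at hsum
    rw [Nat.card_coe_set_eq, Set.ncard_eq_toFinset_card _ (finite_above (K := K₀) ⊥)]
    exact (mul_eq_right₀ (pow_ne_zero 2 K₀.index_ne_zero_of_finite)).mp hsum
  · by_cases ha1 : a = 1
    · rw [ha1, one_pow]
    obtain ⟨c, hc⟩ := isConj_iff.mp (hconj x x.2 (fun h => by
      rw [show x = 1 from Subtype.ext h, orderOf_one] at hx
      exact hp.ne_one hx.symm) ⟨a, hKL.le ha⟩ ha (fun h => ha1 (congrArg Subtype.val h)))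
    have : (⟨a, hKL.le ha⟩ : L) ^ p = 1 := by
      rw [← hc, conj_pow, ← Subgroup.coe_pow, ← hx, pow_orderOf_eq_one]
      simp
    exact congrArg Subtype.val this

include hKL hC in
theorem index_odd (hna : ¬ IsMulCommutative K) : Odd (K.subgroupOf L).index := by
  classical
  set K₀ := K.subgroupOf L
  have hC0 := centralizer_le_sub K L hC
  by_contra hodd
  haveI : Fact (Nat.Prime 2) := ⟨Nat.prime_two⟩
  have h2 : 2 ∣ K₀.index := (Nat.not_odd_iff_even.mp hodd).two_dvd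
  obtain ⟨x, hx⟩ := exists_prime_orderOf_dvd_card' 2 (h2.trans K₀.index_dvd_card)
  have hxK : x ∉ K₀ := by
    intro h
    have h3 : 2 ∣ Nat.card K₀ := hx ▸ (Subgroup.orderOf_mk x h ▸ orderOf_dvd_natCard _)
    exact Nat.prime_two.ne_one (Nat.eq_one_of_dvd_coprimes (coprime_of_centralizer_le K₀ hC0) h3 h2)
  have hxx : x * x = 1 := by rw [← sq, ← hx, pow_orderOf_eq_one]
  set φ : K₀ →* K₀ := (MulAut.conjNormal (H := K₀) x).toMonoidHom
  have hfp : MonoidHom.FixedPointFree φ := by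
    intro y hy
    have hy' : x * (y : L) * x⁻¹ = y := congrArg Subtype.val hy
    by_contra hy1
    exact hxK (hC0 y y.2 (fun h => hy1 (Subtype.ext h))
      (Subgroup.mem_centralizer_singleton_iff.mpr (mul_inv_eq_iff_eq_mul.mp hy')))
  have hinv : Function.Involutive φ := by
    intro y
    apply Subtype.ext
    show x * (x * (y : L) * x⁻¹) * x⁻¹ = y
    calc x * (x * (y : L) * x⁻¹) * x⁻¹ = (x * x) * y * (x * x)⁻¹ := by group
      _ = y := by rw [hxx]; simp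
  exact hna ((comm_sub K L hKL).mp ⟨⟨fun a b => hfp.commute_all_of_involutive hinv a b⟩⟩)

include hC in
/-- A Hall kernel of prime power order is a Sylow subgroup of `G`. -/
theorem exists_sylow_eq (hL : Subgroup.normalizer (K : Set G) = L) (p : ℕ) [Fact p.Prime]
    (hp : IsPGroup p K) (hKp : p ∣ Nat.card K) : ∃ P : Sylow p G, (P : Subgroup G) = K := by
  classical
  obtain ⟨P, hP⟩ := hp.exists_le_sylow
  refine ⟨P, le_antisymm ?_ hP⟩
  by_contra hlt
  haveI : Group.IsNilpotent P := P.2.isNilpotent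
  have hproper : K.subgroupOf P < ⊤ := lt_top_iff_ne_top.mpr fun h => hlt (Subgroup.subgroupOf_eq_top.mp h)
  obtain ⟨x, hx, hxK⟩ := SetLike.exists_of_lt (Group.normalizerCondition_of_isNilpotent _ hproper)
  have hxL : (x : G) ∈ L := by
    rw [← hL, Subgroup.mem_normalizer_iff]
    intro k
    constructor
    · intro hk
      exact (Subgroup.mem_normalizer_iff.mp hx ⟨k, hP hk⟩).mp hk
    · intro hk
      have hkP : k ∈ (P : Subgroup G) := by
        have := (P : Subgroup G).mul_mem ((P : Subgroup G).mul_mem ((P : Subgroup G).inv_mem x.2) (hP hk)) x.2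
        simpa [mul_assoc] using this
      exact (Subgroup.mem_normalizer_iff.mp hx ⟨k, hkP⟩).mpr hk
  have hC0 := centralizer_le_sub K L hC
  have hKL : K ≤ L := hL ▸ Subgroup.le_normalizer
  have hcop : p.Coprime (K.subgroupOf L).index :=
    Nat.Coprime.coprime_dvd_left (hKp.trans (dvd_of_eq
      (Nat.card_congr (Subgroup.subgroupOfEquivOfLe hKL).toEquiv).symm))
      (coprime_of_centralizer_le (K.subgroupOf L) hC0)
  obtain ⟨l, hl⟩ := P.2 x
  have hdvd : orderOf (⟨x, hxL⟩ : L) ∣ p ^ l := orderOf_dvd_of_pow_eq_one (Subtype.ext (by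
    simpa using congrArg Subtype.val hl))
  have hco : Nat.Coprime (K.subgroupOf L).index (orderOf (⟨x, hxL⟩ : L)) :=
    Nat.Coprime.coprime_dvd_right hdvd (hcop.symm.pow_right l)
  obtain ⟨j, hj⟩ := exists_pow_eq_self_of_coprime hco
  refine hxK (show (⟨x, hxL⟩ : L) ∈ K.subgroupOf L from ?_)
  rw [← hj]
  exact Subgroup.pow_mem _ (Subgroup.pow_index_mem _ _) j

end TI

section Sibley

variable (p : ℕ) [Fact p.Prime] (P : Sylow p G)
  [Fintype ↥(Subgroup.normalizer ((P : Subgroup G) : Set G))]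
  (hTI : Cfsg.IsTISubset ((P : Subgroup G) : Set G))
  (hlt : (P : Subgroup G) < Subgroup.normalizer ((P : Subgroup G) : Set G))
  (hC : ∀ k ∈ (P : Subgroup G), k ≠ 1 → Subgroup.centralizer ({k} : Set G) ≤ (P : Subgroup G))
  (hp : p ≠ 2) (hna : ¬ IsMulCommutative (P : Subgroup G))

set_option quotPrecheck false
local notation "𝓛" => Subgroup.normalizer ((P : Subgroup G) : Set G)
local notation "𝓚" => (P : Subgroup G).subgroupOf (Subgroup.normalizer ((P : Subgroup G) : Set G))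

instance normal_sylow_in_normalizer :
    ((P : Subgroup G).subgroupOf (Subgroup.normalizer ((P : Subgroup G) : Set G))).Normal :=
  Subgroup.normal_in_normalizer

include hlt hC hp hna in
theorem odd_card_normalizer : Odd (Nat.card 𝓛) := by
  rw [← (𝓚).card_mul_index, card_sub _ _ hlt]
  obtain ⟨l, hl⟩ := IsPGroup.iff_card.mp P.2
  rw [hl]
  exact Odd.mul (((Fact.out : p.Prime).odd_of_ne_two hp).pow) (index_odd _ _ hlt hC hna)

theorem isPGroup_sylow_sub : IsPGroup p 𝓚 :=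
  P.2.of_equiv (Subgroup.subgroupOfEquivOfLe Subgroup.le_normalizer).symm

include hlt hC hp hna in
theorem kernel_facts : Group.IsNilpotent 𝓚 ∧ Group.IsSolvable 𝓚 ∧ ⁅𝓚, 𝓚⁆ ≠ ⊥ ∧ ⁅𝓚, 𝓚⁆ < 𝓚 ∧
    (𝓚) ≠ ⊥ := by
  have hnil : Group.IsNilpotent 𝓚 := (isPGroup_sylow_sub p P).isNilpotent
  have hne : ⁅𝓚, 𝓚⁆ ≠ ⊥ := fun h => hna ((comm_sub _ _ hlt).mp (commutator_le_bot_iff.mp h))
  have hK : (𝓚) ≠ ⊥ := fun h => hne (by rw [h, Subgroup.commutator_bot_left])
  haveI := hnil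
  exact ⟨hnil, inferInstance, hne, derived_lt hnil hK, hK⟩

include hTI hlt hC hp hna in
theorem system_normalizer : ∃ R, Cfsg.IsCoherenceSystem (Cfsg.inducedIrrAbove 𝓚 ⊥)
    (fun α : ↥𝓛 → ℂ => Cfsg.indFun 𝓛 α) R := by
  classical
  obtain ⟨hnil, hsolv, -, hA, hK⟩ := kernel_facts p P hlt hC hp hna
  have hC0 := centralizer_le_sub _ 𝓛 hC
  obtain ⟨hτ, hτ1⟩ := indFun_isometry _ 𝓛 hTI hC
  obtain ⟨χ, hχ, -⟩ := exists_deg_index hnil (⊥ : Subgroup ↥𝓛) (bot_lt_iff_ne_bot.mpr hK)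
  refine Cfsg.Agent.S1514.result _ ⟨χ, hχ⟩ (fun φ hφ => irr_above hC0 hφ)
    (fun φ hφ => ⟨conj_mem_above ⊥ hφ, fun hre => ?_⟩) _ hτ hτ1
  have hreal := eq_principal_of_real (odd_card_normalizer p P hlt hC hp hna) ⟨φ, irr_above hC0 hφ⟩
    fun g => Complex.conj_eq_iff_im.mp (congrFun hre g)
  have h1 : φ = fun _ => (1 : ℂ) := congrArg Subtype.val hreal
  have h2 := (above_eq hC0).le hφ
  obtain ⟨k, -, hk⟩ := h2.2
  exact hk (by rw [h1])

include hTI hlt hC hp hna in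
/-- The characters nontrivial on a normal central subgroup are coherent. -/
theorem coherent_nontrivial_on_central (Z : Subgroup ↥𝓛) [Z.Normal] (hZ1 : Z ≠ ⊥) (hZK : Z ≤ 𝓚)
    (hZc : ∀ z ∈ Z, ∀ k ∈ (𝓚), z * k = k * z) :
    Cfsg.IsCoherent (Cfsg.inducedIrrAbove 𝓚 ⊥ \ Cfsg.inducedIrrAbove 𝓚 Z) {1}ᶜ
      (fun α : ↥𝓛 → ℂ => Cfsg.indFun 𝓛 α) := by
  obtain ⟨hnil, hsolv, -, hA, hK⟩ := kernel_facts p P hlt hC hp hna
  obtain ⟨R, hS⟩ := system_normalizer p P hTI hlt hC hp hna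
  have hC0 := centralizer_le_sub _ 𝓛 hC
  exact coherent_central hsolv hS (odd_card_normalizer p P hlt hC hp hna) hnil hA
    (fun k hk hkA x hx => mem_of_commutator_mem hC0 hA.le hk hkA hx) Z hZ1 hZK hZc
    (fun χ hχ => irr_above hC0 hχ.1)

theorem exists_central_below {L : Type u} [Group L] [Fintype L] {K : Subgroup L} [K.Normal]
    (hnil : Group.IsNilpotent K) (A : Subgroup L) [A.Normal] (hAK : A ≤ K) (hA : A ≠ ⊥) :
    ∃ Z : Subgroup L, Z.Normal ∧ Z ≠ ⊥ ∧ Z ≤ A ∧ ⁅Z, K⁆ = ⊥ := by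
  suffices H : ∀ n : ℕ, ∀ A : Subgroup L, A.Normal → Nat.card A = n → A ≤ K → A ≠ ⊥ →
      ∃ Z : Subgroup L, Z.Normal ∧ Z ≠ ⊥ ∧ Z ≤ A ∧ ⁅Z, K⁆ = ⊥ from H _ A inferInstance rfl hAK hA
  intro n
  induction n using Nat.strong_induction_on with
  | _ n ih =>
    intro A hAn hn hAK hA
    by_cases h : ⁅A, K⁆ = ⊥
    · exact ⟨A, hAn, hA, le_rfl, h⟩
    haveI := hnil
    haveI : ((⊥ : Subgroup L).subgroupOf K).Normal := inferInstance
    have hle : ⁅A, K⁆ ≤ A := Subgroup.commutator_le_left A K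
    have hne : ⁅A, K⁆ ≠ A := fun he => hA (le_bot_iff.mp
      (le_of_commutator_sup_eq bot_le inferInstance hAK (by rw [sup_bot_eq]; exact he.ge)))
    obtain ⟨Z, h1, h2, h3, h4⟩ := ih (Nat.card ↥⁅A, K⁆) (hn ▸ lt_of_le_of_ne (Subgroup.card_le_of_le hle)
      fun hh => hne (Subgroup.eq_of_le_of_card_ge hle hh.ge)) _ inferInstance rfl (hle.trans hAK) h
    exact ⟨Z, h1, h2, h3.trans hle, h4⟩

set_option maxHeartbeats 1000000 in
include hTI hlt hC hp hna in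
/-- Sibley's theorem for a Sylow subgroup. -/
theorem coherent_sylow : Cfsg.IsCoherent (Cfsg.inducedIrrAbove 𝓚 ⊥) {1}ᶜ
    (fun α : ↥𝓛 → ℂ => Cfsg.indFun 𝓛 α) := by
  classical
  obtain ⟨hnil, hsolv, hAne, hA, hK⟩ := kernel_facts p P hlt hC hp hna
  have hC0 := centralizer_le_sub _ 𝓛 hC
  have hodd := odd_card_normalizer p P hlt hC hp hna
  set K₀ : Subgroup ↥𝓛 := 𝓚 with hK₀
  set A := ⁅K₀, K₀⁆ with hAdef
  set S := Cfsg.inducedIrrAbove K₀ ⊥ with hSdef
  obtain ⟨hτ, hτ1'⟩ := indFun_isometry _ 𝓛 hTI hC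
  set τ : (↥𝓛 → ℂ) → (G → ℂ) := fun α => Cfsg.indFun 𝓛 α with hτdef
  have hτ1 : ∀ α ∈ Cfsg.zspanOn S {1}ᶜ, τ α 1 = 0 := hτ1'
  obtain ⟨Z, hZn, hZ1, hZA, hZc⟩ := exists_central_below hnil A hA.le hAne
  have hZK : Z ≤ K₀ := hZA.trans hA.le
  have hZc' : ∀ z ∈ Z, ∀ k ∈ K₀, z * k = k * z := fun z hz k hk =>
    commutatorElement_eq_one_iff_mul_comm.mp (Subgroup.mem_bot.mp (hZc ▸ Subgroup.commutator_mem_commutator hz hk))
  -- numbers
  set e := K₀.index with he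
  have he0 : 0 < e := Nat.pos_of_ne_zero K₀.index_ne_zero_of_finite
  have heodd : Odd e := index_odd _ _ hlt hC hna
  have hoddsub : ∀ U V : Subgroup ↥𝓛, Odd (U.relIndex V) := fun U V =>
    hodd.of_dvd_nat ((Subgroup.relIndex_dvd_card U V).trans (Subgroup.card_subgroup_dvd_card V))
  have hlarge : ∀ U V : Subgroup ↥𝓛, U.Normal → V.Normal → U < V → V ≤ K₀ → 2 * e + 1 ≤ U.relIndex V := by
    intro U V hU hV hUV hVK
    have h1 : U.relIndex V ≠ 1 := fun h => hUV.not_ge (Subgroup.relIndex_eq_one.mp h)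
    have h0 : U.relIndex V ≠ 0 := Subgroup.index_ne_zero_of_finite
    obtain ⟨t, ht⟩ := index_dvd_relIndex_sub_one hC0 hUV.le hVK
    obtain ⟨c, hc⟩ := heodd
    obtain ⟨d, hd⟩ := hoddsub U V
    rw [← he] at ht
    rcases t with _ | _ | t
    · omega
    · omega
    · rw [Nat.mul_add, Nat.mul_add] at ht
      omega
  set w := Z.relIndex K₀ with hw
  have hw0 : 0 < w := Nat.pos_of_ne_zero Subgroup.index_ne_zero_of_finite
  have hz2 : 2 * e + 1 ≤ Nat.card Z := by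
    have := hlarge ⊥ Z inferInstance hZn (bot_lt_iff_ne_bot.mpr hZ1) hZK
    rwa [Subgroup.relIndex_bot_left] at this
  have hKw : (⊥ : Subgroup ↥𝓛).relIndex K₀ = Nat.card Z * w := by
    rw [← Subgroup.relIndex_mul_relIndex ⊥ Z K₀ bot_le hZK, Subgroup.relIndex_bot_left]
  -- the two families
  set Tf := (finite_above (K := K₀) ⊥).toFinset with hTf
  set Xf := Tf \ (finite_above (K := K₀) Z).toFinset with hXf
  set Yf := (finite_above (K := K₀) A).toFinset with hYf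
  have hXset : (↑Xf : Set (↥𝓛 → ℂ)) = S \ Cfsg.inducedIrrAbove K₀ Z := by
    rw [hXf, hTf, Finset.coe_sdiff, Set.Finite.coe_toFinset, Set.Finite.coe_toFinset]
  have hYset : (↑Yf : Set (↥𝓛 → ℂ)) = Cfsg.inducedIrrAbove K₀ A := Set.Finite.coe_toFinset _
  have hXS : (↑Xf : Set (↥𝓛 → ℂ)) ⊆ S := by rw [hXset]; exact Set.diff_subset
  have hYS : (↑Yf : Set (↥𝓛 → ℂ)) ⊆ S := by rw [hYset]; exact above_subset A
  have hirr : ∀ φ ∈ S, Cfsg.IsIrrCharacter ↥𝓛 φ := fun φ hφ => irr_above hC0 hφ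
  have hone : ∀ φ ∈ S, φ 1 = (deg φ : ℂ) := fun φ hφ =>
    IsCharacter.apply_one_eq_deg (isCharacter_of_irr (hirr φ hφ))
  have hdisj : Disjoint Xf Yf := Finset.disjoint_left.mpr fun φ hx hy =>
    (Finset.mem_sdiff.mp hx).2 ((Set.Finite.mem_toFinset _).mpr
      (above_mono hZA ((Set.Finite.mem_toFinset _).mp hy)))
  have hSX : 2 * e ^ 2 * w ≤ ∑ φ ∈ Xf, deg φ ^ 2 := by
    have h := Finset.sum_sdiff (f := fun φ => deg φ ^ 2) (s₂ := Tf)
      (s₁ := (finite_above (K := K₀) Z).toFinset)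
      (Set.Finite.toFinset_subset_toFinset.mpr (above_subset Z))
    rw [sum_deg_sq hC0 Z, hTf, sum_deg_sq hC0 ⊥, hKw, ← hw, ← he] at h
    rw [hXf, hTf]
    obtain ⟨r, hr⟩ : ∃ r, Nat.card Z = 2 * e + 1 + r := ⟨Nat.card Z - (2 * e + 1), by omega⟩
    have h1 : Nat.card Z * w - 1 = (2 * e + r) * w + (w - 1) := by
      rw [hr, show (2 * e + 1 + r) * w = (2 * e + r) * w + w by ring]; omega
    rw [h1] at h
    have h2 : e * ((2 * e + r) * w + (w - 1)) = 2 * e ^ 2 * w + e * r * w + e * (w - 1) := by ring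
    omega
  have hXne : Xf.Nonempty := Finset.nonempty_of_sum_ne_zero (s := Xf) (f := fun φ => deg φ ^ 2)
    (by have : 0 < 2 * e ^ 2 * w := by positivity
        omega)
  obtain ⟨χ₀, hχ₀, hmin⟩ := Xf.exists_min_image deg hXne
  have hcohX := coherent_nontrivial_on_central p P hTI hlt hC hp hna Z hZ1 hZK hZc'
  rw [← hK₀, ← hSdef, ← hXset] at hcohX
  obtain ⟨-, σ, hσ, hσα'⟩ := hcohX
  have hσα : ∀ f ∈ Cfsg.zspanOn (↑Xf : Set (↥𝓛 → ℂ)) {1}ᶜ, σ f = τ f := hσα'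
  have hm1 : A.relIndex K₀ ≠ e + 1 := by
    have := hlarge A K₀ inferInstance inferInstance hA le_rfl
    omega
  have hY2 : ∃ a ∈ (↑Yf : Set (↥𝓛 → ℂ)), ∃ b ∈ (↑Yf : Set (↥𝓛 → ℂ)), a ≠ b := by
    rw [hYset]; exact two_above_derived hC0 A le_rfl hA hm1
  have hcohY := coherent_derived hC0 hτ hτ1 A le_rfl hA hm1
  rw [← hYset] at hcohY
  obtain ⟨-, τY, hτY, hτYα⟩ := hcohY
  obtain ⟨η₀, hη₀, hdη₀⟩ := exists_deg_index hnil A hA
  replace hη₀ : η₀ ∈ Yf := (Set.Finite.mem_toFinset _).mpr hη₀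
  have hXz : ∀ {φ}, φ ∈ Xf → φ ∈ Cfsg.zspan (↑Xf : Set (↥𝓛 → ℂ)) := fun h =>
    Cfsg.Lib.Coherence.subset_zspan h
  have hYz : ∀ {φ}, φ ∈ Yf → φ ∈ Cfsg.zspan (↑Yf : Set (↥𝓛 → ℂ)) := fun h =>
    Cfsg.Lib.Coherence.subset_zspan h
  -- the element of degree zero joining the families
  obtain ⟨θ₀, hθ₀, -, -, hθ₀χ⟩ : χ₀ ∈ S := hXS hχ₀
  set d := deg θ₀ with hd
  have hD₀ : deg χ₀ = e * d := by rw [hθ₀χ, deg_indFun (isCharacter_of_irr hθ₀)]
  have hd0 : 0 < d := deg_irr_pos ⟨θ₀, hθ₀⟩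
  have hdw : d ^ 2 ≤ w := by
    refine deg_sq_le_index hθ₀ (Z.subgroupOf K₀) fun z hz g => congrArg θ₀ (Subtype.ext ?_)
    have := hZc' z hz g g.2
    simp only [Subgroup.coe_mul, Subgroup.coe_inv, OneMemClass.coe_one, this]
    group
  have hSX2 : 2 * deg χ₀ ^ 2 ≤ ∑ φ ∈ Xf, deg φ ^ 2 := by
    refine le_trans ?_ hSX
    rw [hD₀, mul_pow, ← mul_assoc]
    exact Nat.mul_le_mul_left _ hdw
  have hD0 : (0 : ℤ) < deg χ₀ := by rw [hD₀]; exact_mod_cast Nat.mul_pos he0 hd0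
  have hη₀1 : η₀ 1 = (e : ℂ) := by rw [hone η₀ (hYS hη₀), hdη₀]
  have hχ₀1 : χ₀ 1 = (e : ℂ) * d := by rw [hone χ₀ (hXS hχ₀), hD₀, Nat.cast_mul]
  set u := χ₀ - (d : ℤ) • η₀ with hu
  have huS : u ∈ Cfsg.zspanOn S {1}ᶜ := Cfsg.Lib.Coherence.mem_one.mpr
    ⟨(Submodule.span ℤ S).sub_mem (Cfsg.Lib.Coherence.subset_zspan (hXS hχ₀))
      ((Submodule.span ℤ S).smul_mem _ (Cfsg.Lib.Coherence.subset_zspan (hYS hη₀))),
      by simp [hu, hη₀1, hχ₀1, mul_comm]⟩
  set β := τ u with hβ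
  have hβgen : Cfsg.IsGeneralizedCharacter G β := hτ.2.2.2 _ huS
  have hnexy : ∀ {x y}, x ∈ Xf → y ∈ Yf → x ≠ y := fun hx hy h =>
    Finset.disjoint_left.mp hdisj hx (h ▸ hy)
  have huX : ∀ x ∈ Xf, Cfsg.classInner u x = if χ₀ = x then 1 else 0 := by
    intro x hx
    rw [hu, classInner_sub_left, classInner_zsmul_left, classInner_irrChar (hirr _ (hXS hχ₀)) (hirr _ (hXS hx)),
      classInner_irrChar (hirr _ (hYS hη₀)) (hirr _ (hXS hx)), if_neg (hnexy hx hη₀).symm, mul_zero, sub_zero]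
  have huY : ∀ y ∈ Yf, Cfsg.classInner u y = -((d : ℂ) * if η₀ = y then 1 else 0) := by
    intro y hy
    rw [hu, classInner_sub_left, classInner_zsmul_left, classInner_irrChar (hirr _ (hXS hχ₀)) (hirr _ (hYS hy)),
      classInner_irrChar (hirr _ (hYS hη₀)) (hirr _ (hYS hy)), if_neg (hnexy hχ₀ hy), zero_sub]
    simp
  have huu : Cfsg.classInner u u = ((1 + (d : ℤ) ^ 2 : ℤ) : ℂ) := by
    conv_lhs => arg 2; rw [hu]
    rw [classInner_sub_right, classInner_zsmul_right, huX χ₀ hχ₀, huY η₀ hη₀, if_pos rfl, if_pos rfl]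
    push_cast; ring
  have hββ : Cfsg.classInner β β = ((1 + (d : ℤ) ^ 2 : ℤ) : ℂ) := by rw [hβ, hτ.2.2.1 _ huS _ huS, huu]
  -- relation along `X`
  have hθX : ∀ x ∈ Xf, (deg χ₀ : ℤ) • x - (deg x : ℤ) • χ₀ ∈ Cfsg.zspanOn (↑Xf : Set (↥𝓛 → ℂ)) {1}ᶜ :=
    fun x hx => Cfsg.Lib.Coherence.mem_one.mpr
      ⟨(Submodule.span ℤ _).sub_mem ((Submodule.span ℤ _).smul_mem _ (hXz hx))
        ((Submodule.span ℤ _).smul_mem _ (hXz hχ₀)), by
        simp [hone x (hXS hx), hone χ₀ (hXS hχ₀), mul_comm]⟩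
  have hσθ : ∀ x ∈ Xf, τ ((deg χ₀ : ℤ) • x - (deg x : ℤ) • χ₀) =
      (deg χ₀ : ℤ) • σ x - (deg x : ℤ) • σ χ₀ := by
    intro x hx
    rw [← hσα _ (hθX x hx), Cfsg.Lib.Coherence.map_sub' (Submodule.span ℤ _) hσ
      ((Submodule.span ℤ _).smul_mem _ (hXz hx)) ((Submodule.span ℤ _).smul_mem _ (hXz hχ₀)),
      hσ.2.1 _ (hXz hx), hσ.2.1 _ (hXz hχ₀)]
  choose! cX hcX using fun x (hx : x ∈ Xf) => Cfsg.Lib.Coherence.inner_int hβgen (hσ.2.2.2 _ (hXz hx))
  set b : ℤ := cX χ₀ - 1 with hb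
  have hrelX : ∀ x ∈ Xf, (deg χ₀ : ℤ) * cX x = (deg x : ℤ) * b + if χ₀ = x then (deg χ₀ : ℤ) else 0 := by
    intro x hx
    have h := hτ.2.2.1 _ huS _ (Cfsg.Lib.Coherence.zspanOn_mono hXS (hθX x hx))
    rw [hσθ x hx, ← hβ] at h
    simp only [classInner_sub_right, classInner_zsmul_right, hcX x hx, hcX χ₀ hχ₀, huX x hx, huX χ₀ hχ₀,
      if_pos] at h
    apply Int.cast_injective (α := ℂ)
    rw [hb]
    split_ifs with hx' <;> simp [hx'] at h ⊢ <;> linear_combination h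
  -- irreducibles attached to `Y` restricted to the normaliser
  have horthXY : ∀ T : (↥𝓛 → ℂ) → (G → ℂ), Cfsg.IsLinearIsometryOn (Cfsg.zspan (↑Yf : Set _)) T →
      (∀ f ∈ Cfsg.zspanOn (↑Yf : Set (↥𝓛 → ℂ)) {1}ᶜ, T f = τ f) →
      ∀ σ' : (↥𝓛 → ℂ) → (G → ℂ), Cfsg.IsLinearIsometryOn (Cfsg.zspan (↑Xf : Set _)) σ' →
      (∀ f ∈ Cfsg.zspanOn (↑Xf : Set (↥𝓛 → ℂ)) {1}ᶜ, σ' f = τ f) →
      (∀ x ∈ Xf, ∀ y ∈ Yf, Cfsg.classInner (σ' x) (T y) = 0) ∧
      ((∃ χ ∈ (↑Xf : Set (↥𝓛 → ℂ)), ∃ η ∈ (↑Yf : Set (↥𝓛 → ℂ)),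
        τ (χ 1 • η - η 1 • χ) = χ 1 • T η - η 1 • σ' χ) →
        Cfsg.IsCoherent ((↑Xf : Set (↥𝓛 → ℂ)) ∪ ↑Yf) {1}ᶜ τ) := by
    intro T hT hTα σ' hσ' hσ'α
    refine Cfsg.Agent.S1531.result 𝓛 S (↑Xf) (↑Yf) hirr hXS hYS (Finset.disjoint_coe.mpr hdisj) ?_ hY2 τ
      hτ hτ1 σ' T hσ' hσ'α hT hTα
    obtain ⟨R, hR⟩ := system_normalizer p P hTI hlt hC hp hna
    refine ⟨χ₀, hχ₀, Cfsg.conjFun χ₀, ?_, (hR.conj_ne χ₀ (hXS hχ₀)).symm⟩
    have h0 : χ₀ ∈ (↑Xf : Set (↥𝓛 → ℂ)) := hχ₀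
    rw [hXset] at h0 ⊢
    exact ⟨conj_mem_above ⊥ h0.1, fun h => h0.2 (by
      simpa [Cfsg.Lib.Coherence.conjFun_conjFun] using conj_mem_above Z h)⟩
  have hmain : ∀ T : (↥𝓛 → ℂ) → (G → ℂ), Cfsg.IsLinearIsometryOn (Cfsg.zspan (↑Yf : Set _)) T →
      (∀ f ∈ Cfsg.zspanOn (↑Yf : Set (↥𝓛 → ℂ)) {1}ᶜ, T f = τ f) →
      ∃ t : ℤ, (∀ y ∈ Yf, Cfsg.classInner β (T y) = (((d : ℤ) * t - if η₀ = y then (d : ℤ) else 0 : ℤ) : ℂ)) ∧
        (t = 0 ∧ b ^ 2 * (∑ φ ∈ Xf, (deg φ : ℤ) ^ 2) + 2 * b * (deg χ₀ : ℤ) ^ 2 ≤ 0 ∨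
          t = 1 ∧ Yf.card = 2) := by
    intro T hT hTα
    have horth := (horthXY T hT hTα σ hσ hσα).1
    choose! cY hcY using fun y (hy : y ∈ Yf) => Cfsg.Lib.Coherence.inner_int hβgen (hT.2.2.2 _ (hYz hy))
    set a : ℤ := cY η₀ + d with ha
    have hrelY : ∀ y ∈ Yf, cY y = a - if η₀ = y then (d : ℤ) else 0 := by
      intro y hy
      have hy1 : y - η₀ ∈ Cfsg.zspanOn (↑Yf : Set (↥𝓛 → ℂ)) {1}ᶜ := Cfsg.Lib.Coherence.mem_one.mpr
        ⟨(Submodule.span ℤ _).sub_mem (hYz hy) (hYz hη₀), by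
          simp [hη₀1, hone y (hYS hy), deg_above_derived le_rfl ((Set.Finite.mem_toFinset _).mp hy), ← he]⟩
      have h := hτ.2.2.1 _ huS _ (Cfsg.Lib.Coherence.zspanOn_mono hYS hy1)
      rw [← hTα _ hy1, Cfsg.Lib.Coherence.map_sub' (Submodule.span ℤ _) hT (hYz hy) (hYz hη₀), ← hβ] at h
      simp only [classInner_sub_right, hcY y hy, hcY η₀ hη₀, huY y hy, huY η₀ hη₀, if_pos] at h
      apply Int.cast_injective (α := ℂ)
      rw [ha]
      split_ifs with hy' <;> simp [hy'] at h ⊢ <;> linear_combination h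
    -- the congruence
    obtain ⟨t, ht⟩ : (d : ℤ) ∣ a := by
      obtain ⟨η₁, hη₁, hne⟩ : ∃ y ∈ Yf, y ≠ η₀ := by
        obtain ⟨y, hy, y', hy', hne⟩ := hY2
        by_cases h : y = η₀
        exacts [⟨y', hy', fun h' => hne (h.trans h'.symm)⟩, ⟨y, hy, h⟩]
      suffices (d : ℤ) ∣ cY η₁ by
        have h := hrelY η₁ hη₁
        rw [if_neg hne.symm, sub_zero] at h
        rwa [h] at this
      set v := T η₁ with hv
      have hvn : Cfsg.classInner v v = 1 := by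
        rw [hv, hT.2.2.1 _ (hYz hη₁) _ (hYz hη₁), classInner_self_irr (hirr _ (hYS hη₁))]
      obtain ⟨ε, ψ, hψ, hvψ⟩ : ∃ ε : ℤ, ∃ ψ, Cfsg.IsIrrCharacter G ψ ∧ ψ = ε • v ∧ v = ε • ψ := by
        rcases isIrr_or_neg_of_norm_one (hT.2.2.2 _ (hYz hη₁)) hvn with h | h
        · exact ⟨1, v, h, (one_smul _ _).symm, (one_smul _ _).symm⟩
        · exact ⟨-1, -v, h, (neg_one_smul _ _).symm, by simp⟩
      set f : ↥𝓛 → ℂ := fun x => ψ x with hf
      have hψc := isCharacter_of_irr hψ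
      have hfc : Cfsg.IsCharacter ↥𝓛 f := IsCharacter.restrict hψc 𝓛
      set κ : ℂ := Cfsg.classInner f χ₀ / (deg χ₀ : ℂ) with hκ
      have hD0' : (deg χ₀ : ℂ) ≠ 0 := by exact_mod_cast hD0.ne'
      have hfX : ∀ x ∈ Xf, Cfsg.classInner f x = κ * deg x := by
        intro x hx
        have h := frobenius_reciprocity' 𝓛 ((deg χ₀ : ℤ) • x - (deg x : ℤ) • χ₀) (isClassFunction_isChar hψc)
        have h0 : Cfsg.classInner ψ (τ ((deg χ₀ : ℤ) • x - (deg x : ℤ) • χ₀)) = 0 := by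
          rw [hσθ x hx, hvψ.1, classInner_zsmul_left, classInner_sub_right, classInner_zsmul_right,
            classInner_zsmul_right, hv, ← classInner_conj_symm, horth x hx η₁ hη₁,
            ← classInner_conj_symm, horth χ₀ hχ₀ η₁ hη₁]
          simp
        rw [hτdef] at h0
        rw [h0, classInner_sub_right, classInner_zsmul_right, classInner_zsmul_right] at h
        rw [hκ, div_mul_eq_mul_div, eq_div_iff hD0']
        simp only [Int.cast_natCast, hf] at h ⊢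
        linear_combination -h
      have hdrop : ∀ z : ↥𝓛, z ∈ Z → z ≠ 1 → f 1 - f z = κ * Nat.card ↥𝓛 := by
        intro z hz hz1
        have hX := diff_eq (K := K₀) Z hZK (fun χ hχ => hirr χ hχ.1)
        rw [← hSdef, ← hXset] at hX
        have h2 : ∀ χ : Cfsg.IrrCharacter ↥𝓛,
            Cfsg.classInner f (χ : ↥𝓛 → ℂ) * ((χ : ↥𝓛 → ℂ) 1 - (χ : ↥𝓛 → ℂ) z) =
              κ * (χ : ↥𝓛 → ℂ) 1 * ((χ : ↥𝓛 → ℂ) 1 - (χ : ↥𝓛 → ℂ) z) := by
          intro χ
          by_cases hχ : (χ : ↥𝓛 → ℂ) ∈ Xf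
          · rw [hfX _ hχ, hone _ (hXS hχ)]
          · have : (χ : ↥𝓛 → ℂ) z = (χ : ↥𝓛 → ℂ) 1 := by
              by_contra hne'
              exact hχ (hX.ge ⟨χ.2, z, hz, hne'⟩)
            rw [this, sub_self, mul_zero, mul_zero]
        rw [classFunction_expand_apply (isClassFunction_isChar hfc) 1,
          classFunction_expand_apply (isClassFunction_isChar hfc) z, ← Finset.sum_sub_distrib]
        simp only [← mul_sub, h2]
        simp only [mul_assoc, mul_sub, ← Finset.mul_sum, Finset.sum_sub_distrib]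
        rw [sum_deg_mul (1 : ↥𝓛), sum_deg_mul z, if_pos rfl, if_neg hz1, mul_zero, sub_zero]
      set Z' := Z.map (𝓛).subtype with hZ'
      obtain ⟨z, hzZ, hz1⟩ := (Subgroup.bot_or_exists_ne_one Z).resolve_left hZ1
      have hconst : ∀ y ∈ Z', ∀ y' ∈ Z', y ≠ 1 → y' ≠ 1 → ψ y = ψ y' := by
        rintro _ ⟨y, hy, rfl⟩ _ ⟨y', hy', rfl⟩ h1 h1'
        have e1 := hdrop y hy fun h => h1 (by rw [h]; rfl)
        have e2 := hdrop y' hy' fun h => h1' (by rw [h]; rfl)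
        show f y = f y'
        linear_combination e2 - e1
      obtain ⟨n, m, hn, hm, hnm⟩ := Cfsg.Agent.S1523.result p P hTI hodd Z'
        (fun h => hZ1 ((Subgroup.map_eq_bot_iff_of_injective _ (𝓛).subtype_injective).mp h))
        (by rintro _ ⟨y, hy, rfl⟩; exact hZK hy)
        (by rintro x hx _ ⟨y, hy, rfl⟩; exact ⟨⟨x, hx⟩ * y * ⟨x, hx⟩⁻¹, hZn.conj_mem y hy _, rfl⟩)
        (by
          rintro _ ⟨y, hy, rfl⟩ k hk
          exact congrArg Subtype.val (hZc' y hy ⟨k, Subgroup.le_normalizer hk⟩ hk))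
        (by
          have key : ∀ y ∈ Z', y ≠ 1 → (𝓛) ⊓ Subgroup.centralizer ({y} : Set G) = (P : Subgroup G) := by
            rintro _ ⟨y, hy, rfl⟩ h1
            refine le_antisymm (inf_le_right.trans (hC _ (hZK hy) h1)) fun k hk =>
              ⟨Subgroup.le_normalizer hk, Subgroup.mem_centralizer_singleton_iff.mpr
                (congrArg Subtype.val (hZc' y hy ⟨k, Subgroup.le_normalizer hk⟩ hk)).symm⟩
          intro y hy y' hy' h h'
          rw [key y hy h, key y' hy' h'])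
        ψ hψ hconst z ⟨z, hzZ, rfl⟩ (fun h => hz1 (Subtype.ext h))
      obtain ⟨q, hq⟩ := hnm
      have hcardL : (Nat.card ↥𝓛 : ℂ) = (Nat.card (P : Subgroup G) : ℂ) * e := by
        rw [← (𝓚).card_mul_index, card_sub _ _ hlt, Nat.cast_mul]
      have hκe : κ * e = (q : ℂ) := by
        have h1 := hdrop z hzZ hz1
        rw [show f 1 = (m : ℂ) from hm, show f z = (n : ℂ) from hn, hcardL] at h1
        have h2 : ((m - n : ℤ) : ℂ) = (Nat.card (P : Subgroup G) : ℂ) * q := by exact_mod_cast congrArg (fun i : ℤ => (i : ℂ)) hq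
        push_cast at h2
        apply mul_left_cancel₀ (show (Nat.card (P : Subgroup G) : ℂ) ≠ 0 by exact_mod_cast Nat.card_pos.ne')
        linear_combination h2 - h1
      obtain ⟨j, hj⟩ := Cfsg.Lib.Coherence.inner_int
        (IsCharacter.isGeneralized (isCharacter_of_irr (hirr _ (hYS hη₀)))) (IsCharacter.isGeneralized hfc)
      have hχf : Cfsg.classInner χ₀ f = ((q * d : ℤ) : ℂ) := by
        rw [← classInner_conj_symm, hfX χ₀ hχ₀, hD₀, Nat.cast_mul, ← mul_assoc, hκe]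
        simp
      have h := hcY η₁ hη₁
      rw [← hv, hvψ.2, classInner_zsmul_right, hβ, hτdef] at h
      rw [frobenius_reciprocity _ _ (isClassFunction_isChar hψc), ← hf, hu, classInner_sub_left,
        classInner_zsmul_left, hχf, hj] at h
      refine ⟨ε * (q - j), ?_⟩
      apply Int.cast_injective (α := ℂ)
      push_cast at h ⊢
      linear_combination -h
    -- the norm
    have hnorm : ∑ x ∈ Xf, cX x ^ 2 + ∑ y ∈ Yf, cY y ^ 2 ≤ 1 + (d : ℤ) ^ 2 := by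
      have hgram : ∀ i ∈ Xf ∪ Yf, ∀ j ∈ Xf ∪ Yf,
          Cfsg.classInner (if i ∈ Xf then σ i else T i) (if j ∈ Xf then σ j else T j) =
            if i = j then ((1 : ℝ) : ℂ) else 0 := by
        intro i hi j hj
        have iY : ∀ {k}, k ∈ Xf ∪ Yf → k ∉ Xf → k ∈ Yf := fun h h' => (Finset.mem_union.mp h).resolve_left h'
        by_cases h1 : i ∈ Xf <;> by_cases h2 : j ∈ Xf
        · rw [if_pos h1, if_pos h2, hσ.2.2.1 _ (hXz h1) _ (hXz h2),
            classInner_irrChar (hirr _ (hXS h1)) (hirr _ (hXS h2))]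
          simp
        · rw [if_pos h1, if_neg h2, horth i h1 j (iY hj h2), if_neg (fun h : i = j => h2 (h ▸ h1))]
        · rw [if_neg h1, if_pos h2, ← classInner_conj_symm, horth j h2 i (iY hi h1), map_zero,
            if_neg (fun h : i = j => h1 (h ▸ h2))]
        · rw [if_neg h1, if_neg h2, hT.2.2.1 _ (hYz (iY hi h1)) _ (hYz (iY hj h2)),
            classInner_irrChar (hirr _ (hYS (iY hi h1))) (hirr _ (hYS (iY hj h2)))]
          simp
      obtain ⟨-, hN⟩ := Cfsg.Lib.Coherence.project (Xf ∪ Yf) (e := fun i => if i ∈ Xf then σ i else T i)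
        (n := fun _ => (1 : ℝ)) (fun _ _ => one_ne_zero) (fun i hi j hj => by rw [hgram i hi j hj]; congr)
        (a := β) (x := fun i => ((if i ∈ Xf then cX i else cY i : ℤ) : ℝ))
        (fun i hi => by
          split_ifs with h
          · rw [hcX i h]; simp
          · rw [hcY i ((Finset.mem_union.mp hi).resolve_left h)]; simp)
      simp only [div_one] at hN
      rw [hββ, Complex.intCast_re] at hN
      have hr := Cfsg.Lib.Coherence.inner_self_re_nonneg (β - Cfsg.Lib.Coherence.comb (Xf ∪ Yf)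
        (fun i => if i ∈ Xf then σ i else T i) fun i => ((if i ∈ Xf then cX i else cY i : ℤ) : ℝ))
      rw [Finset.sum_union hdisj,
        Finset.sum_congr rfl (fun i (hi : i ∈ Xf) => by rw [if_pos hi] : ∀ i ∈ Xf, _ = ((cX i : ℤ) : ℝ) ^ 2),
        Finset.sum_congr rfl (fun i (hi : i ∈ Yf) => by rw [if_neg (Finset.disjoint_right.mp hdisj hi)] :
          ∀ i ∈ Yf, _ = ((cY i : ℤ) : ℝ) ^ 2)] at hN
      apply (Int.cast_le (R := ℝ)).mp
      push_cast at hN hr ⊢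
      linarith
    have hX2 : (deg χ₀ : ℤ) ^ 2 * ∑ x ∈ Xf, cX x ^ 2 =
        b ^ 2 * (∑ φ ∈ Xf, (deg φ : ℤ) ^ 2) + 2 * b * (deg χ₀ : ℤ) ^ 2 + (deg χ₀ : ℤ) ^ 2 := by
      rw [Finset.mul_sum, Finset.sum_congr rfl fun x hx => show (deg χ₀ : ℤ) ^ 2 * cX x ^ 2 =
        b ^ 2 * (deg x : ℤ) ^ 2 +
          if χ₀ = x then 2 * b * (deg χ₀ : ℤ) ^ 2 + (deg χ₀ : ℤ) ^ 2 else 0 by
          rw [← mul_pow, hrelX x hx]
          split_ifs with h
          · subst h; ring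
          · ring]
      rw [Finset.sum_add_distrib, ← Finset.mul_sum, Finset.sum_ite_eq Xf χ₀, if_pos hχ₀, add_assoc]
    have hY2' : ∑ y ∈ Yf, cY y ^ 2 = (Yf.card : ℤ) * a ^ 2 + (-2 * a * d + (d : ℤ) ^ 2) := by
      rw [Finset.sum_congr rfl fun y hy => show cY y ^ 2 =
        a ^ 2 + if η₀ = y then -2 * a * d + (d : ℤ) ^ 2 else 0 by
          rw [hrelY y hy]; split_ifs <;> ring]
      rw [Finset.sum_add_distrib, Finset.sum_const, nsmul_eq_mul, Finset.sum_ite_eq Yf η₀, if_pos hη₀]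
    refine ⟨t, fun y hy => ?_, ?_⟩
    · rw [hcY y hy, hrelY y hy, ht]
    set SX : ℤ := ∑ φ ∈ Xf, (deg φ : ℤ) ^ 2 with hSXdef
    have hSX' : 2 * (deg χ₀ : ℤ) ^ 2 ≤ SX := by rw [hSXdef]; exact_mod_cast hSX2
    have hn2 : (2 : ℤ) ≤ Yf.card := by
      have : 1 < Yf.card := Finset.one_lt_card.mpr (by simpa using hY2)
      omega
    have htot : (deg χ₀ : ℤ) ^ 2 * (d : ℤ) ^ 2 * ((Yf.card : ℤ) * t ^ 2 - 2 * t) +
        (b ^ 2 * SX + 2 * b * (deg χ₀ : ℤ) ^ 2) ≤ 0 := by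
      have := mul_le_mul_of_nonneg_left hnorm (sq_nonneg (deg χ₀ : ℤ))
      rw [mul_add, hX2, hY2', ht] at this
      linarith
    have hbb : 0 ≤ b * (b + 1) := by
      rcases le_or_gt 0 b with h | h
      · positivity
      · exact mul_nonneg_of_nonpos_of_nonpos h.le (by omega)
    have hnonneg : 0 ≤ b ^ 2 * SX + 2 * b * (deg χ₀ : ℤ) ^ 2 := by
      nlinarith [mul_le_mul_of_nonneg_left hSX' (sq_nonneg b), mul_nonneg hbb (sq_nonneg (deg χ₀ : ℤ))]
    have hpos : (0 : ℤ) < (deg χ₀ : ℤ) ^ 2 * (d : ℤ) ^ 2 := by positivity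
    have htle : (Yf.card : ℤ) * t ^ 2 - 2 * t ≤ 0 := by
      by_contra h
      nlinarith [mul_pos hpos (not_le.mp h)]
    have ht01 : t = 0 ∨ t = 1 := by
      have h1 : t ≤ 1 := by nlinarith [mul_le_mul_of_nonneg_right hn2 (sq_nonneg t)]
      have h2 : 0 ≤ t := by nlinarith [mul_le_mul_of_nonneg_right hn2 (sq_nonneg t)]
      omega
    rcases ht01 with h | h
    · left
      refine ⟨h, ?_⟩
      rw [h] at htot
      simpa using htot
    · right
      rw [h] at htle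
      refine ⟨h, ?_⟩
      omega
  -- normalise the isometry on `Y`
  obtain ⟨T, hT, hTα, hTη, hbX⟩ : ∃ T : (↥𝓛 → ℂ) → (G → ℂ),
      Cfsg.IsLinearIsometryOn (Cfsg.zspan (↑Yf : Set _)) T ∧
      (∀ f ∈ Cfsg.zspanOn (↑Yf : Set (↥𝓛 → ℂ)) {1}ᶜ, T f = τ f) ∧
      Cfsg.classInner β (T η₀) = -(d : ℂ) ∧
      b ^ 2 * (∑ φ ∈ Xf, (deg φ : ℤ) ^ 2) + 2 * b * (deg χ₀ : ℤ) ^ 2 ≤ 0 := by
    obtain ⟨t, hty, ht | ⟨ht, hcard⟩⟩ := hmain τY hτY hτYα
    · refine ⟨τY, hτY, hτYα, ?_, ht.2⟩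
      rw [hty η₀ hη₀, ht.1, if_pos rfl]; simp
    obtain ⟨y₁, y₂, hne, hYeq⟩ := Finset.card_eq_two.mp hcard
    obtain ⟨η₁, hη₁, hne₁, hY'⟩ : ∃ η₁, η₁ ∈ Yf ∧ η₀ ≠ η₁ ∧ (↑Yf : Set (↥𝓛 → ℂ)) = {η₀, η₁} := by
      have h0 := hη₀
      rw [hYeq, Finset.mem_insert, Finset.mem_singleton] at h0
      rcases h0 with rfl | rfl
      · exact ⟨y₂, by simp [hYeq], hne, by simp [hYeq]⟩
      · exact ⟨y₁, by simp [hYeq], hne.symm, by simp [hYeq, Set.pair_comm]⟩
    obtain ⟨T', hT', hag, hT0, hT1⟩ := exists_swap (hirr _ (hYS hη₀)) (hirr _ (hYS hη₁)) hne₁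
      (by rw [hη₀1, hone _ (hYS hη₁), deg_above_derived le_rfl ((Set.Finite.mem_toFinset _).mp hη₁)])
      (hY' ▸ hτY)
    rw [← hY'] at hT' hag
    have hag' : ∀ f ∈ Cfsg.zspanOn (↑Yf : Set (↥𝓛 → ℂ)) {1}ᶜ, T' f = τ f := fun f hf => by
      rw [hag f hf, hτYα f hf]
    obtain ⟨t', hty', ht'⟩ := hmain T' hT' hag'
    have h1 : Cfsg.classInner β (T' η₁) = 0 := by
      rw [hT1, classInner_neg_right, hty η₀ hη₀, ht, if_pos rfl]; simp
    have ht0 : t' = 0 := by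
      have h2 := hty' η₁ hη₁
      rw [h1, if_neg hne₁, sub_zero, eq_comm, Int.cast_eq_zero, mul_eq_zero] at h2
      exact h2.resolve_left (by omega)
    refine ⟨T', hT', hag', ?_, (ht'.resolve_right fun h => by omega).2⟩
    rw [hty' η₀ hη₀, ht0, if_pos rfl]; simp
  -- normalise the isometry on `X`
  obtain ⟨σ', hσ', hσ'α, hσχ⟩ : ∃ σ' : (↥𝓛 → ℂ) → (G → ℂ),
      Cfsg.IsLinearIsometryOn (Cfsg.zspan (↑Xf : Set _)) σ' ∧
      (∀ f ∈ Cfsg.zspanOn (↑Xf : Set (↥𝓛 → ℂ)) {1}ᶜ, σ' f = τ f) ∧ Cfsg.classInner β (σ' χ₀) = 1 := by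
    by_cases hb0 : b = 0
    · refine ⟨σ, hσ, hσα, ?_⟩
      rw [hcX χ₀ hχ₀, show cX χ₀ = 1 by omega]; simp
    set SX : ℤ := ∑ φ ∈ Xf, (deg φ : ℤ) ^ 2 with hSXdef
    have hSX' : 2 * (deg χ₀ : ℤ) ^ 2 ≤ SX := by rw [hSXdef]; exact_mod_cast hSX2
    have hD2 : (0 : ℤ) < (deg χ₀ : ℤ) ^ 2 := by positivity
    have hb1 : b = -1 := by
      rcases le_or_gt 0 b with h | h
      · exfalso; nlinarith [mul_pos (mul_pos (show (0:ℤ) < b by omega) (show (0:ℤ) < b by omega)) hD2]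
      · by_contra h'
        have h2 : b + 1 < 0 := by omega
        nlinarith [mul_le_mul_of_nonneg_left hSX' (sq_nonneg b), mul_pos (mul_pos_of_neg_of_neg h h2) hD2]
    rw [hb1] at hbX
    have hSXeq : SX = 2 * (deg χ₀ : ℤ) ^ 2 := by linarith
    obtain ⟨R, hR⟩ := system_normalizer p P hTI hlt hC hp hna
    set χb := Cfsg.conjFun χ₀ with hχb
    have hbne : χ₀ ≠ χb := (hR.conj_ne χ₀ (hXS hχ₀)).symm
    have hbX' : χb ∈ Xf := by
      have h0 : χ₀ ∈ (↑Xf : Set (↥𝓛 → ℂ)) := hχ₀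
      rw [hXset] at h0
      rw [← Finset.mem_coe, hXset]
      exact ⟨conj_mem_above ⊥ h0.1, fun h => h0.2 (by
        simpa [hχb, Cfsg.Lib.Coherence.conjFun_conjFun] using conj_mem_above Z h)⟩
    have hdb : deg χb = deg χ₀ := by
      apply Nat.cast_injective (R := ℂ)
      rw [← hone _ (hXS hbX'), hχb, Cfsg.Lib.Coherence.conj_apply_one (isCharacter_of_irr (hirr _ (hXS hχ₀))),
        hone _ (hXS hχ₀)]
    have hXeq : (↑Xf : Set (↥𝓛 → ℂ)) = {χ₀, χb} := by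
      refine Set.Subset.antisymm (fun x hx => ?_) (Set.insert_subset hχ₀ (Set.singleton_subset_iff.mpr hbX'))
      by_contra hx'
      simp only [Set.mem_insert_iff, Set.mem_singleton_iff, not_or] at hx'
      have hsub : ({χ₀, χb, x} : Finset (↥𝓛 → ℂ)) ⊆ Xf := by
        simp [Finset.insert_subset_iff, hχ₀, hbX', Finset.mem_coe.mp hx]
      have hle := Finset.sum_le_sum_of_subset_of_nonneg (f := fun φ => (deg φ : ℤ) ^ 2) hsub
        fun _ _ _ => sq_nonneg _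
      rw [Finset.sum_insert (by simp [hbne, Ne.symm hx'.1]), Finset.sum_insert (by simp [Ne.symm hx'.2]),
        Finset.sum_singleton, hdb, ← hSXdef, hSXeq] at hle
      have h3 : (0 : ℤ) < deg x := by exact_mod_cast deg_irr_pos ⟨x, hirr _ (hXS hx)⟩
      nlinarith
    obtain ⟨σ', hσ', hag, h0, -⟩ := exists_swap (hirr _ (hXS hχ₀)) (hirr _ (hXS hbX')) hbne
      (by rw [hone _ (hXS hχ₀), hone _ (hXS hbX'), hdb]) (hXeq ▸ hσ)
    rw [← hXeq] at hσ' hag
    refine ⟨σ', hσ', fun f hf => by rw [hag f hf, hσα f hf], ?_⟩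
    have hc := hrelX χb hbX'
    rw [if_neg hbne, hdb, hb1, add_zero, mul_neg_one] at hc
    have hc1 : cX χb = -1 := by
      have : (deg χ₀ : ℤ) * cX χb = (deg χ₀ : ℤ) * (-1) := by rw [hc]; ring
      exact mul_left_cancel₀ hD0.ne' this
    rw [h0, classInner_neg_right, hcX χb hbX', hc1]; simp
  -- the two families glue
  have horth := horthXY T hT hTα σ' hσ' hσ'α
  have hβeq : β = σ' χ₀ - (d : ℂ) • T η₀ := by
    rw [← sub_eq_zero, ← classInner_self_eq_zero]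
    have h1 : Cfsg.classInner (σ' χ₀) β = 1 := by rw [← classInner_conj_symm, hσχ, map_one]
    have h2 : Cfsg.classInner (T η₀) β = -(d : ℂ) := by rw [← classInner_conj_symm, hTη]; simp
    have h3 : Cfsg.classInner (T η₀) (σ' χ₀) = 0 := by
      rw [← classInner_conj_symm, horth.1 χ₀ hχ₀ η₀ hη₀, map_zero]
    simp only [classInner_sub_left, classInner_sub_right, classInner_smul_left, classInner_smul_right,
      hββ, hσχ, hTη, h1, h2, h3, horth.1 χ₀ hχ₀ η₀ hη₀, hσ'.2.2.1 _ (hXz hχ₀) _ (hXz hχ₀),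
      hT.2.2.1 _ (hYz hη₀) _ (hYz hη₀), classInner_self_irr (hirr _ (hXS hχ₀)),
      classInner_self_irr (hirr _ (hYS hη₀)), Complex.conj_natCast]
    push_cast
    ring
  have hXY : Cfsg.IsCoherent (↑(Xf ∪ Yf) : Set (↥𝓛 → ℂ)) {1}ᶜ τ := by
    rw [Finset.coe_union]
    refine horth.2 ⟨χ₀, hχ₀, η₀, hη₀, ?_⟩
    rw [show χ₀ 1 • η₀ - η₀ 1 • χ₀ = (-(e : ℂ)) • u by
      funext x; simp [hu, hη₀1, hχ₀1]; ring]
    rw [show τ ((-(e : ℂ)) • u) = (-(e : ℂ)) • β from indFun_smul _ _ _, hβeq, hη₀1, hχ₀1]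
    funext x; simp; ring
  -- add the remaining characters
  have hsub : Xf ∪ Yf ⊆ Tf := Finset.union_subset Finset.sdiff_subset
    (Set.Finite.toFinset_subset_toFinset.mpr (above_subset A))
  have hTset : (↑Tf : Set (↥𝓛 → ℂ)) = S := Set.Finite.coe_toFinset _
  rw [← hTset]
  refine coherent_extend_irr hsub (fun φ hφ => hirr φ ((Set.Finite.mem_toFinset _).mp hφ))
    (by rw [hTset]; exact hτ) (by rw [hTset]; exact hτ1) hXY (χ₁ := η₀) (Finset.mem_union_right _ hη₀) ?_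
  intro χ hχT hχn
  have hχZ : χ ∈ Cfsg.inducedIrrAbove K₀ Z := by
    by_contra h
    exact hχn (Finset.mem_union_left _ (Finset.mem_sdiff.mpr
      ⟨hχT, fun h' => h ((Set.Finite.mem_toFinset _).mp h')⟩))
  obtain ⟨θ, hθ, -, hker, rfl⟩ := hχZ
  rw [hdη₀, deg_indFun (isCharacter_of_irr hθ), ← he]
  refine ⟨dvd_mul_right _ _, ?_⟩
  letI : Fintype K₀ := Fintype.ofFinite _
  have hθw : deg θ ^ 2 ≤ w := by
    rw [hw, Subgroup.relIndex, ← sum_deg_sq_above (Z.subgroupOf K₀)]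
    exact Finset.single_le_sum (f := fun η : Cfsg.IrrCharacter K₀ => deg (η : K₀ → ℂ) ^ 2)
      (fun _ _ => Nat.zero_le _) (a := ⟨θ, hθ⟩) (Finset.mem_filter.mpr ⟨Finset.mem_univ _, hker⟩)
  have hθw' : deg θ ≤ w := le_trans (Nat.le_self_pow two_ne_zero _) hθw
  rw [Finset.sum_union hdisj]
  have hpos : 0 < ∑ φ ∈ Yf, deg φ ^ 2 :=
    Finset.sum_pos' (fun _ _ => Nat.zero_le _) ⟨η₀, hη₀, by rw [hdη₀]; positivity⟩
  calc 2 * e * (e * deg θ) = 2 * e ^ 2 * deg θ := by ring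
    _ ≤ 2 * e ^ 2 * w := Nat.mul_le_mul_left _ hθw'
    _ < _ := by omega

end Sibley

/-- The alternatives for a trivial intersection kernel. -/
theorem trichotomy (K : Subgroup G) [Fintype ↥(Subgroup.normalizer (K : Set G))]
    [(K.subgroupOf (Subgroup.normalizer (K : Set G))).Normal] (hK : K ≠ ⊥)
    (hTI : Cfsg.IsTISubset (K : Set G)) (hlt : K < Subgroup.normalizer (K : Set G))
    (hC : ∀ k ∈ K, k ≠ 1 → Subgroup.centralizer ({k} : Set G) ≤ K) :
    Nat.card K = (K.subgroupOf (Subgroup.normalizer (K : Set G))).index + 1 ∨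
      (Nat.card K = 2 ^ (Nat.card G).factorization 2 ∧
        ⁅K, K⁆.relIndex K < 4 * (K.subgroupOf (Subgroup.normalizer (K : Set G))).index ^ 2) ∨
      Cfsg.IsCoherent (Cfsg.inducedIrrAbove (K.subgroupOf (Subgroup.normalizer (K : Set G))) ⊥) {1}ᶜ
        (fun α => Cfsg.indFun (Subgroup.normalizer (K : Set G)) α) := by
  classical
  have hL : Subgroup.normalizer (K : Set G) = Subgroup.normalizer (K : Set G) := rfl
  by_cases he : Nat.card K = (K.subgroupOf (Subgroup.normalizer (K : Set G))).index + 1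
  · exact Or.inl he
  have hC0 := centralizer_le_sub K (Subgroup.normalizer (K : Set G)) hC
  obtain ⟨hτ, hτ1⟩ := indFun_isometry K (Subgroup.normalizer (K : Set G)) hTI hC
  have hKT := sub_ne_top K (Subgroup.normalizer (K : Set G)) hlt
  rcases coherent_or_pgroup hC0 (sub_ne_bot K (Subgroup.normalizer (K : Set G)) hlt hK) hKT
    (by rw [card_sub K (Subgroup.normalizer (K : Set G)) hlt]; exact he) hτ hτ1 with h | ⟨p, hp, ⟨m, hm⟩, hnc, hle⟩
  · exact Or.inr (Or.inr h)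
  haveI : Fact p.Prime := ⟨hp⟩
  rw [card_sub K (Subgroup.normalizer (K : Set G)) hlt] at hm
  rw [relIndex_derived_sub K (Subgroup.normalizer (K : Set G)) hlt] at hle
  rw [comm_sub K (Subgroup.normalizer (K : Set G)) hlt] at hnc
  have hm0 : m ≠ 0 := fun h => hK (Subgroup.card_eq_one.mp (by rw [hm, h, pow_zero]))
  obtain ⟨P, rfl⟩ := exists_sylow_eq K (Subgroup.normalizer (K : Set G)) hC hL p (IsPGroup.of_card hm) (hm ▸ dvd_pow_self p hm0)
  by_cases hp2 : p = 2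
  · subst hp2
    refine Or.inr (Or.inl ⟨P.card_eq_multiplicity, ?_⟩)
    set e := ((P : Subgroup G).subgroupOf (Subgroup.normalizer ((P : Subgroup G) : Set G))).index
    set r := ⁅(P : Subgroup G), (P : Subgroup G)⁆.relIndex P
    have hdvd := index_dvd_relIndex_sub_one hC0 (A := ⁅(P : Subgroup G).subgroupOf (Subgroup.normalizer ((P : Subgroup G) : Set G)), _⁆)
      (Subgroup.commutator_le_self _) le_rfl
    rw [relIndex_derived_sub _ (Subgroup.normalizer ((P : Subgroup G) : Set G)) hlt] at hdvd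
    obtain ⟨k, -, hk⟩ := (Nat.dvd_prime_pow Nat.prime_two).mp
      ((Subgroup.relIndex_dvd_card ⁅(P : Subgroup G), (P : Subgroup G)⁆ P).trans (dvd_of_eq hm))
    have he1 : e ≠ 1 := fun h => hKT (Subgroup.index_eq_one.mp h)
    have he0 : e ≠ 0 := Subgroup.index_ne_zero_of_finite
    change e ∣ r - 1 at hdvd
    change r = _ at hk
    rcases Nat.lt_or_ge r (4 * e ^ 2) with h | h
    · exact h
    exfalso
    rcases (show r = 4 * e ^ 2 ∨ r = 4 * e ^ 2 + 1 by change r ≤ _ at hle; omega) with h1 | h1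
    · have h2 : e ∣ 4 * e ^ 2 := Dvd.dvd.mul_left (dvd_pow_self e two_ne_zero) 4
      rw [h1] at hdvd
      have h3 := Nat.dvd_sub h2 hdvd
      rw [Nat.sub_sub_self (Nat.one_le_iff_ne_zero.mpr (by positivity))] at h3
      exact he1 (Nat.dvd_one.mp h3)
    · rcases k with _ | k
      · have : 1 ≤ e ^ 2 := Nat.one_le_pow _ _ (Nat.pos_of_ne_zero he0)
        omega
      · rw [pow_succ] at hk
        omega
  · exact Or.inr (Or.inr (coherent_sylow p P hTI hlt hC hp2 hnc))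

end Cfsg.Lib.FrobCoherence
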