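import Mathlib.Analysis.SpecialFunctions.Pow.Real
import Mathlib.Tactic

/-!
# The inequality behind the contradiction for a cover by Frobenius kernels
-/

namespace Cfsg.Lib.FrobCover

theorem final_big {e n g : ℝ} (he : 3 ≤ e) (hn : 4 ≤ n) (hg : (2 * e + 1) ^ 2 ≤ g) :
    1 / e + (e - 1) / (2 * e) + (2 * e + 1) / (2 * e) * (e / (n * e + 1)) + 1 / g < 1 := by
  have h1 : (2 * e + 1) / (2 * e) * (e / (n * e + 1)) ≤ (2 * e + 1) / (2 * (4 * e + 1)) := by
    rw [div_mul_div_comm, div_le_div_iff₀ (by positivity) (by positivity)]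
    nlinarith [mul_nonneg (mul_nonneg (by linarith : (0:ℝ) ≤ n - 4) (sq_nonneg e)) (by linarith : (0:ℝ) ≤ 2 * e + 1)]
  have h2 : 1 / g ≤ 1 / 49 := by
    apply one_div_le_one_div_of_le (by norm_num); nlinarith
  have h3 : 1 / e + (e - 1) / (2 * e) + (2 * e + 1) / (2 * (4 * e + 1)) ≤ 0.95 := by
    have h4 : 1 / e + (e - 1) / (2 * e) = 1 / 2 + 1 / (2 * e) := by field_simp; ring
    have h5 : (2 * e + 1) / (2 * (4 * e + 1)) ≤ 0.27 := by
      rw [div_le_iff₀ (by positivity)]; linarith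
    have h6 : 1 / (2 * e) ≤ 1 / 6 := by apply one_div_le_one_div_of_le (by norm_num); linarith
    linarith
  linarith

theorem final_small {e g : ℝ} (he : 5 ≤ e) (hg : (2 * e + 1) ^ 2 ≤ g) :
    1 / e + (e - 1) / (2 * (e + 2)) + (2 * e + 5) / (2 * e + 4) * (e / (2 * e + 1)) + 1 / g < 1 := by
  have h2 : 1 / g ≤ 1 / (2 * e + 1) ^ 2 := one_div_le_one_div_of_le (by positivity) hg
  have h3 : 1 / e + (e - 1) / (2 * (e + 2)) + (2 * e + 5) / (2 * e + 4) * (e / (2 * e + 1)) +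
      1 / (2 * e + 1) ^ 2 < 1 := by
    have e1 : 1 / e + (e - 1) / (2 * (e + 2)) + (2 * e + 5) / (2 * e + 4) * (e / (2 * e + 1)) +
      1 / (2 * e + 1) ^ 2 = ((2 * e + 4) * (2 * e + 1) ^ 2 + e * (e - 1) * (2 * e + 1) ^ 2 +
        e * e * (2 * e + 5) * (2 * e + 1) + e * (2 * e + 4)) / (e * (2 * e + 4) * (2 * e + 1) ^ 2) := by
      field_simp
      ring
    rw [e1, div_lt_one (by positivity)]
    nlinarith [sq_nonneg (e - 5), mul_nonneg (sq_nonneg e) (by linarith : (0:ℝ) ≤ e - 5)]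
  linarith

theorem no_solution {ι : Type*} [Fintype ι] [DecidableEq ι] (i₀ : ι) (n e hb h : ι → ℕ) (g : ℕ)
    (a b : ι → ℕ) (hn2 : ∀ i, 2 ≤ n i) (hne : ∀ i, Even (n i)) (he0 : 3 ≤ e i₀) (heo : Odd (e i₀))
    (hmin : ∀ i, e i₀ ≤ e i) (hhb : ∀ i, hb i = n i * e i + 1) (hh : ∀ i, 0 < h i)
    (hdist : ∀ i, i ≠ i₀ → n i₀ = 2 → n i = 2 → e i₀ + 2 ≤ e i)
    (hcyc : n i₀ = 2 → e i₀ = 3 → h i₀ = 7)
    (hg : (2 * e i₀ + 1) ^ 2 ≤ g)
    (hcov : 1 - 1 / (g : ℝ) = ∑ i, (1 - 1 / (h i : ℝ)) / (e i : ℝ))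
    (hA : ∑ i ∈ Finset.univ.erase i₀, a i * n i + 1 ≤ e i₀)
    (hB : ∑ i ∈ Finset.univ.erase i₀, (b i : ℝ) * (n i : ℝ) / (hb i : ℝ) ≤ (e i₀ : ℝ) / hb i₀)
    (hab : ∀ i, i ≠ i₀ → 1 ≤ a i + b i) : False := by
  set E : ℝ := (e i₀ : ℝ) with hE
  have hE3 : (3 : ℝ) ≤ E := by rw [hE]; exact_mod_cast he0
  have hgR : (2 * E + 1) ^ 2 ≤ (g : ℝ) := by rw [hE]; exact_mod_cast hg
  have hA' : ∑ i ∈ Finset.univ.erase i₀, (a i : ℝ) * (n i : ℝ) ≤ E - 1 := by
    have h1 : ((∑ i ∈ Finset.univ.erase i₀, a i * n i + 1 : ℕ) : ℝ) ≤ ((e i₀ : ℕ) : ℝ) := by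
      exact_mod_cast hA
    push_cast at h1
    rw [hE]; linarith
  have key : ∀ (α K : ℝ), 0 ≤ α → 0 ≤ K →
      (∀ i, i ≠ i₀ → 1 / (e i : ℝ) ≤ α * n i ∧ 1 / (e i : ℝ) ≤ K * ((n i : ℝ) / hb i)) →
      1 - 1 / (g : ℝ) ≤ (1 - 1 / (h i₀ : ℝ)) / E + α * (E - 1) + K * (E / hb i₀) := by
    intro α K hα hK hpt
    rw [hcov, ← Finset.add_sum_erase _ _ (Finset.mem_univ i₀)]
    have h1 : ∑ i ∈ Finset.univ.erase i₀, (1 - 1 / (h i : ℝ)) / (e i : ℝ) ≤
        ∑ i ∈ Finset.univ.erase i₀,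
          (α * ((a i : ℝ) * n i) + K * ((b i : ℝ) * (n i : ℝ) / hb i)) := by
      refine Finset.sum_le_sum fun i hi => ?_
      have hi' := (Finset.mem_erase.mp hi).1
      have h2 : (1 - 1 / (h i : ℝ)) / (e i : ℝ) ≤ 1 / (e i : ℝ) := by
        apply div_le_div_of_nonneg_right _ (by positivity)
        have : (0 : ℝ) ≤ 1 / (h i : ℝ) := by positivity
        linarith
      obtain ⟨p1, p2⟩ := hpt i hi'
      have hab' : (1 : ℝ) ≤ (a i : ℝ) + b i := by exact_mod_cast hab i hi'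
      have hx : (0 : ℝ) ≤ 1 / (e i : ℝ) := by positivity
      have q1 := mul_le_mul_of_nonneg_left p1 (Nat.cast_nonneg (α := ℝ) (a i))
      have q2 := mul_le_mul_of_nonneg_left p2 (Nat.cast_nonneg (α := ℝ) (b i))
      have q3 := mul_le_mul_of_nonneg_right hab' hx
      rw [mul_div_assoc]
      nlinarith
    rw [Finset.sum_add_distrib, ← Finset.mul_sum, ← Finset.mul_sum] at h1
    have h3 := mul_le_mul_of_nonneg_left hA' hα
    have h4 := mul_le_mul_of_nonneg_left hB hK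
    show (1 - 1 / (h i₀ : ℝ)) / E + _ ≤ _
    linarith
  have hhb' : ∀ i, (hb i : ℝ) = (n i : ℝ) * e i + 1 := fun i => by rw [hhb i]; push_cast; ring
  have t0 : (1 - 1 / (h i₀ : ℝ)) / E ≤ 1 / E := by
    apply div_le_div_of_nonneg_right _ (by positivity)
    have : (0 : ℝ) ≤ 1 / (h i₀ : ℝ) := by positivity
    linarith
  by_cases hn : n i₀ = 2
  · have hpt : ∀ i, i ≠ i₀ → 1 / (e i : ℝ) ≤ 1 / (2 * (E + 2)) * n i ∧
        1 / (e i : ℝ) ≤ (2 * E + 5) / (2 * E + 4) * ((n i : ℝ) / hb i) := by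
      intro i hi
      have hee : E ≤ e i := by rw [hE]; exact_mod_cast hmin i
      have hn' : n i = 2 ∧ E + 2 ≤ (e i : ℝ) ∨ (4 : ℝ) ≤ n i := by
        by_cases h2 : n i = 2
        · exact Or.inl ⟨h2, by rw [hE]; exact_mod_cast hdist i hi hn h2⟩
        · refine Or.inr ?_
          obtain ⟨k, hk⟩ := hne i
          have := hn2 i
          have : 4 ≤ n i := by omega
          exact_mod_cast this
      constructor
      · rw [one_div_mul_eq_div, div_le_div_iff₀ (by linarith) (by positivity)]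
        rcases hn' with ⟨h2, h3⟩ | h3
        · rw [h2]; push_cast; linarith
        · nlinarith
      · rw [hhb', div_mul_div_comm, div_le_div_iff₀ (by linarith) (by positivity)]
        rcases hn' with ⟨h2, h3⟩ | h3
        · rw [h2]; push_cast; nlinarith
        · nlinarith
    have h1 := key _ _ (by positivity) (by positivity) hpt
    have h0 : (hb i₀ : ℝ) = 2 * E + 1 := by rw [hhb' i₀, hn, hE]; push_cast; ring
    rw [h0] at h1
    by_cases h5 : e i₀ = 3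
    · have hE' : E = 3 := by rw [hE, h5]; norm_num
      have h7 := hcyc hn h5
      rw [hE', h7] at h1
      rw [hE'] at hgR
      have : 1 / (g : ℝ) ≤ 1 / 49 := one_div_le_one_div_of_le (by norm_num) (by linarith)
      have h8 : (1 - 1 / ((7 : ℕ) : ℝ)) / 3 + 1 / (2 * (3 + 2)) * (3 - 1) +
          (2 * 3 + 5) / (2 * 3 + 4) * (3 / (2 * 3 + 1)) + 1 / 49 < (1 : ℝ) := by norm_num
      linarith
    · have hE5 : (5 : ℝ) ≤ E := by
        obtain ⟨k, hk⟩ := heo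
        have : 5 ≤ e i₀ := by omega
        rw [hE]; exact_mod_cast this
      have h2 := final_small hE5 hgR
      rw [one_div_mul_eq_div] at h1
      linarith
  · have hn4 : (4 : ℝ) ≤ n i₀ := by
      obtain ⟨k, hk⟩ := hne i₀
      have := hn2 i₀
      have : 4 ≤ n i₀ := by omega
      exact_mod_cast this
    have hpt : ∀ i, i ≠ i₀ → 1 / (e i : ℝ) ≤ 1 / (2 * E) * n i ∧
        1 / (e i : ℝ) ≤ (2 * E + 1) / (2 * E) * ((n i : ℝ) / hb i) := by
      intro i hi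
      have hee : E ≤ e i := by rw [hE]; exact_mod_cast hmin i
      have h2 : (2 : ℝ) ≤ n i := by exact_mod_cast hn2 i
      constructor
      · rw [one_div_mul_eq_div, div_le_div_iff₀ (by linarith) (by positivity)]
        nlinarith
      · rw [hhb', div_mul_div_comm, div_le_div_iff₀ (by linarith) (by positivity)]
        nlinarith
    have h1 := key _ _ (by positivity) (by positivity) hpt
    have h2 := final_big hE3 hn4 hgR
    rw [hhb' i₀, one_div_mul_eq_div] at h1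
    rw [← hE] at h1
    linarith

end Cfsg.Lib.FrobCover
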