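import Cfsg.Agent.OddChar.FrobeniusCoverFamily
import Cfsg.Agent.OddChar.FrobeniusCoverArith
import Cfsg.Agent.OddChar.Coherence
import Cfsg.Agent.S1527

/-!
# A group of odd order is not covered by TI Frobenius kernels of coprime orders

The argument needs no coherence beyond that of the characters induced from linear characters: a parity
count shows that, of two members of the cover, some exceptional character of one occurs in the
induced differences of the other, and Bessel's inequality bounds both kinds of occurrence.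
-/

set_option linter.unusedSectionVars false

namespace Cfsg.Lib.FrobCover

open scoped ComplexConjugate
open Cfsg.Lib.Chars

universe u v

variable {G : Type u} [Group G] [Fintype G]

open scoped Classical in
/-- The inner product of two generalized characters from their coefficients. -/
theorem inner_coeff {f f' : G → ℂ} (hf : Cfsg.IsClassFunction G f)
    (c c' : Cfsg.IrrCharacter G → ℤ) (hc : ∀ ψ : Cfsg.IrrCharacter G, Cfsg.classInner f (ψ : G → ℂ) = c ψ)
    (hc' : ∀ ψ : Cfsg.IrrCharacter G, Cfsg.classInner f' (ψ : G → ℂ) = c' ψ) :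
    Cfsg.classInner f f' = ((∑ ψ, c ψ * c' ψ : ℤ) : ℂ) := by
  conv_lhs => rw [classFunction_expand hf]
  rw [classInner_sum_left]
  push_cast
  refine Finset.sum_congr rfl fun ψ _ => ?_
  rw [classInner_smul_left, hc, ← classInner_conj_symm, hc', map_intCast]

/-- In characteristic two a sum symmetric under conjugation is its principal term. -/
theorem sum_symm_two (hodd : Odd (Nat.card G)) [Fintype (Cfsg.IrrCharacter G)]
    (f : Cfsg.IrrCharacter G → ZMod 2)
    (hf : ∀ ψ : Cfsg.IrrCharacter G, f ⟨Cfsg.conjFun (ψ : G → ℂ), IsIrrCharacter.conjugate ψ.2⟩ = f ψ) :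
    ∑ ψ, f ψ = f (principal G) := by
  classical
  rw [← Finset.add_sum_erase _ _ (Finset.mem_univ (principal G)), add_eq_left]
  let cj : Cfsg.IrrCharacter G → Cfsg.IrrCharacter G :=
    fun ψ => ⟨Cfsg.conjFun (ψ : G → ℂ), IsIrrCharacter.conjugate ψ.2⟩
  have hcc : ∀ ψ, cj (cj ψ) = ψ := fun ψ => Subtype.ext (funext fun g => Complex.conj_conj _)
  have hp : cj (principal G) = principal G := Subtype.ext (funext fun g => map_one _)
  refine Finset.sum_involution (fun ψ _ => cj ψ) (fun ψ _ => ?_) (fun ψ hψ _ h => ?_)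
    (fun ψ hψ => ?_) (fun ψ _ => hcc ψ)
  · rw [show f (cj ψ) = f ψ from hf ψ]
    exact CharTwo.add_self_eq_zero _
  · exact (Finset.mem_erase.mp hψ).1 (eq_principal_of_real hodd ψ fun g =>
      Complex.conj_eq_iff_im.mp (congrFun (congrArg Subtype.val h) g))
  · refine Finset.mem_erase.mpr ⟨fun h => (Finset.mem_erase.mp hψ).1 ?_, Finset.mem_univ _⟩
    rw [← hcc ψ, h, hp]

theorem cover_false (hodd : Odd (Nat.card G)) {ι : Type v} [Fintype ι] (hι : 2 ≤ Fintype.card ι)
    (K : ι → Subgroup G) (hK1 : ∀ i, K i ≠ ⊥) (hnil : ∀ i, Group.IsNilpotent (K i))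
    (hTI : ∀ i, Cfsg.IsTISubset (K i : Set G))
    (hlt : ∀ i, K i < Subgroup.normalizer (K i : Set G))
    (hC : ∀ i, ∀ k ∈ K i, k ≠ 1 → Subgroup.centralizer ({k} : Set G) ≤ K i)
    (hcop : ∀ i j, i ≠ j → Nat.Coprime (Nat.card (K i)) (Nat.card (K j)))
    (hcover : ∀ g : G, g ≠ 1 → ∃ i, ∃ x : G, x * g * x⁻¹ ∈ K i) : False := by
  classical
  let F : ∀ i, Fam (K i) := fun i =>
    (exists_fam hodd (K i) (hK1 i) (hnil i) (hTI i) (hlt i) (hC i)).some
  let z : ∀ i, Fin (F i).n := fun i => ⟨0, lt_of_lt_of_le two_pos (F i).two_le⟩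
  -- disjoint supports
  have hdis : ∀ i j, i ≠ j → ∀ k l, Cfsg.classInner ((F i).β k) ((F j).β l) = 0 := by
    intro i j hij k l
    rw [classInner_def, Finset.sum_eq_zero, mul_zero]
    intro x _
    by_contra hne
    obtain ⟨h1, h2⟩ := mul_ne_zero_iff.mp hne
    obtain ⟨hx1, g, hg⟩ := (F i).supp k x h1
    obtain ⟨-, g', hg'⟩ := (F j).supp l x fun h => h2 (by rw [h, map_zero])
    have e1 : orderOf x ∣ Nat.card (K i) :=
      (orderOf_injective (MulAut.conj g).toMonoidHom (MulAut.conj g).injective x) ▸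
        Subgroup.orderOf_dvd_natCard (K i) hg
    have e2 : orderOf x ∣ Nat.card (K j) :=
      (orderOf_injective (MulAut.conj g').toMonoidHom (MulAut.conj g').injective x) ▸
        Subgroup.orderOf_dvd_natCard (K j) hg'
    exact hx1 (orderOf_eq_one_iff.mp (Nat.eq_one_of_dvd_coprimes (hcop i j hij) e1 e2))
  have hint : ∀ i k, ∀ ψ : Cfsg.IrrCharacter G,
      ∃ m : ℤ, Cfsg.classInner ((F i).β k) (ψ : G → ℂ) = m :=
    fun i k ψ => IsGeneralizedCharacter.exists_mult ((F i).gen k) ψ.2
  choose c hc using hint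
  have hc' : ∀ i k (ψ : Cfsg.IrrCharacter G), Cfsg.classInner (ψ : G → ℂ) ((F i).β k) = c i k ψ :=
    fun i k ψ => by rw [← classInner_conj_symm, hc, map_intCast]
  have hcd : ∀ i k l ψ, c i k ψ - c i l ψ = (F i).ε *
      ((if (F i).χ l = ψ then 1 else 0) - if (F i).χ k = ψ then 1 else 0) := by
    intro i k l ψ
    apply Int.cast_injective (α := ℂ)
    push_cast
    rw [← hc, ← hc, ← classInner_sub_left, (F i).diff k l, classInner_smul_left, classInner_sub_left,
      classInner_irrCharacter, classInner_irrCharacter]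
  have hε0 : ∀ i, (F i).ε ≠ 0 := fun i => by rcases (F i).ε_unit with h | h <;> omega
  have hχp : ∀ i k, (F i).χ k ≠ principal G := by
    intro i k h
    have h1 := (F i).χ_conj k
    rw [h] at h1
    have h2 : (F i).χ ((F i).σ k) = (F i).χ k := by
      rw [h]
      exact Subtype.ext (h1.symm.trans (funext fun g => map_one _))
    exact (F i).σ_ne k ((F i).χ_inj h2)
  have hχdis : ∀ i j, i ≠ j → ∀ k l, (F i).χ k ≠ (F j).χ l := by
    intro i j hij k l h
    have h1 : (F i).χ ((F i).σ k) = (F j).χ ((F j).σ l) := by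
      apply Subtype.ext
      rw [← (F i).χ_conj, ← (F j).χ_conj, h]
    have h2 : Cfsg.classInner ((F i).β k - (F i).β ((F i).σ k))
        ((F j).β l - (F j).β ((F j).σ l)) = 0 := by
      simp [classInner_sub_left, classInner_sub_right, hdis i j hij]
    rw [(F i).diff, (F j).diff, classInner_smul_left, classInner_smul_right, map_intCast,
      h, h1, classInner_sub_left, classInner_sub_right, classInner_sub_right, classInner_irrCharacter,
      classInner_irrCharacter, classInner_irrCharacter, classInner_irrCharacter,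
      if_pos rfl, if_pos rfl, if_neg (fun e => (F j).σ_ne l ((F j).χ_inj e)),
      if_neg (fun e => (F j).σ_ne l ((F j).χ_inj e).symm)] at h2
    simp [hε0] at h2
  let X : ι → ι → ℤ := fun i j => c j (z j) ((F i).χ (z i))
  have hX : ∀ i j, i ≠ j → ∀ k l, c j k ((F i).χ l) = X i j := by
    intro i j hij k l
    have h1 : c j k ((F i).χ l) = c j (z j) ((F i).χ l) := by
      have := hcd j k (z j) ((F i).χ l)
      rw [if_neg (fun e => hχdis i j hij _ _ e.symm), if_neg (fun e => hχdis i j hij _ _ e.symm)] at this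
      linarith
    rw [h1]
    have h2 : Cfsg.classInner ((F j).β (z j)) ((F i).β l - (F i).β (z i)) = 0 := by
      simp [classInner_sub_right, hdis j i (Ne.symm hij)]
    rw [(F i).diff, classInner_smul_right, classInner_sub_right, hc, hc, map_intCast] at h2
    have h3 := (mul_eq_zero.mp h2).resolve_left (by exact_mod_cast hε0 i)
    exact_mod_cast (sub_eq_zero.mp h3).symm
  -- parity
  have hpar : ∀ i j, i ≠ j → X i j ≠ 0 ∨ X j i ≠ 0 := by
    intro i j hij
    by_contra hno
    push Not at hno
    let u : ι → Cfsg.IrrCharacter G → ZMod 2 := fun i ψ =>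
      (c i (z i) ψ : ZMod 2) + if (F i).χ (z i) = ψ then 1 else 0
    have hu : ∀ i, ∀ ψ : Cfsg.IrrCharacter G,
        u i ⟨Cfsg.conjFun (ψ : G → ℂ), IsIrrCharacter.conjugate ψ.2⟩ = u i ψ := by
      intro i ψ
      set φ : Cfsg.IrrCharacter G := ⟨Cfsg.conjFun (ψ : G → ℂ), IsIrrCharacter.conjugate ψ.2⟩
      have h1 : c i (z i) φ = c i ((F i).σ (z i)) ψ := by
        apply Int.cast_injective (α := ℂ)
        rw [← hc, ← hc, ← (F i).β_conj]
        have h := Cfsg.Lib.Coherence.classInner_conjFun ((F i).β (z i)) (φ : G → ℂ)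
        have hφψ : Cfsg.conjFun (φ : G → ℂ) = ψ := funext fun g => Complex.conj_conj _
        rw [hφψ] at h
        rw [h, hc, map_intCast]
      have h2 : ((F i).χ (z i) = φ) ↔ ((F i).χ ((F i).σ (z i)) = ψ) := by
        constructor
        · intro h
          apply Subtype.ext
          rw [← (F i).χ_conj, h]
          exact funext fun g => Complex.conj_conj _
        · intro h
          apply Subtype.ext
          show _ = Cfsg.conjFun (ψ : G → ℂ)
          rw [← h, ← (F i).χ_conj]
          exact (funext fun g => (Complex.conj_conj _).symm)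
      have h3 := congrArg (fun m : ℤ => (m : ZMod 2)) (hcd i ((F i).σ (z i)) (z i) ψ)
      push_cast at h3
      have hε : (((F i).ε : ℤ) : ZMod 2) = 1 := by
        rcases (F i).ε_unit with e | e <;> rw [e] <;> decide
      rw [hε, one_mul] at h3
      show (c i (z i) φ : ZMod 2) + (if (F i).χ (z i) = φ then 1 else 0) = _
      rw [h1, if_congr h2 rfl rfl]
      show _ = (c i (z i) ψ : ZMod 2) + (if (F i).χ (z i) = ψ then 1 else 0)
      linear_combination h3
    have hsum := sum_symm_two hodd (fun ψ => u i ψ * u j ψ) (fun ψ => by rw [hu i ψ, hu j ψ])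
    have hp : ∀ i, u i (principal G) = 1 := fun i => by
      show (c i (z i) (principal G) : ZMod 2) + (if (F i).χ (z i) = principal G then 1 else 0) = 1
      rw [if_neg (hχp _ _), add_zero]
      have : c i (z i) (principal G) = 1 := by
        apply Int.cast_injective (α := ℂ)
        rw [← hc, Int.cast_one]
        exact (F i).principal_inner (z i)
      rw [this, Int.cast_one]
    rw [hp, hp, mul_one] at hsum
    have hcc : ((∑ ψ, c i (z i) ψ * c j (z j) ψ : ℤ) : ZMod 2) = 0 := by
      have h := inner_coeff (isClassFunction_generalized ((F i).gen (z i))) _ _ (hc i (z i)) (hc j (z j))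
      rw [hdis i j hij] at h
      have h' : (∑ ψ, c i (z i) ψ * c j (z j) ψ : ℤ) = 0 := by exact_mod_cast h.symm
      rw [h', Int.cast_zero]
    simp only [u, add_mul, mul_add, Finset.sum_add_distrib, mul_ite, ite_mul, mul_one, mul_zero,
      one_mul, zero_mul, Finset.sum_ite_eq, Finset.mem_univ, if_true] at hsum
    push_cast at hcc
    rw [hcc] at hsum
    have e1 : c i (z i) ((F j).χ (z j)) = X j i := rfl
    have e2 : c j (z j) ((F i).χ (z i)) = X i j := rfl
    rw [e1, e2, hno.1, hno.2, if_neg (hχdis i j hij _ _)] at hsum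
    simp at hsum
  -- the norms
  have hA : ∀ j, ∑ i ∈ Finset.univ.erase j, (X i j).natAbs ^ 2 * (F i).n + 1 ≤ (F j).e := by
    intro j
    have hnorm : ∑ ψ, c j (z j) ψ * c j (z j) ψ = (F j).e + 1 := by
      apply Int.cast_injective (α := ℂ)
      rw [← inner_coeff (isClassFunction_generalized ((F j).gen (z j))) _ _ (hc j (z j)) (hc j (z j)),
        (F j).gram, if_pos rfl]
      push_cast
      rfl
    let T : ι → Finset (Cfsg.IrrCharacter G) := fun i => Finset.univ.image (F i).χ
    have hTd : ((Finset.univ : Finset ι) : Set ι).PairwiseDisjoint T := by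
      intro a _ b _ hab
      refine Finset.disjoint_left.mpr fun ψ h1 h2 => ?_
      obtain ⟨k, -, rfl⟩ := Finset.mem_image.mp h1
      obtain ⟨l, -, hl⟩ := Finset.mem_image.mp h2
      exact hχdis a b hab k l hl.symm
    have hpT : principal G ∉ Finset.univ.biUnion T := by
      simp only [T, Finset.mem_biUnion, Finset.mem_univ, true_and, Finset.mem_image, not_exists]
      exact fun i k h => hχp i k h
    have h1 := Finset.sum_le_sum_of_subset_of_nonneg
      (f := fun ψ => c j (z j) ψ * c j (z j) ψ)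
      (Finset.subset_univ (insert (principal G) (Finset.univ.biUnion T)))
      (fun ψ _ _ => mul_self_nonneg _)
    rw [hnorm, Finset.sum_insert hpT, Finset.sum_biUnion hTd] at h1
    have hp1 : c j (z j) (principal G) = 1 := by
      apply Int.cast_injective (α := ℂ)
      rw [← hc, Int.cast_one]
      exact (F j).principal_inner (z j)
    rw [hp1, ← Finset.add_sum_erase _ _ (Finset.mem_univ j)] at h1
    have hjj : 1 ≤ ∑ ψ ∈ T j, c j (z j) ψ * c j (z j) ψ := by
      set k := z j
      set σk := (F j).σ k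
      have hne : (F j).χ k ≠ (F j).χ σk := fun e => (F j).σ_ne k ((F j).χ_inj e).symm
      refine le_trans ?_ (Finset.sum_le_sum_of_subset_of_nonneg
        (s := {(F j).χ k, (F j).χ σk}) ?_ fun ψ _ _ => mul_self_nonneg _)
      · rw [Finset.sum_pair hne]
        have h2 := hcd j σk k ((F j).χ σk)
        rw [if_neg hne, if_pos rfl] at h2
        have h3 : c j k ((F j).χ k) ≠ 0 ∨ c j k ((F j).χ σk) ≠ 0 := by
          by_contra h0
          push Not at h0
          -- coefficients at a conjugate pair differ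
          have h4 : c j σk ((F j).χ σk) = c j k ((F j).χ k) := by
            apply Int.cast_injective (α := ℂ)
            rw [← hc, ← hc, ← (F j).β_conj, ← (F j).χ_conj, Cfsg.Lib.Coherence.classInner_conjFun,
              hc, map_intCast]
          rw [h4, h0.1, h0.2] at h2
          rcases (F j).ε_unit with e | e <;> rw [e] at h2 <;> norm_num at h2
        rcases h3 with h | h
        · exact (Int.add_one_le_iff.mpr (mul_self_pos.mpr h)).trans
            (le_add_of_nonneg_right (mul_self_nonneg _))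
        · exact (Int.add_one_le_iff.mpr (mul_self_pos.mpr h)).trans
            (le_add_of_nonneg_left (mul_self_nonneg _))
      · simp [T, Finset.insert_subset_iff]
    have hrest : ∑ i ∈ Finset.univ.erase j, ∑ ψ ∈ T i, c j (z j) ψ * c j (z j) ψ =
        ((∑ i ∈ Finset.univ.erase j, (X i j).natAbs ^ 2 * (F i).n : ℕ) : ℤ) := by
      push_cast
      refine Finset.sum_congr rfl fun i hi => ?_
      simp only [T]
      rw [Finset.sum_image fun a _ b _ h => (F i).χ_inj h,
        Finset.sum_congr rfl fun l _ => by rw [hX i j (Finset.mem_erase.mp hi).1 (z j) l],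
        Finset.sum_const, Finset.card_univ, Fintype.card_fin, nsmul_eq_mul, sq_abs]
      push_cast
      ring
    rw [hrest] at h1
    omega
  have hB : ∀ i, ∑ j ∈ Finset.univ.erase i, ((X i j).natAbs ^ 2 : ℕ) * ((F j).n : ℝ) / ((F j).hb : ℝ)
      ≤ ((F i).e : ℝ) / (F i).hb := by
    intro i
    set χ := (F i).χ (z i)
    let x : ∀ j, Fin (F j).n → ℝ := fun j k => (c j k χ : ℝ)
    let y : ∀ j, Fin (F j).n → ℝ := fun j k => x j k - (F j).e * (∑ l, x j l) / (F j).hb
    let W : G → ℂ := ∑ j, ∑ k, (y j k : ℂ) • (F j).β k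
    have hχW : Cfsg.classInner (χ : G → ℂ) W = ((∑ j, ∑ k, y j k * x j k : ℝ) : ℂ) := by
      simp only [W, classInner_sum_right, classInner_smul_right, hc', Complex.conj_ofReal, x]
      push_cast
      rfl
    have hWW : Cfsg.classInner W W =
        ((∑ j, (((F j).e : ℝ) * (∑ k, y j k) ^ 2 + ∑ k, y j k ^ 2) : ℝ) : ℂ) := by
      simp only [W, classInner_sum_left, classInner_sum_right, classInner_smul_left,
        classInner_smul_right, Complex.conj_ofReal]
      push_cast
      refine Finset.sum_congr rfl fun j _ => ?_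
      rw [sq, Finset.sum_mul_sum, Finset.mul_sum, ← Finset.sum_add_distrib]
      refine Finset.sum_congr rfl fun k _ => ?_
      rw [Finset.sum_eq_single j (fun j' _ hj' => Finset.sum_eq_zero fun l _ => by
        simp [hdis j' j hj']) (by simp)]
      simp only [(F j).gram, mul_add, Finset.sum_add_distrib, mul_ite, mul_one, mul_zero,
        Finset.sum_ite_eq, Finset.mem_univ, if_true, Finset.mul_sum]
      congr 1
      · exact Finset.sum_congr rfl fun l _ => by ring
      · simp [sq]
    have h0 := Cfsg.Lib.Coherence.inner_self_re_nonneg ((χ : G → ℂ) - W)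
    have hWχ : Cfsg.classInner W (χ : G → ℂ) = ((∑ j, ∑ k, y j k * x j k : ℝ) : ℂ) := by
      rw [← classInner_conj_symm, hχW, Complex.conj_ofReal]
    rw [classInner_sub_left, classInner_sub_right, classInner_sub_right, classInner_self_irr χ.2,
      hχW, hWW, hWχ] at h0
    simp only [Complex.sub_re, Complex.one_re, Complex.ofReal_re] at h0
    have hval : ∀ j, 2 * ∑ k, y j k * x j k -
        (((F j).e : ℝ) * (∑ k, y j k) ^ 2 + ∑ k, y j k ^ 2) =
        ∑ k, x j k ^ 2 - ((F j).e : ℝ) * (∑ k, x j k) ^ 2 / (F j).hb := by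
      intro j
      have hhb : ((F j).hb : ℝ) = (F j).n * (F j).e + 1 := by rw [(F j).hb_eq]; push_cast; ring
      have hne : ((F j).hb : ℝ) ≠ 0 := by rw [hhb]; positivity
      set t := ((F j).e : ℝ) * (∑ l, x j l) / (F j).hb with ht
      have ey : ∀ k, y j k = x j k - t := fun k => rfl
      simp only [ey, Finset.sum_sub_distrib, Finset.sum_const, Finset.card_univ, Fintype.card_fin,
        nsmul_eq_mul, sub_mul, sub_sq, Finset.sum_add_distrib, ← Finset.mul_sum, ← Finset.sum_mul]
      have ex : ∀ k, x j k * x j k = x j k ^ 2 := fun k => (sq _).symm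
      simp only [ex]
      rw [ht, hhb]
      have hne' : ((F j).n : ℝ) * (F j).e + 1 ≠ 0 := by positivity
      field_simp
      ring
    have htot : ∑ j, (∑ k, x j k ^ 2 - ((F j).e : ℝ) * (∑ k, x j k) ^ 2 / (F j).hb) ≤ 1 := by
      rw [← Finset.sum_congr rfl fun j _ => hval j, Finset.sum_sub_distrib, ← Finset.mul_sum]
      linarith
    rw [← Finset.add_sum_erase _ _ (Finset.mem_univ i)] at htot
    have hown : 1 - ((F i).e : ℝ) / (F i).hb ≤
        ∑ k, x i k ^ 2 - ((F i).e : ℝ) * (∑ k, x i k) ^ 2 / (F i).hb := by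
      set d := c i (z i) χ
      set ε := (F i).ε
      have hx : ∀ k, x i k = ((d + ε : ℤ) : ℝ) - if k = z i then (ε : ℝ) else 0 := by
        intro k
        show (c i k χ : ℝ) = _
        by_cases hk : k = z i
        · rw [hk, if_pos rfl]; push_cast; ring
        · have h := hcd i k (z i) χ
          rw [if_pos rfl, if_neg (fun e => hk ((F i).χ_inj e))] at h
          have h' : c i k χ = d + ε := by linarith
          rw [if_neg hk, h']; simp
      have hhb : ((F i).hb : ℝ) = (F i).n * (F i).e + 1 := by rw [(F i).hb_eq]; push_cast; ring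
      set C : ℤ := d + ε
      have hε2 : (ε : ℝ) ^ 2 = 1 := by rcases (F i).ε_unit with e | e <;> simp [ε, e]
      have hs1 : ∑ k, x i k = (F i).n * (C : ℝ) - ε := by
        simp [hx, Finset.sum_sub_distrib]
      have hs2 : ∑ k, x i k ^ 2 = (F i).n * (C : ℝ) ^ 2 - 2 * C * ε + (ε : ℝ) ^ 2 := by
        simp only [hx, sub_sq, Finset.sum_add_distrib, Finset.sum_sub_distrib, mul_ite, mul_zero,
          ite_pow, zero_pow two_ne_zero, Finset.sum_ite_eq', Finset.mem_univ, if_true,
          Finset.sum_const, Finset.card_univ, Fintype.card_fin, nsmul_eq_mul]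
      have hnn : (0 : ℝ) ≤ (F i).n * (C : ℝ) ^ 2 - 2 * C * ε := by
        have hn : (2 : ℝ) ≤ (F i).n := by exact_mod_cast (F i).two_le
        have hC2 : (C : ℝ) * ε ≤ (C : ℝ) ^ 2 := by
          have h1 : C ≤ C ^ 2 := Int.le_self_sq C
          have h2 : -C ≤ C ^ 2 := by have := Int.le_self_sq (-C); rwa [neg_sq] at this
          rcases (F i).ε_unit with e | e <;> simp only [ε, e, Int.cast_one, Int.cast_neg, mul_one,
            mul_neg]
          · exact_mod_cast h1
          · exact_mod_cast h2
        nlinarith [sq_nonneg (C : ℝ)]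
      rw [hs1, hs2, hhb, sub_le_iff_le_add', ← sub_nonneg]
      have hne : (0 : ℝ) < (F i).n * (F i).e + 1 := by positivity
      have key : ((F i).e : ℝ) / ((F i).n * (F i).e + 1) +
          ((F i).n * (C : ℝ) ^ 2 - 2 * C * ε + (ε : ℝ) ^ 2 -
            (F i).e * ((F i).n * (C : ℝ) - ε) ^ 2 / ((F i).n * (F i).e + 1)) - 1 =
          ((F i).n * (C : ℝ) ^ 2 - 2 * C * ε) / ((F i).n * (F i).e + 1) := by
        field_simp
        linear_combination (((F i).n * (F i).e + 1 : ℝ) - (F i).e) * hε2
      rw [key]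
      positivity
    have hoth : ∀ j ∈ Finset.univ.erase i,
        ∑ k, x j k ^ 2 - ((F j).e : ℝ) * (∑ k, x j k) ^ 2 / (F j).hb =
          ((X i j).natAbs ^ 2 : ℕ) * ((F j).n : ℝ) / ((F j).hb : ℝ) := by
      intro j hj
      have hx : ∀ k, x j k = (X i j : ℝ) := fun k => by
        show (c j k χ : ℝ) = _
        rw [hX i j (Finset.mem_erase.mp hj).1.symm k (z i)]
      have hhb : ((F j).hb : ℝ) = (F j).n * (F j).e + 1 := by rw [(F j).hb_eq]; push_cast; ring
      have hsq : (((X i j).natAbs ^ 2 : ℕ) : ℝ) = (X i j : ℝ) ^ 2 := by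
        rw [← Int.cast_natCast, Nat.cast_pow, Int.natAbs_sq]; push_cast; rfl
      have hne : ((F j).n : ℝ) * (F j).e + 1 ≠ 0 := by positivity
      simp only [hx, Finset.sum_const, Finset.card_univ, Fintype.card_fin, nsmul_eq_mul, hsq, hhb]
      field_simp
      ring
    rw [Finset.sum_congr rfl hoth] at htot
    linarith
  -- the covering equation
  have hcnt := Cfsg.Agent.S1527.result K hcop hTI hcover
  have hKle : ∀ i, (K i) ≤ Subgroup.normalizer (K i : Set G) := fun i => Subgroup.le_normalizer
  have hgi : ∀ i, (Subgroup.normalizer (K i : Set G)).index * (Nat.card (K i) * (F i).e) = Nat.card G := by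
    intro i
    rw [← (F i).e_eq, ← Subgroup.card_mul_index (Subgroup.normalizer (K i : Set G)),
      ← Subgroup.card_mul_index ((K i).subgroupOf (Subgroup.normalizer (K i : Set G))),
      Nat.card_congr (Subgroup.subgroupOfEquivOfLe (hKle i)).toEquiv, mul_comm]
  have hg0 : (Nat.card G : ℝ) ≠ 0 := by exact_mod_cast Nat.card_pos.ne'
  have hcov : 1 - 1 / (Nat.card G : ℝ) =
      ∑ i, (1 - 1 / (Nat.card (K i) : ℝ)) / ((F i).e : ℝ) := by
    have h1 : ((Nat.card G - 1 : ℕ) : ℝ) =
        ((∑ i, (Subgroup.normalizer (K i : Set G)).index * (Nat.card (K i) - 1) : ℕ) : ℝ) := by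
      rw [hcnt]
    rw [Nat.cast_sub Nat.card_pos, Nat.cast_sum, Nat.cast_one] at h1
    rw [one_sub_div hg0, h1, Finset.sum_div]
    refine Finset.sum_congr rfl fun i _ => ?_
    have hKp : (0 : ℝ) < Nat.card (K i) := by exact_mod_cast Nat.card_pos
    have hep : (0 : ℝ) < (F i).e := by
      exact_mod_cast lt_of_lt_of_le (by norm_num : 0 < 3) (F i).three_le
    have hgi' : ((Subgroup.normalizer (K i : Set G)).index : ℝ) *
        ((Nat.card (K i) : ℝ) * (F i).e) = Nat.card G := by exact_mod_cast hgi i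
    rw [Nat.cast_mul, Nat.cast_sub Nat.card_pos, Nat.cast_one, ← hgi', one_sub_div hKp.ne', div_div,
      mul_div_mul_left]
    intro h
    rw [h, zero_mul] at hgi'
    exact hg0 hgi'.symm
  haveI : Nonempty ι := Fintype.card_pos_iff.mp (by omega)
  obtain ⟨i₀, -, hmin⟩ := Finset.exists_min_image Finset.univ (fun i => (F i).e) Finset.univ_nonempty
  have hmin' : ∀ i, (F i₀).e ≤ (F i).e := fun i => hmin i (Finset.mem_univ i)
  have hbig : ∀ i, 2 * (F i₀).e + 1 ≤ Nat.card (K i) := by
    intro i
    have h1 := Nat.le_of_dvd Nat.card_pos (F i).hb_dvd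
    rw [(F i).hb_eq] at h1
    have h2 := Nat.mul_le_mul (F i).two_le (hmin' i)
    omega
  refine no_solution i₀ (fun i => (F i).n) (fun i => (F i).e) (fun i => (F i).hb)
    (fun i => Nat.card (K i)) (Nat.card G) (fun i => (X i i₀).natAbs ^ 2)
    (fun i => (X i₀ i).natAbs ^ 2) (fun i => (F i).two_le) (fun i => (F i).n_even) (F i₀).three_le
    (F i₀).e_odd hmin' (fun i => (F i).hb_eq) (fun i => Nat.card_pos) ?_ ?_ ?_ hcov (hA i₀) (hB i₀) ?_
  · intro i hi h0 h2
    have hne : (F i).e ≠ (F i₀).e := by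
      intro he
      have hhb : (F i).hb = (F i₀).hb := by rw [(F i).hb_eq, (F i₀).hb_eq, he, h0, h2]
      have := Nat.eq_one_of_dvd_coprimes (hcop i i₀ hi) (hhb ▸ (F i).hb_dvd) (F i₀).hb_dvd
      have hb := (F i₀).hb_eq
      have := (F i₀).three_le
      rw [h0] at hb
      omega
    obtain ⟨a, ha⟩ := (F i).e_odd
    obtain ⟨b, hb⟩ := (F i₀).e_odd
    have := hmin' i
    omega
  · intro h0 h3
    have hb : (F i₀).hb = 7 := by rw [(F i₀).hb_eq, h0, h3]
    exact ((F i₀).hb_prime (by rw [hb]; norm_num)).trans hb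
  · obtain ⟨j, hj⟩ := Fintype.exists_ne_of_one_lt_card (by omega) i₀
    have h1 : Nat.card (K i₀) * Nat.card (K j) ∣ Nat.card G :=
      (hcop i₀ j hj.symm).mul_dvd_of_dvd_of_dvd (Subgroup.card_subgroup_dvd_card _)
        (Subgroup.card_subgroup_dvd_card _)
    have h2 := Nat.mul_le_mul (hbig i₀) (hbig j)
    rw [sq]
    exact h2.trans (Nat.le_of_dvd Nat.card_pos h1)
  · intro i hi
    rcases hpar i i₀ hi with h | h
    · have : 0 < (X i i₀).natAbs ^ 2 := pow_pos (Int.natAbs_pos.mpr h) 2
      omega
    · have : 0 < (X i₀ i).natAbs ^ 2 := pow_pos (Int.natAbs_pos.mpr h) 2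
      omega

end Cfsg.Lib.FrobCover
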