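import Cfsg.Agent.OddChar.KernelCoherence

/-!
# Coherence of the characters nontrivial on a central subgroup
-/

set_option linter.unusedSectionVars false
set_option linter.style.haveILetI false

namespace Cfsg.Lib.InducedFamily

open Cfsg.Lib.Chars
open scoped commutatorElement ComplexConjugate

universe u v

variable {L : Type u} [Group L] [Fintype L] {G : Type v} [Group G] [Fintype G] {K : Subgroup L} [K.Normal]
  {τ : (L → ℂ) → (G → ℂ)} {R : (L → ℂ) → Finset (G → ℂ)}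

open scoped Classical in
/-- The weighted degree sum over the image of a union of fibres of induction. -/
theorem sum_ratio_image (Θ : Finset (Cfsg.IrrCharacter K))
    (hcl : ∀ θ ∈ Θ, ∀ η : Cfsg.IrrCharacter K,
      Cfsg.indFun K (η : K → ℂ) = Cfsg.indFun K (θ : K → ℂ) → η ∈ Θ) :
    ∑ φ ∈ Θ.image (fun θ : Cfsg.IrrCharacter K => Cfsg.indFun K (θ : K → ℂ)),
      (deg φ : ℝ) ^ 2 / (Cfsg.classInner φ φ).re = (K.index : ℝ) * ∑ θ ∈ Θ, (deg (θ : K → ℂ) : ℝ) ^ 2 := by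
  classical
  rw [Finset.mul_sum]
  refine Finset.sum_image' _ fun θ hθ => ?_
  rw [fiber_sum θ.2, Finset.mul_sum]
  refine Finset.sum_congr ?_ fun _ _ => rfl
  ext η
  simp only [Finset.mem_filter, Finset.mem_univ, true_and]
  exact ⟨fun h => ⟨hcl θ hθ η h, h⟩, fun h => h.2⟩

theorem fiber_above (A : Subgroup L) [A.Normal] {θ η : Cfsg.IrrCharacter K}
    (h : Cfsg.indFun K (η : K → ℂ) = Cfsg.indFun K (θ : K → ℂ))
    (hA : ∀ a : K, (a : L) ∈ A → (θ : K → ℂ) a = (θ : K → ℂ) 1) :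
    ∀ a : K, (a : L) ∈ A → (η : K → ℂ) a = (η : K → ℂ) 1 := by
  classical
  obtain ⟨g, hg⟩ : ∃ g : L, conjN K g (θ : K → ℂ) = (η : K → ℂ) := by
    by_contra hno
    have h0 := classInner_indFun_eq_card K θ.2 η.2
    haveI : IsEmpty {g : L // conjN K g (θ : K → ℂ) = (η : K → ℂ)} := ⟨fun g => hno ⟨g.1, g.2⟩⟩
    have h0' := classInner_indFun_eq_card K θ.2 θ.2
    have he : Nat.card {g : L // conjN K g (θ : K → ℂ) = (η : K → ℂ)} = 0 := Nat.card_of_isEmpty
    rw [h, h0', he, Nat.cast_inj] at h0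
    haveI : Nonempty {g : L // conjN K g (θ : K → ℂ) = (θ : K → ℂ)} := ⟨⟨1, conjN_one K _⟩⟩
    exact Nat.card_pos.ne' h0
  intro a ha
  rw [← hg, conjN]
  show (θ : K → ℂ) ⟨g * a * g⁻¹, _⟩ = (θ : K → ℂ) ⟨g * (1 : K) * g⁻¹, _⟩
  have e1 : (⟨g * (1 : K) * g⁻¹, Subgroup.Normal.conj_mem inferInstance _ (1 : K).2 g⟩ : K) = 1 :=
    Subtype.ext (by simp)
  rw [e1]
  exact hA _ (Subgroup.Normal.conj_mem inferInstance _ ha g)

/-- The complement of `S(Z)` consists of the irreducible characters nontrivial on `Z`. -/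
theorem diff_eq (Z : Subgroup L) [Z.Normal] (hZK : Z ≤ K)
    (hirr : ∀ χ ∈ Cfsg.inducedIrrAbove K ⊥ \ Cfsg.inducedIrrAbove K Z, Cfsg.IsIrrCharacter L χ) :
    Cfsg.inducedIrrAbove K ⊥ \ Cfsg.inducedIrrAbove K Z =
      {χ | Cfsg.IsIrrCharacter L χ ∧ ∃ z ∈ Z, χ z ≠ χ 1} := by
  classical
  ext χ
  constructor
  · intro h
    refine ⟨hirr χ h, ?_⟩
    obtain ⟨θ, hθ, h1, -, rfl⟩ := h.1
    by_contra hno
    push Not at hno
    refine h.2 ⟨θ, hθ, h1, fun a ha => ?_, rfl⟩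
    have hres := IsCharacter.restrict (IsCharacter.indFun (G := L) (isCharacter_of_irr hθ)) K
    refine constituent_const hres hθ ?_ (hno a ha)
    rw [← frobenius_reciprocity' K θ (isClassFunction_indFun K θ),
      classInner_self_irr (hirr _ h)]
    exact one_ne_zero
  · rintro ⟨hχ, z, hz, hne⟩
    obtain ⟨θ, hθ, hc⟩ := exists_constituent K (isCharacter_of_irr hχ) (IsIrrCharacter.apply_one_ne_zero hχ)
    have hnt : ¬ ∀ a : K, (a : L) ∈ Z → θ a = θ 1 := by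
      intro hA
      refine hne ?_
      obtain ⟨m, hm⟩ := IsCharacter.exists_decomp (IsCharacter.restrict (isCharacter_of_irr hχ) K)
      have hall : ∀ ψ : Cfsg.IrrCharacter K, m ψ ≠ 0 → (ψ : K → ℂ) ⟨z, hZK hz⟩ = (ψ : K → ℂ) 1 := by
        intro ψ hψ
        have hψc : Cfsg.classInner (fun n : K => χ n) (ψ : K → ℂ) ≠ 0 := by
          rw [hm]
          simp only [← Nat.cast_smul_eq_nsmul ℂ]
          rw [classInner_irrSum (fun ψ => (m ψ : ℂ)) ψ]
          exact_mod_cast hψ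
        obtain ⟨g, hg⟩ := exists_conjN_of_constituents K hχ hθ ψ.2 hc hψc
        exact fiber_above Z (θ := ⟨θ, hθ⟩) (η := ψ) (by rw [hg]; exact indFun_conjN K g θ) hA _ hz
      have h1 := congrFun hm ⟨z, hZK hz⟩
      have h2 := congrFun hm 1
      simp only [Finset.sum_apply, OneMemClass.coe_one] at h1 h2
      rw [h1, h2]
      refine Finset.sum_congr rfl fun ψ _ => ?_
      by_cases hψ : m ψ = 0
      · simp [hψ]
      · simp only [Pi.smul_apply, hall ψ hψ]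
    have hmem : Cfsg.indFun K θ ∈ Cfsg.inducedIrrAbove K ⊥ \ Cfsg.inducedIrrAbove K Z := by
      refine ⟨⟨θ, hθ, fun h1 => hnt fun a _ => by rw [h1],
        fun a ha => by rw [show a = 1 from Subtype.ext (Subgroup.mem_bot.mp ha)], rfl⟩, ?_⟩
      rintro ⟨η, hη, -, hA, he⟩
      exact hnt (fiber_above Z (θ := ⟨η, hη⟩) (η := ⟨θ, hθ⟩) he hA)
    have heq : Cfsg.indFun K θ = χ := by
      by_contra hne'
      have h1 := classInner_irrChar (hirr _ hmem) hχ
      rw [if_neg hne', frobenius_reciprocity K θ (isClassFunction_isChar (isCharacter_of_irr hχ)),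
        ← classInner_conj_symm, map_eq_zero] at h1
      exact hc h1
    exact heq ▸ hmem

theorem coherent_central (hsolv : Group.IsSolvable K)
    (hS : Cfsg.IsCoherenceSystem (Cfsg.inducedIrrAbove K ⊥) τ R) (hodd : Odd (Nat.card L))
    (hnil : Group.IsNilpotent K) (hH₁K : ⁅K, K⁆ < K)
    (hfrob : ∀ k ∈ K, k ∉ ⁅K, K⁆ → ∀ x : L, x * k * x⁻¹ * k⁻¹ ∈ ⁅K, K⁆ → x ∈ K)
    (Z : Subgroup L) [Z.Normal] (hZ1 : Z ≠ ⊥) (hZK : Z ≤ K) (hZc : ∀ z ∈ Z, ∀ k ∈ K, z * k = k * z)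
    (hirr : ∀ χ ∈ Cfsg.inducedIrrAbove K ⊥ \ Cfsg.inducedIrrAbove K Z, Cfsg.IsIrrCharacter L χ) :
    Cfsg.IsCoherent (Cfsg.inducedIrrAbove K ⊥ \ Cfsg.inducedIrrAbove K Z) {1}ᶜ τ := by
  classical
  set e := K.index with he
  have he0 : 0 < e := Nat.pos_of_ne_zero K.index_ne_zero_of_finite
  set ZK := Z.subgroupOf K with hZK'
  set Θ := Finset.univ.filter (fun θ : Cfsg.IrrCharacter K =>
    ¬ ∀ a ∈ ZK, (θ : K → ℂ) a = (θ : K → ℂ) 1) with hΘ
  set I : Finset (Cfsg.IrrCharacter K) → Finset (L → ℂ) := fun s =>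
    s.image fun θ : Cfsg.IrrCharacter K => Cfsg.indFun K (θ : K → ℂ) with hI
  have hclΘ : ∀ θ ∈ Θ, ∀ η : Cfsg.IrrCharacter K,
      Cfsg.indFun K (η : K → ℂ) = Cfsg.indFun K (θ : K → ℂ) → η ∈ Θ := by
    intro θ hθ η h
    refine Finset.mem_filter.mpr ⟨Finset.mem_univ _, fun hA => (Finset.mem_filter.mp hθ).2 fun a ha => ?_⟩
    exact fiber_above Z (θ := η) (η := θ) h.symm (fun a ha => hA a (Subgroup.mem_subgroupOf.mpr ha)) a
      (Subgroup.mem_subgroupOf.mp ha)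
  have hset : (↑(I Θ) : Set (L → ℂ)) = Cfsg.inducedIrrAbove K ⊥ \ Cfsg.inducedIrrAbove K Z := by
    ext φ
    simp only [hI, Finset.coe_image, Set.mem_image, Finset.mem_coe]
    constructor
    · rintro ⟨θ, hθ, rfl⟩
      refine ⟨⟨θ, θ.2, fun h1 => (Finset.mem_filter.mp hθ).2 fun a _ => by rw [h1],
        fun a ha => by rw [show a = 1 from Subtype.ext (Subgroup.mem_bot.mp ha)], rfl⟩, ?_⟩
      rintro ⟨η, hη, -, hA, he'⟩
      exact (Finset.mem_filter.mp hθ).2 fun a ha => fiber_above Z (θ := ⟨η, hη⟩) (η := θ) he' hA a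
        (Subgroup.mem_subgroupOf.mp ha)
    · rintro ⟨⟨θ, hθ, h1, -, rfl⟩, hnot⟩
      refine ⟨⟨θ, hθ⟩, Finset.mem_filter.mpr ⟨Finset.mem_univ _, fun hA => hnot ⟨θ, hθ, h1, fun a ha =>
        hA a (Subgroup.mem_subgroupOf.mpr ha), rfl⟩⟩, rfl⟩
  have hsubS : Cfsg.inducedIrrAbove K ⊥ \ Cfsg.inducedIrrAbove K Z ⊆ Cfsg.inducedIrrAbove K ⊥ := Set.diff_subset
  have hconj : ∀ φ ∈ Cfsg.inducedIrrAbove K ⊥ \ Cfsg.inducedIrrAbove K Z,
      Cfsg.conjFun φ ∈ Cfsg.inducedIrrAbove K ⊥ \ Cfsg.inducedIrrAbove K Z := fun φ hφ =>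
    ⟨conj_mem_above ⊥ hφ.1, fun h => hφ.2 (by
      simpa [Cfsg.Lib.Coherence.conjFun_conjFun] using conj_mem_above Z h)⟩
  -- the set is not empty
  have hcardK : ∑ θ ∈ Θ, deg (θ : K → ℂ) ^ 2 + ZK.index = Nat.card K := by
    rw [← sum_deg_sq_above ZK, ← sum_deg_sq_nat (G := K), add_comm]
    exact Finset.sum_filter_add_sum_filter_not Finset.univ _ _
  have hZK1 : 1 < Nat.card ZK := by
    haveI : Nontrivial Z := (Subgroup.nontrivial_iff_ne_bot Z).mpr hZ1
    rw [Nat.card_congr (Subgroup.subgroupOfEquivOfLe hZK).toEquiv]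
    exact Finite.one_lt_card
  have hidx : ZK.index < Nat.card K := by
    rw [← ZK.card_mul_index]
    exact lt_mul_of_one_lt_left (Nat.pos_of_ne_zero ZK.index_ne_zero_of_finite) hZK1
  have hne : Θ.Nonempty := by
    rw [Finset.nonempty_iff_ne_empty]
    intro h
    rw [h, Finset.sum_empty] at hcardK
    omega
  by_cases hp : ¬ ∃ p m : ℕ, p.Prime ∧ Nat.card K = p ^ m
  · -- all of `S` is coherent
    haveI : ((⊥ : Subgroup L).subgroupOf K).Normal := inferInstance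
    obtain ⟨-, τ₁, hτ₁, hag⟩ := coherent_kernel (M := ⊥) hsolv hS hodd bot_le inferInstance ⁅K, K⁆
      (sup_bot_eq _).symm hH₁K hfrob (Or.inr (Or.inr (Or.inl (by rwa [Subgroup.relIndex_bot_left]))))
    obtain ⟨θ, hθ⟩ := hne
    have hφ : Cfsg.indFun K (θ : K → ℂ) ∈ Cfsg.inducedIrrAbove K ⊥ \ Cfsg.inducedIrrAbove K Z := by
      rw [← hset]; exact Finset.mem_coe.mpr (Finset.mem_image_of_mem _ hθ)
    refine ⟨⟨_ - Cfsg.conjFun (Cfsg.indFun K (θ : K → ℂ)), Cfsg.Lib.Coherence.mem_one.mpr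
        ⟨(Submodule.span ℤ _).sub_mem (Cfsg.Lib.Coherence.subset_zspan hφ)
          (Cfsg.Lib.Coherence.subset_zspan (hconj _ hφ)), by
          simp [Cfsg.Lib.Coherence.conj_apply_one (hS.isCharacter _ (hsubS hφ))]⟩,
        sub_ne_zero.mpr (hS.conj_ne _ (hsubS hφ)).symm⟩, τ₁, ?_, fun α hα => hag α
        (Cfsg.Lib.Coherence.zspanOn_mono hsubS hα)⟩
    exact ⟨fun α hα β hβ => hτ₁.1 α (Cfsg.Lib.Coherence.zspan_mono hsubS hα) β
        (Cfsg.Lib.Coherence.zspan_mono hsubS hβ),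
      fun α hα => hτ₁.2.1 α (Cfsg.Lib.Coherence.zspan_mono hsubS hα),
      fun α hα β hβ => hτ₁.2.2.1 α (Cfsg.Lib.Coherence.zspan_mono hsubS hα) β
        (Cfsg.Lib.Coherence.zspan_mono hsubS hβ),
      fun α hα => hτ₁.2.2.2 α (Cfsg.Lib.Coherence.zspan_mono hsubS hα)⟩
  push Not at hp
  obtain ⟨p, m, hp, hKp⟩ := hp
  haveI : Fact p.Prime := ⟨hp⟩
  -- `p` does not divide the index
  have hm0 : m ≠ 0 := by
    rintro rfl
    rw [pow_zero] at hKp
    have := ZK.index_ne_zero_of_finite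
    omega
  have hp3 : 3 ≤ p := by
    have h2 : Odd p := hodd.of_dvd_nat ((hKp ▸ dvd_pow_self p hm0).trans (Subgroup.card_subgroup_dvd_card K))
    rcases h2 with ⟨c, hc⟩
    have := hp.two_le
    omega
  have hpe : Nat.Coprime p e := by
    refine hp.coprime_iff_not_dvd.mpr fun hpd => ?_
    set H₁ := ⁅K, K⁆
    set π := QuotientGroup.mk' H₁
    have hπ := QuotientGroup.mk'_surjective H₁
    haveI : (K.map π).Normal := Subgroup.Normal.map inferInstance π hπ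
    letI : Fintype (L ⧸ H₁) := Fintype.ofFinite _
    have hind : (K.map π).index = e := by
      rw [he, ← (K.map π).index_comap_of_surjective hπ, Subgroup.comap_map_eq, QuotientGroup.ker_mk',
        sup_eq_left.mpr hH₁K.le]
    have hC : ∀ k ∈ K.map π, k ≠ 1 → Subgroup.centralizer ({k} : Set (L ⧸ H₁)) ≤ K.map π := by
      rintro _ ⟨k, hk, rfl⟩ hk1 y hy
      obtain ⟨x, rfl⟩ := hπ y
      refine ⟨x, hfrob k hk (fun h => hk1 ((QuotientGroup.eq_one_iff k).mpr h)) x ?_, rfl⟩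
      rw [← QuotientGroup.eq_one_iff]
      show π (x * k * x⁻¹ * k⁻¹) = 1
      change π x ∈ _ at hy
      rw [map_mul, map_mul, map_mul, map_inv, map_inv, Subgroup.mem_centralizer_singleton_iff.mp hy]
      group
    have hdvd := index_dvd_card_sub_one (K.map π) (K.map π) le_rfl hC
    rw [hind, ← Subgroup.relIndex_ker, QuotientGroup.ker_mk'] at hdvd
    obtain ⟨k, -, hk⟩ := (Nat.dvd_prime_pow hp).mp
      ((Subgroup.relIndex_dvd_card H₁ K).trans (dvd_of_eq hKp))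
    have hk0 : k ≠ 0 := fun h => hH₁K.not_ge (Subgroup.relIndex_eq_one.mp (by rw [hk, h, pow_zero]))
    have h1 : p ∣ p ^ k := dvd_pow_self p hk0
    have h2 : p ∣ p ^ k - 1 := hk ▸ hpd.trans hdvd
    have h3 := Nat.dvd_sub h1 h2
    rw [Nat.sub_sub_self (Nat.one_le_pow _ _ hp.pos)] at h3
    exact hp.not_dvd_one h3
  -- degrees
  have hpow : ∀ θ : Cfsg.IrrCharacter K, ∃ i, deg (θ : K → ℂ) = p ^ i := fun θ => by
    obtain ⟨i, -, hi⟩ := (Nat.dvd_prime_pow hp).mp ((IsIrrCharacter.deg_dvd θ.2).trans (dvd_of_eq hKp))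
    exact ⟨i, hi⟩
  have hdiv : ∀ θ : Cfsg.IrrCharacter K, deg (θ : K → ℂ) ^ 2 ∣ ZK.index := by
    intro θ
    obtain ⟨i, hi⟩ := hpow θ
    obtain ⟨j, -, hj⟩ := (Nat.dvd_prime_pow hp).mp ((Subgroup.index_dvd_card ZK).trans (dvd_of_eq hKp))
    have hle := deg_sq_le_index θ.2 ZK fun z hz g => by
      have : z * g * z⁻¹ * g⁻¹ = 1 := by
        apply Subtype.ext
        have := hZc z hz g g.2
        simp only [Subgroup.coe_mul, Subgroup.coe_inv, OneMemClass.coe_one, this]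
        group
      rw [this]
    rw [hi, ← pow_mul, hj] at hle ⊢
    exact pow_dvd_pow p ((Nat.pow_le_pow_iff_right hp.one_lt).mp hle)
  obtain ⟨θ₀, hθ₀, hmin⟩ := Θ.exists_min_image (fun θ : Cfsg.IrrCharacter K => deg (θ : K → ℂ)) hne
  set d₀ := deg (θ₀ : K → ℂ)
  set Θ' : ℕ → Finset (Cfsg.IrrCharacter K) := fun k => Θ.filter fun θ => deg (θ : K → ℂ) ≤ k with hΘ'
  have hclΘ' : ∀ k, ∀ θ ∈ Θ' k, ∀ η : Cfsg.IrrCharacter K,
      Cfsg.indFun K (η : K → ℂ) = Cfsg.indFun K (θ : K → ℂ) → η ∈ Θ' k := by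
    intro k θ hθ η h
    obtain ⟨h1, h2⟩ := Finset.mem_filter.mp hθ
    refine Finset.mem_filter.mpr ⟨hclΘ θ h1 η h, le_trans (le_of_eq ?_) h2⟩
    have := congrArg deg h
    rw [deg_indFun (isCharacter_of_irr η.2), deg_indFun (isCharacter_of_irr θ.2)] at this
    exact Nat.eq_of_mul_eq_mul_left he0 this
  have hIsub : ∀ k, (↑(I (Θ' k)) : Set (L → ℂ)) ⊆ Cfsg.inducedIrrAbove K ⊥ := fun k => by
    refine subset_trans ?_ hsubS
    rw [← hset]
    exact Finset.coe_subset.mpr (Finset.image_subset_image (Finset.filter_subset _ _))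
  have hIc : ∀ k, ∀ φ ∈ I (Θ' k), Cfsg.conjFun φ ∈ I (Θ' k) := by
    intro k φ hφ
    obtain ⟨θ, hθ, rfl⟩ := Finset.mem_image.mp hφ
    obtain ⟨h1, h2⟩ := Finset.mem_filter.mp hθ
    refine Finset.mem_image.mpr ⟨⟨_, IsIrrCharacter.conjugate θ.2⟩, Finset.mem_filter.mpr
      ⟨Finset.mem_filter.mpr ⟨Finset.mem_univ _, fun hA => (Finset.mem_filter.mp h1).2 fun a ha => ?_⟩, ?_⟩,
      (@Cfsg.Lib.FrobLin.conjFun_indFun _ _ _ K _ (Fintype.ofFinite _) (θ : K → ℂ)).symm⟩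
    · simpa using congrArg conj (hA a ha)
    · simpa [deg] using h2
  have hlev : ∀ k, d₀ ≤ k → Cfsg.IsCoherent (↑(I (Θ' k)) : Set (L → ℂ)) {1}ᶜ τ := by
    intro k hk
    induction k, hk using Nat.le_induction with
    | base =>
      refine Cfsg.Agent.S1517.result _ τ R (system_mono hS (hIsub d₀) ?_ fun φ hφ => hIc d₀ φ hφ) ?_
      · exact ⟨_, Finset.mem_image_of_mem _ (Finset.mem_filter.mpr ⟨hθ₀, le_rfl⟩)⟩
      · have key : ∀ φ ∈ I (Θ' d₀), φ 1 = ((e * d₀ : ℕ) : ℂ) := by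
          intro φ hφ
          obtain ⟨θ, hθ, rfl⟩ := Finset.mem_image.mp hφ
          obtain ⟨h1, h2⟩ := Finset.mem_filter.mp hθ
          rw [indFun_one, irr_apply_one_eq_deg θ, le_antisymm h2 (hmin θ h1), Nat.cast_mul]
        intro φ hφ ψ hψ
        rw [key φ hφ, key ψ hψ]
    | succ k hk ih =>
      refine coherent_extend hS (T₀ := I (Θ' k)) (T := I (Θ' (k + 1))) ?_ (hIsub _) (hIc k) (hIc _) ih
        (χ₁ := Cfsg.indFun K (θ₀ : K → ℂ))
        (Finset.mem_image_of_mem _ (Finset.mem_filter.mpr ⟨hθ₀, hk⟩)) ?_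
      · exact Finset.image_subset_image fun θ hθ => Finset.mem_filter.mpr
          ⟨(Finset.mem_filter.mp hθ).1, (Finset.mem_filter.mp hθ).2.trans k.le_succ⟩
      intro χ hχ hχ'
      obtain ⟨θ, hθ, rfl⟩ := Finset.mem_image.mp hχ
      obtain ⟨h1, h2⟩ := Finset.mem_filter.mp hθ
      have hd : deg (θ : K → ℂ) = k + 1 := by
        refine le_antisymm h2 (Nat.lt_of_not_le fun h => hχ' ?_)
        exact Finset.mem_image_of_mem _ (Finset.mem_filter.mpr ⟨h1, h⟩)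
      obtain ⟨j, hj⟩ := hpow θ
      obtain ⟨i, hi⟩ := hpow θ₀
      have hij : i < j := (Nat.pow_lt_pow_iff_right hp.one_lt).mp (by rw [← hi, ← hj, hd]; omega)
      rw [deg_indFun (isCharacter_of_irr θ.2), deg_indFun (isCharacter_of_irr θ₀.2)]
      refine ⟨Nat.mul_dvd_mul_left e (by rw [hi, hj]; exact pow_dvd_pow p hij.le), ?_⟩
      rw [sum_ratio_image _ (hclΘ' k)]
      set lo := ∑ η ∈ Θ' k, deg (η : K → ℂ) ^ 2 with hlo
      -- divisibility by the square of the degree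
      have hd2 : deg (θ : K → ℂ) ^ 2 ∣ lo := by
        have hup : deg (θ : K → ℂ) ^ 2 ∣ ∑ η ∈ Θ.filter (fun η : Cfsg.IrrCharacter K => ¬ deg (η : K → ℂ) ≤ k),
            deg (η : K → ℂ) ^ 2 := Finset.dvd_sum fun η hη => by
          obtain ⟨l, hl⟩ := hpow η
          have hgt := (Finset.mem_filter.mp hη).2
          rw [hj, hl]
          refine pow_dvd_pow_of_dvd (pow_dvd_pow p ?_) 2
          exact (Nat.pow_le_pow_iff_right hp.one_lt).mp (by rw [← hj, ← hl, hd]; omega)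
        have htot : deg (θ : K → ℂ) ^ 2 ∣ ∑ η ∈ Θ, deg (η : K → ℂ) ^ 2 := by
          have : ∑ η ∈ Θ, deg (η : K → ℂ) ^ 2 = Nat.card K - ZK.index := by omega
          rw [this]
          exact Nat.dvd_sub ((hdiv θ).trans (Subgroup.index_dvd_card ZK)) (hdiv θ)
        rw [← Finset.sum_filter_add_sum_filter_not Θ (fun η : Cfsg.IrrCharacter K => deg (η : K → ℂ) ≤ k)] at htot
        exact (Nat.dvd_add_left hup).mp htot
      -- divisibility by the index
      have he2 : e ∣ lo := by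
        have h := sum_ratio_image _ (hclΘ' k)
        have hL : ∑ φ ∈ I (Θ' k), (deg φ : ℝ) ^ 2 / (Cfsg.classInner φ φ).re =
            ((∑ φ ∈ I (Θ' k), deg φ ^ 2 : ℕ) : ℝ) := by
          push_cast
          refine Finset.sum_congr rfl fun φ hφ => ?_
          have hφS : φ ∈ Cfsg.inducedIrrAbove K ⊥ \ Cfsg.inducedIrrAbove K Z := by
            rw [← hset]
            exact Finset.mem_coe.mpr (Finset.image_subset_image (Finset.filter_subset _ _) hφ)
          rw [classInner_self_irr (hirr φ hφS), Complex.one_re, div_one]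
        rw [hL] at h
        have h' : ∑ φ ∈ I (Θ' k), deg φ ^ 2 = e * lo := by
          rw [hlo]; exact_mod_cast h
        have hee : e * e ∣ ∑ φ ∈ I (Θ' k), deg φ ^ 2 := Finset.dvd_sum fun φ hφ => by
          obtain ⟨η, -, rfl⟩ := Finset.mem_image.mp hφ
          rw [deg_indFun (isCharacter_of_irr η.2)]
          exact ⟨deg (η : K → ℂ) ^ 2, by ring⟩
        rw [h'] at hee
        exact (Nat.mul_dvd_mul_iff_left he0).mp hee
      have hlo0 : 0 < lo := by
        refine lt_of_lt_of_le (pow_pos (deg_irr_pos θ₀) 2) ?_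
        exact Finset.single_le_sum (f := fun η : Cfsg.IrrCharacter K => deg (η : K → ℂ) ^ 2)
          (fun _ _ => Nat.zero_le _) (Finset.mem_filter.mpr ⟨hθ₀, hk⟩)
      have hge : e * deg (θ : K → ℂ) ^ 2 ≤ lo := Nat.le_of_dvd hlo0
        (Nat.Coprime.mul_dvd_of_dvd_of_dvd (by rw [hj, ← pow_mul]; exact (hpe.symm.pow_right _)) he2 hd2)
      have hbig : 2 * d₀ < deg (θ : K → ℂ) := by
        rw [hj, show d₀ = p ^ i from hi]
        calc 2 * p ^ i < p * p ^ i := Nat.mul_lt_mul_of_pos_right (by omega) (pow_pos hp.pos i)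
          _ = p ^ (i + 1) := (pow_succ' p i).symm
          _ ≤ p ^ j := Nat.pow_le_pow_right hp.pos hij
      have hfin : 2 * (e * deg (θ : K → ℂ)) * (e * d₀) < e * lo := by
        have h3 : 2 * deg (θ : K → ℂ) * d₀ * e < deg (θ : K → ℂ) ^ 2 * e := by
          rw [sq]
          refine Nat.mul_lt_mul_of_pos_right ?_ he0
          calc 2 * deg (θ : K → ℂ) * d₀ = deg (θ : K → ℂ) * (2 * d₀) := by ring
            _ < deg (θ : K → ℂ) * deg (θ : K → ℂ) := Nat.mul_lt_mul_of_pos_left hbig (deg_irr_pos θ)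
        calc 2 * (e * deg (θ : K → ℂ)) * (e * d₀) = e * (2 * deg (θ : K → ℂ) * d₀ * e) := by ring
          _ < e * lo := Nat.mul_lt_mul_of_pos_left (h3.trans_le (by rw [mul_comm]; exact hge)) he0
      rw [hlo] at hfin
      exact_mod_cast hfin
  have htop : Θ' (d₀ + Nat.card K) = Θ := Finset.filter_eq_self.mpr fun θ _ =>
    (Nat.le_of_dvd Nat.card_pos (IsIrrCharacter.deg_dvd θ.2)).trans (Nat.le_add_left _ _)
  have := hlev (d₀ + Nat.card K) (Nat.le_add_right _ _)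
  rwa [htop, hset] at this

end Cfsg.Lib.InducedFamily
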