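import Cfsg.Agent.Blocks.SmallDegReduction
import Cfsg.Agent.Blocks.Idem
import Cfsg.Agent.Blocks.TwoMember.BlockAlgebra
import Cfsg.Agent.Modular.Count
import Cfsg.Agent.Chars.Count

/-!
Lifting in the coprime case: an irreducible faithful representation over the residue field of a finite group
of order prime to `p` has the dimension of a faithful irreducible complex character.
-/

set_option autoImplicit false
set_option linter.unusedSectionVars false

namespace Cfsg.Lib.OddChar.CoprimeLift

open Cfsg.Lib.Blocks Cfsg.Lib.Chars Cfsg.Lib.Modular Module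
open scoped Classical ComplexConjugate

universe u

variable {G : Type u} [Group G] [Fintype G]

/-- A representation with its carrier. -/
structure Bundled (k : Type) [Field k] (G : Type u) [Group G] where
  /-- carrier -/
  carrier : Type u
  [acg : AddCommGroup carrier]
  [mod : Module k carrier]
  [fd : FiniteDimensional k carrier]
  /-- the action -/
  rep : Representation k G carrier

attribute [instance] Bundled.acg Bundled.mod Bundled.fd

/-- Trace functions of pairwise non-isomorphic irreducible representations are independent. -/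
theorem card_le_classes {k : Type} [Field k] [IsAlgClosed k] {ι : Type*} [Fintype ι]
    {N : ι → Type u} [∀ i, AddCommGroup (N i)] [∀ i, Module k (N i)] [∀ i, FiniteDimensional k (N i)]
    (ρ : ∀ i, Representation k G (N i)) (hirr : ∀ i, Irred (ρ i))
    (hne : ∀ i j, i ≠ j → ¬ Iso (ρ i) (ρ j)) : Fintype.card ι ≤ Nat.card (ConjClasses G) := by
  let Φ : (ι → k) →ₗ[k] (ConjClasses G → k) :=
    { toFun := fun c C => ∑ i, c i * LinearMap.trace k (N i) (ρ i C.out)
      map_add' := fun a b => by funext C; simp [add_mul, Finset.sum_add_distrib]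
      map_smul' := fun a b => by funext C; simp [Finset.mul_sum, mul_assoc] }
  have hinj : Function.Injective Φ := by
    rw [injective_iff_map_eq_zero]
    intro c hc
    have hcl : ∀ g, ∑ i, c i * LinearMap.trace k (N i) (ρ i g) = 0 := fun g => by
      rw [← show _ = (0 : k) from congrFun hc (ConjClasses.mk g)]
      refine Finset.sum_congr rfl fun i _ => ?_
      have hm : ConjClasses.mk ((ConjClasses.mk g).out) = ConjClasses.mk g := Quotient.out_eq _
      obtain ⟨a, ha⟩ := isConj_iff.1 (ConjClasses.mk_eq_mk_iff_isConj.1 hm)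
      congr 1
      calc LinearMap.trace k (N i) (ρ i g)
          = LinearMap.trace k (N i) (ρ i (a * (ConjClasses.mk g).out) * ρ i a⁻¹) := by rw [← map_mul, ha]
        _ = LinearMap.trace k (N i) (ρ i a⁻¹ * ρ i (a * (ConjClasses.mk g).out)) := LinearMap.trace_mul_comm k _ _
        _ = _ := by rw [← map_mul, inv_mul_cancel_left]
    let θ : ∀ i, MonoidAlgebra k G →ₗ[k] k := fun i =>
      (LinearMap.trace k (N i)).comp (ρ i).asAlgebraHom.toLinearMap
    have hall0 : ∀ x : MonoidAlgebra k G, ∑ i, c i * θ i x = 0 := by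
      intro x
      induction x using MonoidAlgebra.induction_on with
      | of g =>
        simp only [θ, LinearMap.comp_apply, AlgHom.toLinearMap_apply, Representation.asAlgebraHom_of]
        exact hcl g
      | add x y hx hy => simp only [map_add, mul_add, Finset.sum_add_distrib, hx, hy, add_zero]
      | smul a x hx =>
        simp only [map_smul, smul_eq_mul, mul_left_comm _ a, ← Finset.mul_sum, hx, mul_zero]
    funext i
    haveI := (hirr i).nontrivial
    let b := Module.finBasis k (N i)
    have hpos : 0 < Module.finrank k (N i) := Module.finrank_pos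
    obtain ⟨x, hx⟩ := density hirr hne fun j => if h : j = i then
      h.symm ▸ ((b.coord ⟨0, hpos⟩).smulRight (b ⟨0, hpos⟩)) else 0
    have h1 := hall0 x
    rw [Finset.sum_eq_single i] at h1
    · have h2 := hx i
      rw [dif_pos rfl] at h2
      simp only [θ, LinearMap.comp_apply, AlgHom.toLinearMap_apply, h2, LinearMap.trace_smulRight,
        Module.Basis.coord_apply, Module.Basis.repr_self, Finsupp.single_eq_same, mul_one] at h1
      exact h1
    · intro j _ hj
      have h2 := hx j
      rw [dif_neg hj] at h2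
      simp [θ, h2]
    · simp
  haveI : Fintype (ConjClasses G) := Fintype.ofFinite _
  have h := LinearMap.finrank_le_finrank_of_injective hinj
  rw [Module.finrank_fintype_fun_eq_card, Module.finrank_fintype_fun_eq_card] at h
  rwa [Nat.card_eq_fintype_card]

/-- In the coprime case the irreducible representations separate the group algebra. -/
theorem eq_zero_of_kills {k : Type} [Field k] (hG : (Fintype.card G : k) ≠ 0)
    {a : MonoidAlgebra k G}
    (h : ∀ (N : Type u) [AddCommGroup N] [Module k N] [FiniteDimensional k N]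
      (σ : Representation k G N), Irred σ → σ.asAlgebraHom a = 0) : a = 0 := by
  by_contra ha
  obtain ⟨g, hg⟩ : ∃ g, fn a g ≠ 0 := by
    by_contra hall
    push Not at hall
    exact ha (fn_ext fun g => by rw [hall g]; simp [fn])
  set b := a * MonoidAlgebra.single g⁻¹ (1 : k)
  have hnil : IsNilpotent b := isNilpotent_of_kills fun N _ _ _ σ hσ => by
    rw [map_mul, h N σ hσ, zero_mul]
  let L : Module.End k (MonoidAlgebra k G) := LinearMap.mulLeft k b
  have hLnil : IsNilpotent L := hnil.map (Algebra.lmul k (MonoidAlgebra k G)).toRingHom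
  have htr := (LinearMap.isNilpotent_trace_of_isNilpotent hLnil).eq_zero
  rw [LinearMap.trace_eq_matrix_trace k (MonoidAlgebra.basis G k), Matrix.trace] at htr
  have hdiag : ∀ x : G, (LinearMap.toMatrix (MonoidAlgebra.basis G k) (MonoidAlgebra.basis G k) L).diag x =
      fn b 1 := by
    intro x
    rw [Matrix.diag_apply, LinearMap.toMatrix_apply]
    show fn (b * MonoidAlgebra.single x 1) x = _
    rw [fn_mul_single, mul_inv_cancel, mul_one]
  rw [Finset.sum_congr rfl fun x _ => hdiag x, Finset.sum_const, Finset.card_univ, nsmul_eq_mul] at htr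
  have hb : fn b 1 = fn a g := by rw [fn_mul_single, one_mul, inv_inv, mul_one]
  rw [hb] at htr
  exact mul_ne_zero hG hg htr

variable {p : ℕ} {M : Ideal AlgInt}

/-- The shift representation in coordinates. -/
noncomputable def shiftRep (k : Type) [Field k] (G : Type u) [Group G] [Fintype G] (n : ℕ) :
    Representation k G (G × Fin n → k) := shiftFun k n

theorem shiftRep_algebra_apply (k : Type) [Field k] (n : ℕ) (a : MonoidAlgebra k G) (f : G × Fin n → k)
    (x : G × Fin n) : (shiftRep k G n).asAlgebraHom a f x = ∑ g, fn a g * f (x.1 * g, x.2) := by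
  conv_lhs => rw [eq_sum_single a, map_sum, LinearMap.sum_apply, Finset.sum_apply]
  exact Finset.sum_congr rfl fun g _ => by
    rw [Representation.asAlgebraHom_single, LinearMap.smul_apply, Pi.smul_apply, smul_eq_mul]; rfl

theorem coeffMap_algebra {n : ℕ} (ρ : Representation ℂ G (Fin n → ℂ)) (a : MonoidAlgebra ℂ G) (w : Fin n → ℂ) :
    (shiftRep ℂ G n).asAlgebraHom a (coeffMap ρ w) = coeffMap ρ (ρ.asAlgebraHom a w) := by
  conv_lhs => rw [eq_sum_single a, map_sum, LinearMap.sum_apply]
  conv_rhs => rw [eq_sum_single a, map_sum, LinearMap.sum_apply, map_sum]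
  exact Finset.sum_congr rfl fun g _ => by
    rw [Representation.asAlgebraHom_single, LinearMap.smul_apply, Representation.asAlgebraHom_single,
      LinearMap.smul_apply, map_smul]
    exact congrArg (fn a g • ·) (shiftFun_coeffMap ρ g w)

/-- An irreducible invariant subspace. -/
theorem exists_irred_sub {k : Type*} [Field k] {H : Type*} [Group H] {V : Type*} [AddCommGroup V] [Module k V]
    [FiniteDimensional k V] [Nontrivial V] (σ : Representation k H V) :
    ∃ (U : Submodule k V) (hU : ∀ g, ∀ v ∈ U, σ g v ∈ U), Irred (subRep σ U hU) := by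
  let T : Set (Submodule k V) := {U | U ≠ ⊥ ∧ ∀ g, ∀ v ∈ U, σ g v ∈ U}
  obtain ⟨U, ⟨hU0, hU⟩, hmin⟩ := (wellFounded_lt (α := Submodule k V)).has_min T
    ⟨⊤, top_ne_bot, fun g v _ => Submodule.mem_top⟩
  refine ⟨U, hU, ⟨Submodule.nontrivial_iff_ne_bot.2 hU0, fun Y hY => ?_⟩⟩
  by_cases hY0 : Y = ⊥
  · exact Or.inl hY0
  refine Or.inr ?_
  have hmap : Y.map U.subtype ∈ T := by
    refine ⟨fun h => hY0 (Submodule.map_injective_of_injective U.subtype_injective (h.trans (Submodule.map_bot U.subtype).symm)) , ?_⟩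
    rintro g _ ⟨v, hv, rfl⟩
    exact ⟨subRep σ U hU g v, hY g v hv, rfl⟩
  have hle : Y.map U.subtype ≤ U := by
    rintro _ ⟨v, -, rfl⟩
    exact v.2
  have heq : Y.map U.subtype = U := hle.eq_or_lt.resolve_right (hmin _ hmap)
  refine Submodule.eq_top_iff'.2 fun v => ?_
  have hv : (v : V) ∈ Y.map U.subtype := heq.symm ▸ v.2
  obtain ⟨w, hw, e⟩ := hv
  exact Subtype.ext e ▸ hw

-- Coprime lifting: dimension and faithfulness.
set_option maxHeartbeats 1000000 in
theorem exists_character [Fact p.Prime] (hM : IsPModular p M) (hcop : ¬ p ∣ Nat.card G) {V : Type u}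
    [AddCommGroup V] [Module (Res M) V] [FiniteDimensional (Res M) V] (σ : Representation (Res M) G V)
    (hσ : Irred σ) (hinj : Function.Injective σ) :
    ∃ ψ : Cfsg.IrrCharacter G, deg (ψ : G → ℂ) = finrank (Res M) V ∧
      ∀ g, (ψ : G → ℂ) g = (ψ : G → ℂ) 1 → g = 1 := by
  haveI := Cfsg.Lib.Blocks.TwoMember.isAlgClosed_res M
  haveI := charP_res hM
  choose n ρ hρirr hρ using fun ψ : Cfsg.IrrCharacter G => ψ.2
  have hdeg : ∀ ψ : Cfsg.IrrCharacter G, deg (ψ : G → ℂ) = n ψ := fun ψ => by
    rw [← hρ ψ, deg_character, Module.finrank_fintype_fun_eq_card, Fintype.card_fin]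
  have hcard : IsUnitAt M (Nat.card G : ℂ) := isUnitAt_natCast hM hcop
  set e : Cfsg.IrrCharacter G → MonoidAlgebra ℂ G := fun ψ => blockElem {ψ}
  have heint : ∀ ψ, Integral M (e ψ) := fun ψ g => by
    rw [show e ψ = blockElem {ψ} from rfl, fn_blockElem, blockCoeff_eq_sum]
    refine mul_mem hcard.inv.mem_place (sum_mem fun χ _ => mul_mem ?_ ?_)
    · exact isIntegral_mem_place hM (IsCharacter.isIntegral (isCharacter_of_irr χ.2) 1)
    · rw [← IsCharacter.conj_inv (isCharacter_of_irr χ.2)]
      exact isIntegral_mem_place hM (IsCharacter.isIntegral (isCharacter_of_irr χ.2) g⁻¹)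
  have heρ : ∀ ψ φ, (ρ φ).asAlgebraHom (e ψ) = if φ = ψ then LinearMap.id else 0 := by
    intro ψ φ
    haveI := hρirr φ
    obtain ⟨c, hc⟩ := schur_scalar (ρ φ) ((ρ φ).asAlgebraHom (e ψ)) fun g v => by
      have := congrArg (fun z => (ρ φ).asAlgebraHom z v) ((isCentralFn_blockElem {ψ}).single_comm g)
      simp only [map_mul, Module.End.mul_apply, Representation.asAlgebraHom_single_one] at this
      exact this.symm
    have h1 : chiEval (φ : G → ℂ) (e ψ) = c * (φ : G → ℂ) 1 := by
      rw [← hρ φ, ← trace_asAlgebraHom, hc, map_smul, LinearMap.trace_id, Representation.char_one,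
        smul_eq_mul]
    have h2 : c = if φ ∈ ({ψ} : Set (Cfsg.IrrCharacter G)) then 1 else 0 := by
      rw [← omega_blockElem, omega, show blockElem {ψ} = e ψ from rfl, h1,
        mul_div_assoc, div_self (IsIrrCharacter.apply_one_ne_zero φ.2), mul_one]
    rw [hc, h2]
    split_ifs <;> simp_all
  -- the reductions
  set W : ∀ ψ : Cfsg.IrrCharacter G, Submodule (Res M) (G × Fin (n ψ) → Res M) :=
    fun ψ => redSub M (LinearMap.range (coeffMap (ρ ψ))) with hW
  have hst : ∀ ψ g, ∀ v ∈ W ψ, shiftRep (Res M) G (n ψ) g v ∈ W ψ := by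
    rintro ψ g _ ⟨x, ⟨w, rfl⟩, hxi, rfl⟩
    exact ⟨_, ⟨ρ ψ g w, (shiftFun_coeffMap (ρ ψ) g w).symm⟩, fun i => hxi _, rfl⟩
  have hact : ∀ ψ φ, ∀ v ∈ W φ, (shiftRep (Res M) G (n φ)).asAlgebraHom (red M (e ψ)) v =
      if φ = ψ then v else 0 := by
    rintro ψ φ _ ⟨x, ⟨w, rfl⟩, hxi, rfl⟩
    funext i
    rw [shiftRep_algebra_apply]
    simp only [fn_red, resVec]
    rw [Finset.sum_congr rfl fun g _ => (res_mul (heint ψ g) (hxi _)).symm,
      ← res_sum _ _ fun g _ => mul_mem (heint ψ g) (hxi _), ← shiftRep_algebra_apply, coeffMap_algebra,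
      heρ]
    split_ifs with h
    · rfl
    · simp [coeffMap]
  have hnt : ∀ ψ, Nontrivial (W ψ) := fun ψ => by
    refine Module.nontrivial_of_finrank_pos (R := Res M) ?_
    rw [hW, finrank_redSub, LinearMap.finrank_range_of_inj (coeffMap_injective (ρ ψ)),
      finrank_fintype_fun_eq_card, Fintype.card_fin, ← hdeg]
    exact deg_irr_pos ψ
  choose U hU hUirr using fun ψ => @exists_irred_sub (Res M) _ G _ _ _ _ _ (hnt ψ)
    (subRep (shiftRep (Res M) G (n ψ)) (W ψ) (hst ψ))
  let τ : ∀ ψ, Representation (Res M) G (U ψ) :=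
    fun ψ => subRep (subRep (shiftRep (Res M) G (n ψ)) (W ψ) (hst ψ)) (U ψ) (hU ψ)
  have hτdim : ∀ ψ, finrank (Res M) (U ψ) ≤ n ψ := fun ψ => by
    refine (Submodule.finrank_le _).trans ?_
    rw [hW, finrank_redSub, LinearMap.finrank_range_of_inj (coeffMap_injective (ρ ψ)),
      finrank_fintype_fun_eq_card, Fintype.card_fin]
  have hcoe : ∀ ψ (a : MonoidAlgebra (Res M) G) (v : U ψ),
      (((τ ψ).asAlgebraHom a v : U ψ) : W ψ).1 =
        (shiftRep (Res M) G (n ψ)).asAlgebraHom a ((v : W ψ).1) := by
    intro ψ a v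
    induction a using MonoidAlgebra.induction_on with
    | of g => rw [Representation.asAlgebraHom_of, Representation.asAlgebraHom_of]; rfl
    | add x y hx hy => simp only [map_add, LinearMap.add_apply, Submodule.coe_add, hx, hy]
    | smul c x hx => simp only [map_smul, LinearMap.smul_apply, SetLike.val_smul, hx]
  have hτe : ∀ ψ φ, (τ φ).asAlgebraHom (red M (e ψ)) = if φ = ψ then LinearMap.id else 0 := by
    intro ψ φ
    refine LinearMap.ext fun v => Subtype.ext (Subtype.ext ?_)
    rw [hcoe, hact ψ φ _ (v : W φ).2]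
    split_ifs <;> rfl
  have hne : ∀ ψ φ, ψ ≠ φ → ¬ Iso (τ ψ) (τ φ) := by
    rintro ψ φ hne ⟨f, hf⟩
    haveI := (hUirr ψ).nontrivial
    obtain ⟨v, hv⟩ := exists_ne (0 : U ψ)
    have hfa : ∀ a, f ((τ ψ).asAlgebraHom a v) = (τ φ).asAlgebraHom a (f v) := by
      intro a
      induction a using MonoidAlgebra.induction_on with
      | of g => rw [Representation.asAlgebraHom_of, Representation.asAlgebraHom_of]; exact hf g v
      | add x y hx hy => simp only [map_add, LinearMap.add_apply, hx, hy]
      | smul c x hx => simp only [map_smul, LinearMap.smul_apply, hx]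
    have h := hfa (red M (e ψ))
    rw [hτe, hτe, if_pos rfl, if_neg hne.symm, LinearMap.id_apply, LinearMap.zero_apply] at h
    exact hv (f.map_eq_zero_iff.1 h)
  -- every irreducible occurs
  have hall : ∀ (N : Type u) [AddCommGroup N] [Module (Res M) N] [FiniteDimensional (Res M) N]
      (μ : Representation (Res M) G N), Irred μ → ∃ ψ, Iso (τ ψ) μ := by
    intro N _ _ _ μ hμ
    by_contra hno
    push Not at hno
    let B : Option (Cfsg.IrrCharacter G) → Bundled (Res M) G := fun o => match o with
      | none => ⟨N, μ⟩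
      | some ψ => ⟨U ψ, τ ψ⟩
    have h := card_le_classes (N := fun o => (B o).carrier) (fun o => (B o).rep)
      (fun o => by cases o; exacts [hμ, hUirr _]) (by
      rintro (_ | ψ) (_ | φ) hij ⟨f, hf⟩
      · exact hij rfl
      · change N ≃ₗ[Res M] U φ at f
        refine hno φ ⟨LinearEquiv.symm f, fun g v => ?_⟩
        obtain ⟨w, rfl⟩ := f.surjective v
        have := hf g w
        show f.symm (τ φ g (f w)) = μ g (f.symm (f w))
        rw [show τ φ g (f w) = f (μ g w) from this.symm, LinearEquiv.symm_apply_apply, LinearEquiv.symm_apply_apply]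
      · exact hno ψ ⟨f, hf⟩
      · exact hne ψ φ (fun h => hij (congrArg some h)) ⟨f, hf⟩)
    rw [Fintype.card_option, ← Cfsg.Lib.Chars.card_irrCharacter, Nat.card_eq_fintype_card] at h
    omega
  -- dimensions
  have hG0 : (Fintype.card G : Res M) ≠ 0 := fun h => hcop (by
    rw [← Nat.card_eq_fintype_card] at h
    exact (res_natCast_eq_zero_iff hM _).1 h)
  let Φ : MonoidAlgebra (Res M) G →ₗ[Res M] ((ψ : Cfsg.IrrCharacter G) → Module.End (Res M) (U ψ)) :=
    LinearMap.pi fun ψ => (τ ψ).asAlgebraHom.toLinearMap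
  have hΦ : Function.Injective Φ := by
    rw [injective_iff_map_eq_zero]
    intro a ha
    refine eq_zero_of_kills hG0 fun N _ _ _ μ hμ => ?_
    obtain ⟨ψ, f, hf⟩ := hall N μ hμ
    have hfa : ∀ (b : MonoidAlgebra (Res M) G) v, f ((τ ψ).asAlgebraHom b v) = μ.asAlgebraHom b (f v) := by
      intro b v
      induction b using MonoidAlgebra.induction_on with
      | of g => rw [Representation.asAlgebraHom_of, Representation.asAlgebraHom_of]; exact hf g v
      | add x y hx hy => simp only [map_add, LinearMap.add_apply, hx, hy]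
      | smul c x hx => simp only [map_smul, LinearMap.smul_apply, hx]
    refine LinearMap.ext fun w => ?_
    obtain ⟨v, rfl⟩ := f.surjective w
    rw [← hfa, show (τ ψ).asAlgebraHom a = 0 from congrFun ha ψ, LinearMap.zero_apply, map_zero,
      LinearMap.zero_apply]
  have hsum : Fintype.card G ≤ ∑ ψ : Cfsg.IrrCharacter G, finrank (Res M) (U ψ) * finrank (Res M) (U ψ) := by
    have h := LinearMap.finrank_le_finrank_of_injective hΦ
    rw [Module.finrank_pi_fintype, Module.finrank_eq_card_basis (MonoidAlgebra.basis G (Res M))] at h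
    refine h.trans (le_of_eq (Finset.sum_congr rfl fun ψ _ => ?_))
    haveI : Module.Free (Res M) (U ψ) := Module.Free.of_divisionRing (Res M) (U ψ)
    exact Module.finrank_linearMap (Res M) (Res M) (U ψ) (U ψ)
  have hsq := sum_deg_sq_nat (G := G)
  rw [Nat.card_eq_fintype_card] at hsq
  have heq : ∀ ψ, finrank (Res M) (U ψ) = n ψ := by
    intro ψ₀
    refine le_antisymm (hτdim ψ₀) (not_lt.1 fun hlt => ?_)
    have : ∑ ψ : Cfsg.IrrCharacter G, finrank (Res M) (U ψ) * finrank (Res M) (U ψ) <
        ∑ ψ : Cfsg.IrrCharacter G, deg (ψ : G → ℂ) ^ 2 := by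
      refine Finset.sum_lt_sum (fun ψ _ => ?_) ⟨ψ₀, Finset.mem_univ _, ?_⟩
      · rw [hdeg, pow_two]; exact Nat.mul_le_mul (hτdim ψ) (hτdim ψ)
      · rw [hdeg, pow_two]; exact Nat.mul_lt_mul'' hlt hlt
    omega
  obtain ⟨ψ, f, hf⟩ := hall V σ hσ
  refine ⟨ψ, by rw [hdeg, ← heq, f.finrank_eq], fun g hg => hinj ?_⟩
  have hρg : ρ ψ g = LinearMap.id := (eq_id_of_character_eq_finrank (ρ ψ) g).mp
    ((show (ρ ψ).character g = (ρ ψ).character 1 by rw [hρ ψ]; exact hg).trans (ρ ψ).char_one)
  rw [map_one]
  refine LinearMap.ext fun w => ?_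
  obtain ⟨v, rfl⟩ := f.surjective w
  have h := hf g v
  simp only [LinearEquiv.coe_coe] at h
  rw [← h]
  show f (τ ψ g v) = f v
  congr 1
  refine Subtype.ext (Subtype.ext ?_)
  obtain ⟨x, ⟨y, rfl⟩, hxi, hxv⟩ := (v : W ψ).2
  show shiftRep (Res M) G (n ψ) g (v : W ψ).1 = (v : W ψ).1
  rw [← hxv]
  funext i
  show res M (coeffMap (ρ ψ) y (i.1 * g, i.2)) = res M (coeffMap (ρ ψ) y i)
  congr 1
  show ρ ψ (i.1 * g) y i.2 = ρ ψ i.1 y i.2
  rw [map_mul, Module.End.mul_apply, hρg, LinearMap.id_apply]

end Cfsg.Lib.OddChar.CoprimeLift
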