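import Cfsg.Agent.Chars.Extraspecial
import Cfsg.Agent.Chars.Galois

/-!
# The bound of Feit and Thompson on the degree of a character
-/

namespace Cfsg.Lib.OddChar.FeitThompsonBound

open scoped ComplexConjugate
open Cfsg.Lib.Chars Subgroup

universe u

variable {G : Type u} [Group G] [Fintype G]

/-- Averaging an irreducible character over a normal subgroup gives it back, or zero. -/
theorem avg_irr (H : Subgroup G) [H.Normal] [Fintype H] {ψ : G → ℂ}
    (hψ : Cfsg.IsIrrCharacter G ψ) :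
    (∀ g, ((Nat.card H : ℂ))⁻¹ * ∑ h : H, ψ (g * h) = ψ g) ∨
    (∀ g, ((Nat.card H : ℂ))⁻¹ * ∑ h : H, ψ (g * h) = 0) := by
  classical
  obtain ⟨n, ρ, hρ, rfl⟩ := hψ
  obtain ⟨c, hc⟩ := schur_scalar ρ (∑ h : H, ρ (h : G)) fun g v => by
    simp only [LinearMap.sum_apply, map_sum]
    refine Fintype.sum_equiv (MulAut.conjNormal g⁻¹).toEquiv _ _ fun h => ?_
    simp [map_mul]
  have hsum : ∀ g, ∑ h : H, ρ.character (g * h) = c * ρ.character g := fun g => by
    simp only [Representation.character, map_mul]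
    rw [← map_sum, ← Finset.mul_sum, hc, mul_smul_comm,
      show ρ g * (LinearMap.id : (Fin n → ℂ) →ₗ[ℂ] _) = ρ g from mul_one _, map_smul, smul_eq_mul]
  by_cases hc0 : c = 0
  · exact Or.inr fun g => by rw [hsum, hc0, zero_mul, mul_zero]
  · left
    have hfix : ∀ k : H, ρ (k : G) = 1 := fun k => by
      have h1 : (∑ h : H, ρ (h : G)) * ρ (k : G) = ∑ h : H, ρ (h : G) := by
        rw [Finset.sum_mul]
        exact Fintype.sum_equiv (Equiv.mulRight k) _ _ fun h => by simp [map_mul]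
      rw [hc, smul_mul_assoc, show (LinearMap.id : (Fin n → ℂ) →ₗ[ℂ] _) * ρ (k : G) = ρ (k : G) from
        one_mul _] at h1
      exact smul_right_injective _ hc0 h1
    intro g
    have h2 : ∀ h : H, ρ.character (g * h) = ρ.character g := fun h => by
      simp only [Representation.character, map_mul, hfix, mul_one]
    rw [Finset.sum_congr rfl fun h _ => h2 h, Finset.sum_const, Finset.card_univ, nsmul_eq_mul,
      ← Nat.card_eq_fintype_card, inv_mul_cancel_left₀ (by exact_mod_cast Nat.card_pos.ne')]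

theorem sum_norm_sq (f : G → ℂ) :
    ((∑ g, ‖f g‖ ^ 2 : ℝ) : ℂ) = (Nat.card G : ℂ) * Cfsg.classInner f f := by
  rw [classInner_self]
  push_cast
  rw [mul_inv_cancel_left₀ (by exact_mod_cast Nat.card_pos.ne')]

/-- The averaged character splits off the norm. -/
theorem norm_split (H : Subgroup G) [H.Normal] [Fintype H] {χ : G → ℂ} (hχ : Cfsg.IsCharacter G χ)
    (θ : G → ℂ) (hθ : θ = fun g => ((Nat.card H : ℂ))⁻¹ * ∑ h : H, χ (g * h))
    (hne : ∃ h ∈ H, χ h ≠ χ 1) :
    (Nat.card G : ℝ) + ∑ g, ‖θ g‖ ^ 2 ≤ ∑ g, ‖χ g‖ ^ 2 := by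
  classical
  obtain ⟨m, hm⟩ := IsCharacter.exists_decomp hχ
  let a : Cfsg.IrrCharacter G → ℕ := fun ψ =>
    if (∀ g, ((Nat.card H : ℂ))⁻¹ * ∑ h : H, (ψ : G → ℂ) (g * h) = (ψ : G → ℂ) g) then m ψ else 0
  have hχm : χ = ∑ ψ : Cfsg.IrrCharacter G, (m ψ : ℂ) • (ψ : G → ℂ) := by
    rw [hm]
    simp only [Nat.cast_smul_eq_nsmul]
  have hθa : θ = ∑ ψ : Cfsg.IrrCharacter G, (a ψ : ℂ) • (ψ : G → ℂ) := by
    rw [hθ]
    funext g
    simp only [hχm, Finset.sum_apply, Pi.smul_apply, smul_eq_mul]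
    rw [Finset.sum_comm, Finset.mul_sum]
    refine Finset.sum_congr rfl fun ψ _ => ?_
    rw [← Finset.mul_sum, mul_left_comm]
    by_cases h : ∀ g, ((Nat.card H : ℂ))⁻¹ * ∑ h : H, (ψ : G → ℂ) (g * h) = (ψ : G → ℂ) g
    · simp only [a, if_pos h, h g]
    · simp only [a, if_neg h, ((avg_irr H ψ.2).resolve_left h) g, Nat.cast_zero, zero_mul, mul_zero]
  have hle : ∀ ψ, a ψ * a ψ ≤ m ψ * m ψ := fun ψ => by
    simp only [a]; split_ifs <;> simp
  have hlt : ∃ ψ, a ψ * a ψ < m ψ * m ψ := by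
    by_contra hall
    push Not at hall
    obtain ⟨k, hk, hk1⟩ := hne
    have he : θ = χ := by
      rw [hθa, hχm]
      refine Finset.sum_congr rfl fun ψ _ => ?_
      rw [mul_self_inj (Nat.zero_le _) (Nat.zero_le _) |>.mp (le_antisymm (hle ψ) (hall ψ))]
    apply hk1
    rw [← he, hθ]
    simp only
    congr 1
    exact Fintype.sum_equiv (Equiv.mulLeft (⟨k, hk⟩ : H)) _ _ fun h => by simp
  have hsum : ∑ ψ, a ψ * a ψ + 1 ≤ ∑ ψ, m ψ * m ψ := by
    obtain ⟨ψ, hψ⟩ := hlt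
    exact Finset.sum_lt_sum (fun i _ => hle i) ⟨ψ, Finset.mem_univ _, hψ⟩
  have key : ∀ (b : Cfsg.IrrCharacter G → ℕ) (f : G → ℂ), f = ∑ ψ, (b ψ : ℂ) • (ψ : G → ℂ) →
      ∑ g, ‖f g‖ ^ 2 = (Nat.card G : ℝ) * ((∑ ψ, b ψ * b ψ : ℕ) : ℝ) := fun b f hf => by
    apply Complex.ofReal_injective
    rw [sum_norm_sq, hf, classInner_self_decomp]
    simp
  rw [key a θ hθa, key m χ hχm]
  have h1 : ((∑ ψ, a ψ * a ψ : ℕ) : ℝ) + 1 ≤ ((∑ ψ, m ψ * m ψ : ℕ) : ℝ) := by exact_mod_cast hsum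
  nlinarith [show (0 : ℝ) ≤ (Nat.card G : ℝ) from Nat.cast_nonneg _]

/-- An irreducible character is a scalar on the centre. -/
theorem center_apply {χ : G → ℂ} (hχ : Cfsg.IsIrrCharacter G χ) {z : G} (hz : z ∈ center G) :
    ‖χ z‖ = (χ 1).re := by
  obtain ⟨n, hn, h1⟩ := IsIrrCharacter.apply_one hχ
  have h := center_mul_of_irr hχ hz z⁻¹
  rw [mul_inv_cancel, IsCharacter.conj_inv (isCharacter_of_irr hχ)] at h
  rw [Complex.mul_conj, h1] at h
  have h2 : (Complex.normSq (χ z) : ℝ) = (n : ℝ) * n := by exact_mod_cast h.symm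
  rw [h1, Complex.natCast_re, Complex.norm_def, h2, Real.sqrt_mul_self (Nat.cast_nonneg _)]

theorem main_bound (H : Subgroup G) [Fintype H]
    (hab : ∀ a ∈ H, ∀ b ∈ H, a * b = b * a) (hZ : H ⊓ center G = ⊥)
    (hone : ∀ g : G, g ∉ center G → ∀ a b : G,
      centralizer ({g} : Set G) ⊓ H.map (MulAut.conj a).toMonoidHom ≠ ⊥ →
      centralizer ({g} : Set G) ⊓ H.map (MulAut.conj b).toMonoidHom ≠ ⊥ →
      H.map (MulAut.conj a).toMonoidHom = H.map (MulAut.conj b).toMonoidHom)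
    {χ : G → ℂ} (hχ : Cfsg.IsIrrCharacter G χ) (hker : ∃ h ∈ H, χ h ≠ χ 1) :
    (Nat.card H : ℝ) * (Cfsg.classInner (fun h : H => χ h) (fun _ => 1)).re ^ 2 < (χ 1).re ^ 2 := by
  classical
  obtain ⟨d, hd, h1⟩ := IsIrrCharacter.apply_one hχ
  obtain ⟨c, hc⟩ := IsCharacter.exists_mult (IsCharacter.restrict (isCharacter_of_irr hχ) H)
    (isIrrCharacter_one (G := H))
  rw [hc, Complex.natCast_re, h1, Complex.natCast_re]
  have hcsum : ((Nat.card H : ℂ))⁻¹ * ∑ h : H, χ h = c := by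
    rw [← hc, classInner_def]
    simp
  obtain ⟨h₀, hh₀, hh₀χ⟩ := hker
  have hh₀1 : h₀ ≠ 1 := fun h => hh₀χ (by rw [h])
  set N := normalizer (H : Set G) with hN
  have hHN : H ≤ N := le_normalizer
  have : Fintype N := Fintype.ofFinite _
  let H' : Subgroup N := H.subgroupOf N
  have : Fintype H' := Fintype.ofFinite _
  let eH : H' ≃* H := subgroupOfEquivOfLe hHN
  set θ : N → ℂ := fun g => ((Nat.card H' : ℂ))⁻¹ * ∑ h : H', χ ((g * (h : N) : N) : G) with hθ
  have hsplit := norm_split H' (χ := fun g : N => χ g)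
    (IsCharacter.restrict (isCharacter_of_irr hχ) N) θ hθ
    ⟨⟨h₀, hHN hh₀⟩, hh₀, hh₀χ⟩
  have hθH : ∀ (g : N), θ g = ((Nat.card H : ℂ))⁻¹ * ∑ h : H, χ ((g : G) * h) := fun g => by
    rw [hθ]
    simp only
    rw [Nat.card_congr eH.toEquiv]
    congr 1
    exact Fintype.sum_equiv eH.toEquiv _ _ fun h => rfl
  let S : N → Prop := fun g => ∃ h ∈ H, h ≠ 1 ∧ (g : G) * h = h * g
  -- off `S` the character is its average
  have hoff : ∀ g : N, ¬ S g → θ g = χ g := by
    intro g hg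
    have hinj : Function.Injective (fun h : H =>
        (⟨(g : G)⁻¹ * h * g * (h : G)⁻¹,
          H.mul_mem ((mem_normalizer_iff''.mp g.2 h).mp h.2) (H.inv_mem h.2)⟩ : H)) := by
      intro a b hab'
      have hab2 : (g : G)⁻¹ * a * g * (a : G)⁻¹ = (g : G)⁻¹ * b * g * (b : G)⁻¹ :=
        congrArg Subtype.val hab'
      by_contra hne
      refine hg ⟨(b : G)⁻¹ * a, H.mul_mem (H.inv_mem b.2) a.2, fun h => hne (Subtype.ext ?_), ?_⟩
      · exact (inv_mul_eq_one.mp h).symm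
      · have h3 : (b : G)⁻¹ * a * g = g * ((b : G)⁻¹ * a) := by
          have h4 : (a : G) * g * (a : G)⁻¹ = b * g * (b : G)⁻¹ := by
            have h5 := congrArg (fun x => (g : G) * x) hab2
            simpa only [← mul_assoc, mul_inv_cancel, one_mul] using h5
          have h6 : (a : G) * g = b * g * (b : G)⁻¹ * a := by rw [← h4, inv_mul_cancel_right]
          rw [mul_assoc, h6]
          group
        exact h3.symm
    have hsum : ∑ h : H, χ ((g : G) * h) = ∑ _h : H, χ g := by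
      symm
      refine Fintype.sum_bijective _ (Finite.injective_iff_bijective.mp hinj) _ _ fun h => ?_
      have h7 : (g : G) * ((g : G)⁻¹ * h * g * (h : G)⁻¹) = h * g * (h : G)⁻¹ := by group
      simp only [h7]
      exact (isClassFunction_isChar (isCharacter_of_irr hχ) g h).symm
    rw [hθH, hsum, Finset.sum_const, Finset.card_univ, nsmul_eq_mul, ← Nat.card_eq_fintype_card,
      inv_mul_cancel_left₀ (by exact_mod_cast Nat.card_pos.ne')]
  -- the centre times `H`
  let Z := center G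
  have : Fintype Z := Fintype.ofFinite _
  have hZN : Z ≤ N := fun z hz => mem_normalizer_iff.mpr fun h => by
    rw [← mem_center_iff.mp hz h, mul_inv_cancel_right]
  let ι : H × Z → N := fun p => ⟨p.1 * p.2, N.mul_mem (hHN p.1.2) (hZN p.2.2)⟩
  have hιinj : Function.Injective ι := by
    rintro ⟨a, z⟩ ⟨b, w⟩ hab'
    have h2 : (a : G) * z = b * w := congrArg Subtype.val hab'
    have h3 : (b : G)⁻¹ * a = w * (z : G)⁻¹ := by
      rw [eq_mul_inv_iff_mul_eq, mul_assoc, h2, inv_mul_cancel_left]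
    have h4 : (b : G)⁻¹ * a ∈ H ⊓ Z :=
      ⟨H.mul_mem (H.inv_mem b.2) a.2, h3 ▸ Z.mul_mem w.2 (Z.inv_mem z.2)⟩
    rw [hZ, mem_bot] at h4
    have h5 : a = b := Subtype.ext (inv_mul_eq_one.mp h4).symm
    rw [h5] at h2
    rw [h5, Subtype.ext (mul_left_cancel h2) (a1 := z) (a2 := w)]
  have hιS : ∀ p, S (ι p) := fun p => ⟨h₀, hh₀, hh₀1, by
    show (p.1 : G) * p.2 * h₀ = h₀ * ((p.1 : G) * p.2)
    rw [mul_assoc, ← mem_center_iff.mp p.2.2 h₀, ← mul_assoc, hab _ p.1.2 _ hh₀, mul_assoc]⟩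
  have hθι : ∀ p, ‖θ (ι p)‖ = c := by
    intro p
    have h2 : ∑ h : H, χ ((p.1 : G) * p.2 * h) = ∑ h : H, χ ((p.2 : G) * h) := by
      refine Fintype.sum_equiv (Equiv.mulLeft p.1) _ _ fun h => ?_
      rw [Equiv.coe_mulLeft, Subgroup.coe_mul, mem_center_iff.mp p.2.2 (p.1 : G), mul_assoc]
    have h3 : ∀ h : H, χ ((p.2 : G) * h) = χ (p.2 : G) / d * χ h := fun h => by
      have := center_mul_of_irr hχ p.2.2 (h : G)
      rw [h1] at this
      rw [div_mul_eq_mul_div, eq_div_iff (by exact_mod_cast hd.ne')]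
      exact this
    rw [hθH]
    show ‖_ * ∑ h : H, χ ((p.1 : G) * p.2 * h)‖ = _
    rw [h2, Finset.sum_congr rfl fun h _ => h3 h, ← Finset.mul_sum, mul_left_comm, hcsum, norm_mul,
      norm_div, center_apply hχ p.2.2, h1, Complex.natCast_re, Complex.norm_natCast,
      Complex.norm_natCast, div_self (by exact_mod_cast hd.ne'), one_mul]
  -- the sum over the non-central part of `S`
  have hSsum : (Nat.card N : ℝ) + (Nat.card H : ℝ) * Nat.card Z * (c : ℝ) ^ 2 ≤
      ∑ g ∈ Finset.univ.filter S, ‖χ g‖ ^ 2 := by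
    have h2 : ∑ p : H × Z, ‖θ (ι p)‖ ^ 2 ≤ ∑ g ∈ Finset.univ.filter S, ‖θ g‖ ^ 2 := by
      rw [← Finset.sum_image (f := fun g => ‖θ g‖ ^ 2) fun a _ b _ h => hιinj h]
      refine Finset.sum_le_sum_of_subset_of_nonneg ?_ fun i _ _ => by positivity
      intro g hg
      obtain ⟨p, -, rfl⟩ := Finset.mem_image.mp hg
      exact Finset.mem_filter.mpr ⟨Finset.mem_univ _, hιS p⟩
    rw [Finset.sum_congr rfl fun p _ => by rw [hθι p], Finset.sum_const, Finset.card_univ,
      nsmul_eq_mul, Fintype.card_prod, Nat.cast_mul, ← Nat.card_eq_fintype_card,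
      ← Nat.card_eq_fintype_card] at h2
    have h3 : ∑ g ∈ Finset.univ.filter (fun g => ¬ S g), ‖θ g‖ ^ 2 =
        ∑ g ∈ Finset.univ.filter (fun g => ¬ S g), ‖χ g‖ ^ 2 :=
      Finset.sum_congr rfl fun g hg => by rw [hoff g (Finset.mem_filter.mp hg).2]
    have h4 := Finset.sum_filter_add_sum_filter_not Finset.univ S (fun g => ‖θ g‖ ^ 2)
    have h5 := Finset.sum_filter_add_sum_filter_not Finset.univ S (fun g : N => ‖χ g‖ ^ 2)
    linarith
  have hZsum : ∑ g ∈ Finset.univ.filter (fun g : G => g ∈ Z), ‖χ g‖ ^ 2 =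
      (Nat.card Z : ℝ) * (d : ℝ) ^ 2 := by
    rw [Finset.sum_congr rfl (g := fun _ => (d : ℝ) ^ 2) fun g hg => by
        rw [center_apply hχ (Finset.mem_filter.mp hg).2, h1, Complex.natCast_re],
      Finset.sum_const, nsmul_eq_mul, ← Fintype.card_subtype, ← Nat.card_eq_fintype_card]
  have hZN' : ∑ g ∈ Finset.univ.filter (fun g : N => (g : G) ∈ Z), ‖χ g‖ ^ 2 =
      (Nat.card Z : ℝ) * (d : ℝ) ^ 2 := by
    rw [Finset.sum_congr rfl (g := fun _ => (d : ℝ) ^ 2) fun g hg => by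
        rw [center_apply hχ (Finset.mem_filter.mp hg).2, h1, Complex.natCast_re],
      Finset.sum_const, nsmul_eq_mul, ← Fintype.card_subtype, ← Nat.card_eq_fintype_card]
    congr 2
    exact Nat.card_congr (subgroupOfEquivOfLe hZN).toEquiv
  let S₀ := Finset.univ.filter fun g : N => S g ∧ (g : G) ∉ Z
  have hS₀ : (Nat.card N : ℝ) + (Nat.card H : ℝ) * Nat.card Z * (c : ℝ) ^ 2
      - (Nat.card Z : ℝ) * (d : ℝ) ^ 2 ≤ ∑ g ∈ S₀, ‖χ g‖ ^ 2 := by
    have h2 := Finset.sum_filter_add_sum_filter_not (Finset.univ.filter S)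
      (fun g : N => (g : G) ∈ Z) (fun g : N => ‖χ g‖ ^ 2)
    have h3 : ∑ g ∈ (Finset.univ.filter S).filter (fun g : N => (g : G) ∈ Z), ‖χ g‖ ^ 2 ≤
        (Nat.card Z : ℝ) * (d : ℝ) ^ 2 := by
      rw [← hZN']
      exact Finset.sum_le_sum_of_subset_of_nonneg
        (Finset.filter_subset_filter _ (Finset.filter_subset _ _)) fun i _ _ => by positivity
    rw [Finset.filter_filter, Finset.filter_filter] at h2
    rw [Finset.filter_filter] at h3
    simp only [S₀]
    linarith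
  -- conjugates
  have : Fintype (G ⧸ N) := Fintype.ofFinite _
  let conjQ : (G ⧸ N) × N → G := fun qg => qg.1.out * qg.2 * qg.1.out⁻¹
  have hcinj : Set.InjOn conjQ ↑(Finset.univ ×ˢ S₀ : Finset ((G ⧸ N) × N)) := by
    rintro ⟨q, g⟩ hg ⟨r, k⟩ hk he
    simp only [Finset.coe_product, Set.mem_prod, Finset.mem_coe, S₀, Finset.mem_filter,
      Finset.mem_univ, true_and] at hg hk
    obtain ⟨⟨a, ha, ha1, hag⟩, hgZ⟩ := hg
    obtain ⟨⟨b, hb, hb1, hbk⟩, -⟩ := hk
    have he' : q.out * g * q.out⁻¹ = r.out * k * r.out⁻¹ := he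
    have hnc : q.out * g * q.out⁻¹ ∉ Z := fun hc => hgZ (by
      have h2 := (inferInstance : Z.Normal).conj_mem _ hc q.out⁻¹
      simpa [mul_assoc] using h2)
    have hmap := hone _ hnc q.out r.out
      (fun h => by
        have h2 : q.out * a * q.out⁻¹ ∈ centralizer ({q.out * g * q.out⁻¹} : Set G) ⊓
            H.map (MulAut.conj q.out).toMonoidHom :=
          ⟨mem_centralizer_singleton_iff.mpr (by
            rw [show q.out * a * q.out⁻¹ * (q.out * g * q.out⁻¹) = q.out * (a * g) * q.out⁻¹ by group,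
              show q.out * g * q.out⁻¹ * (q.out * a * q.out⁻¹) = q.out * (g * a) * q.out⁻¹ by group,
              hag]), ⟨a, ha, rfl⟩⟩
        rw [h, mem_bot, conj_eq_one_iff] at h2
        exact ha1 h2)
      (fun h => by
        have h2 : r.out * b * r.out⁻¹ ∈ centralizer ({q.out * g * q.out⁻¹} : Set G) ⊓
            H.map (MulAut.conj r.out).toMonoidHom :=
          ⟨mem_centralizer_singleton_iff.mpr (by
            rw [he',
              show r.out * b * r.out⁻¹ * (r.out * k * r.out⁻¹) = r.out * (b * k) * r.out⁻¹ by group,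
              show r.out * k * r.out⁻¹ * (r.out * b * r.out⁻¹) = r.out * (k * b) * r.out⁻¹ by group,
              hbk]), ⟨b, hb, rfl⟩⟩
        rw [h, mem_bot, conj_eq_one_iff] at h2
        exact hb1 h2)
    have hqr : q.out⁻¹ * r.out ∈ N := mem_normalizer_iff.mpr fun h => by
      constructor
      · intro hh
        have h2 : r.out * h * r.out⁻¹ ∈ H.map (MulAut.conj q.out).toMonoidHom :=
          hmap ▸ ⟨h, hh, rfl⟩
        obtain ⟨x, hx, hx2⟩ := h2
        have hx3 : q.out * x * q.out⁻¹ = r.out * h * r.out⁻¹ := hx2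
        rw [show q.out⁻¹ * r.out * h * (q.out⁻¹ * r.out)⁻¹ = q.out⁻¹ * (r.out * h * r.out⁻¹) * q.out
          by group, ← hx3]
        simpa [mul_assoc] using hx
      · intro hh
        have h2 : r.out * h * r.out⁻¹ ∈ H.map (MulAut.conj r.out).toMonoidHom := by
          rw [← hmap]
          exact ⟨_, hh, show q.out * (q.out⁻¹ * r.out * h * (q.out⁻¹ * r.out)⁻¹) * q.out⁻¹ = _ by
            group⟩
        obtain ⟨x, hx, hx2⟩ := h2
        have hx3 : r.out * x * r.out⁻¹ = r.out * h * r.out⁻¹ := hx2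
        rwa [← mul_left_cancel (mul_right_cancel hx3)]
    have hqr' : q = r := by
      rw [← QuotientGroup.out_eq' q, ← QuotientGroup.out_eq' r]
      exact QuotientGroup.eq.mpr hqr
    subst hqr'
    exact Prod.ext rfl (Subtype.ext (mul_left_cancel (mul_right_cancel he')))
  have hall : (Nat.card Z : ℝ) * (d : ℝ) ^ 2 +
      (N.index : ℝ) * ∑ g ∈ S₀, ‖χ g‖ ^ 2 ≤ Nat.card G := by
    have h2 : ∑ g, ‖χ g‖ ^ 2 = (Nat.card G : ℝ) := by
      apply Complex.ofReal_injective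
      rw [sum_norm_sq, classInner_self_irr hχ, mul_one, Complex.ofReal_natCast]
    have h3 : (N.index : ℝ) * ∑ g ∈ S₀, ‖χ g‖ ^ 2 ≤
        ∑ g ∈ Finset.univ.filter (fun g : G => g ∉ Z), ‖χ g‖ ^ 2 := by
      have h4 : (N.index : ℝ) * ∑ g ∈ S₀, ‖χ g‖ ^ 2 =
          ∑ qg ∈ Finset.univ ×ˢ S₀, ‖χ (conjQ qg)‖ ^ 2 := by
        rw [Finset.sum_product]
        rw [Finset.sum_congr rfl (g := fun _ => ∑ g ∈ S₀, ‖χ g‖ ^ 2) fun q _ =>
          Finset.sum_congr rfl fun g _ => by
            simp only [conjQ]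
            rw [(isClassFunction_isChar (isCharacter_of_irr hχ)) (g : G) q.out]]
        rw [Finset.sum_const, nsmul_eq_mul, Finset.card_univ, ← Nat.card_eq_fintype_card]
        rfl
      rw [h4, ← Finset.sum_image (f := fun x => ‖χ x‖ ^ 2) hcinj]
      refine Finset.sum_le_sum_of_subset_of_nonneg ?_ fun i _ _ => by positivity
      intro x hx
      obtain ⟨⟨q, g⟩, hg, rfl⟩ := Finset.mem_image.mp hx
      simp only [Finset.mem_product, S₀, Finset.mem_filter, Finset.mem_univ, true_and] at hg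
      refine Finset.mem_filter.mpr ⟨Finset.mem_univ _, fun hc => hg.2 ?_⟩
      have h5 := (inferInstance : Z.Normal).conj_mem _ hc q.out⁻¹
      simpa [conjQ, mul_assoc] using h5
    have h6 := Finset.sum_filter_add_sum_filter_not Finset.univ (fun g : G => g ∈ Z)
      (fun g => ‖χ g‖ ^ 2)
    linarith
  have hidx : (Nat.card N : ℝ) * N.index = Nat.card G := by exact_mod_cast card_mul_index N
  have hr : (1 : ℝ) ≤ N.index := by
    exact_mod_cast Nat.pos_of_ne_zero (index_ne_zero_of_finite (H := N))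
  have hz : (1 : ℝ) ≤ Nat.card Z := by exact_mod_cast Nat.card_pos
  have hmul := mul_le_mul_of_nonneg_left hS₀ (le_trans zero_le_one hr)
  by_contra hcon
  push Not at hcon
  nlinarith [mul_le_mul_of_nonneg_left hcon
    (mul_nonneg (le_trans zero_le_one hr) (le_trans zero_le_one hz)),
    show (0 : ℝ) < (Nat.card Z : ℝ) * (d : ℝ) ^ 2 by positivity]

theorem second_bound (H : Subgroup G) [Fintype H]
    (hab : ∀ a ∈ H, ∀ b ∈ H, a * b = b * a) (hZ : H ⊓ center G = ⊥)
    (hone : ∀ g : G, g ∉ center G → ∀ a b : G,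
      centralizer ({g} : Set G) ⊓ H.map (MulAut.conj a).toMonoidHom ≠ ⊥ →
      centralizer ({g} : Set G) ⊓ H.map (MulAut.conj b).toMonoidHom ≠ ⊥ →
      H.map (MulAut.conj a).toMonoidHom = H.map (MulAut.conj b).toMonoidHom)
    {χ : G → ℂ} (hχ : Cfsg.IsIrrCharacter G χ) (hχ1 : χ 1 ≠ 1)
    (hnor : ∀ M : Subgroup G, M.Normal → H ≤ M → M = ⊤) :
    (Nat.card H : ℝ) < (1 + (χ 1).re) ^ 2 := by
  classical
  obtain ⟨d, hd, h1⟩ := IsIrrCharacter.apply_one hχ
  have hd2 : 2 ≤ d := by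
    rcases Nat.lt_or_ge d 2 with h | h
    · exact absurd (by rw [h1, show d = 1 by omega, Nat.cast_one]) hχ1
    · exact h
  rw [h1, Complex.natCast_re]
  set φ : G → ℂ := χ * fun g => conj (χ g) with hφ
  have hφc : Cfsg.IsCharacter G φ :=
    IsCharacter.mul (isCharacter_of_irr hχ) (IsCharacter.conjugate (isCharacter_of_irr hχ))
  obtain ⟨m, hm⟩ := IsCharacter.exists_decomp hφc
  have hm' : φ = ∑ ψ : Cfsg.IrrCharacter G, (m ψ : ℂ) • (ψ : G → ℂ) := by
    rw [hm]
    simp only [Nat.cast_smul_eq_nsmul]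
  have hm1 : m (principal G) = 1 := by
    have h2 := classInner_irrSum (fun ψ => (m ψ : ℂ)) (principal G)
    rw [← hm'] at h2
    have h3 : Cfsg.classInner φ (principal G : G → ℂ) = Cfsg.classInner χ χ := by
      simp [classInner_def, hφ, principal]
    rw [h3, classInner_self_irr hχ] at h2
    exact_mod_cast h2.symm
  choose c hc using fun ψ : Cfsg.IrrCharacter G =>
    IsCharacter.exists_mult (IsCharacter.restrict (isCharacter_of_irr ψ.2) H)
      (isIrrCharacter_one (G := H))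
  set e := fun ψ : Cfsg.IrrCharacter G => deg (ψ : G → ℂ) with he
  have hbound : ∀ ψ, ψ ≠ principal G → (Nat.card H : ℝ) * (c ψ : ℝ) ^ 2 < (e ψ : ℝ) ^ 2 := by
    intro ψ hψ
    have hk : ∃ h ∈ H, (ψ : G → ℂ) h ≠ (ψ : G → ℂ) 1 := by
      by_contra hall
      push Not at hall
      have hker := hnor (kerSubgroup (ψ : G → ℂ) (isCharacter_of_irr ψ.2))
        (kerSubgroup_normal (isCharacter_of_irr ψ.2))
        fun h hh => (mem_kerSubgroup _ h).mpr (hall h hh)
      have hconst : ∀ g, (ψ : G → ℂ) g = (ψ : G → ℂ) 1 := fun g =>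
        (mem_kerSubgroup (isCharacter_of_irr ψ.2) g).mp (hker ▸ mem_top g)
      have h2 := classInner_irr_ne hψ
      have h3 : Cfsg.classInner (ψ : G → ℂ) (principal G : G → ℂ) = (ψ : G → ℂ) 1 := by
        rw [classInner_def, Finset.sum_congr rfl fun g _ => by rw [hconst g]]
        simp [principal]
      exact IsIrrCharacter.apply_one_ne_zero ψ.2 (h3 ▸ h2)
    have h4 := main_bound H hab hZ hone ψ.2 hk
    rw [hc ψ, irr_apply_one_eq_deg, Complex.natCast_re, Complex.natCast_re] at h4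
    exact h4
  have hcP : c (principal G) = 1 := by
    have h2 := hc (principal G)
    rw [show (fun h : H => (principal G : G → ℂ) h) = fun _ => 1 from rfl,
      classInner_self_irr (isIrrCharacter_one (G := H))] at h2
    exact_mod_cast h2.symm
  have heP : e (principal G) = 1 := by
    apply Nat.cast_injective (R := ℂ)
    rw [he]
    simp only
    rw [← irr_apply_one_eq_deg, Nat.cast_one]
    rfl
  have hres : Cfsg.classInner (fun h : H => φ h) (fun _ => 1) =
      Cfsg.classInner (fun h : H => χ h) (fun h : H => χ h) := by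
    simp [classInner_def, hφ]
  have hsumc : Cfsg.classInner (fun h : H => φ h) (fun _ => 1) =
      ((∑ ψ, m ψ * c ψ : ℕ) : ℂ) := by
    have h2 : (fun h : H => φ h) = ∑ ψ : Cfsg.IrrCharacter G, m ψ • fun h : H => (ψ : G → ℂ) h := by
      funext h
      rw [hm]
      simp [Finset.sum_apply]
    rw [h2, classInner_sum_left]
    simp only [classInner_nsmul_left, hc]
    push_cast
    rfl
  have hd_le : d ≤ ∑ ψ, m ψ * c ψ := by
    obtain ⟨k, hk⟩ := IsCharacter.exists_decomp (IsCharacter.restrict (isCharacter_of_irr hχ) H)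
    have hk' : (fun h : H => χ h) = ∑ l : Cfsg.IrrCharacter H, (k l : ℂ) • (l : H → ℂ) := by
      rw [hk]
      simp only [Nat.cast_smul_eq_nsmul]
    have h2 : ((∑ l, k l * k l : ℕ) : ℂ) = ((∑ ψ, m ψ * c ψ : ℕ) : ℂ) := by
      rw [← hsumc, hres, hk', classInner_self_decomp]
      simp
    have h3 : (d : ℂ) = ((∑ l, k l : ℕ) : ℂ) := by
      have h4 := congrFun hk' 1
      rw [show ((1 : H) : G) = 1 from rfl, h1] at h4
      rw [h4]
      simp [Finset.sum_apply,
        irr_deg_one_of_comm (G := H) (fun a b => Subtype.ext (hab _ a.2 _ b.2)) (Subtype.prop _)]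
    rw [← Nat.cast_injective h2, Nat.cast_injective h3]
    exact Finset.sum_le_sum fun l _ => Nat.le_mul_self _
  have hdeg : (∑ ψ, m ψ * e ψ : ℕ) = d * d := by
    apply Nat.cast_injective (R := ℂ)
    have h2 := congrFun hm' 1
    simp only [Finset.sum_apply, Pi.smul_apply, smul_eq_mul, irr_apply_one_eq_deg] at h2
    rw [hφ, Pi.mul_apply, h1, Complex.conj_natCast] at h2
    push_cast
    exact h2.symm
  have hdC : (d : ℝ) ≤ ∑ ψ, (m ψ : ℝ) * c ψ := by exact_mod_cast hd_le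
  have hdegR : ∑ ψ, (m ψ : ℝ) * e ψ = (d : ℝ) * d := by exact_mod_cast hdeg
  rw [← Finset.add_sum_erase _ _ (Finset.mem_univ (principal G)), hm1, hcP] at hdC
  rw [← Finset.add_sum_erase _ _ (Finset.mem_univ (principal G)), hm1, heP] at hdegR
  set s := Real.sqrt (Nat.card H) with hs
  have hs2 : s * s = Nat.card H := Real.mul_self_sqrt (Nat.cast_nonneg _)
  have hs0 : 0 ≤ s := Real.sqrt_nonneg _
  have hterm : ∀ ψ ∈ Finset.univ.erase (principal G), s * c ψ < e ψ := fun ψ hψ => by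
    refine lt_of_pow_lt_pow_left₀ 2 (Nat.cast_nonneg _) ?_
    rw [mul_pow, sq s, hs2]
    exact hbound ψ (Finset.ne_of_mem_erase hψ)
  have hd2R : (2 : ℝ) ≤ d := by exact_mod_cast hd2
  obtain ⟨ψ₀, hψ₀, hψ₀m⟩ : ∃ ψ ∈ Finset.univ.erase (principal G), m ψ ≠ 0 := by
    by_contra hall
    push Not at hall
    rw [Finset.sum_eq_zero fun ψ hψ => by rw [hall ψ hψ]; simp] at hdegR
    push_cast at hdegR
    nlinarith
  have hlt : ∑ ψ ∈ Finset.univ.erase (principal G), (m ψ : ℝ) * (s * c ψ) <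
      ∑ ψ ∈ Finset.univ.erase (principal G), (m ψ : ℝ) * e ψ :=
    Finset.sum_lt_sum (fun ψ hψ => mul_le_mul_of_nonneg_left (hterm ψ hψ).le (Nat.cast_nonneg _))
      ⟨ψ₀, hψ₀, mul_lt_mul_of_pos_left (hterm ψ₀ hψ₀) (by exact_mod_cast Nat.pos_of_ne_zero hψ₀m)⟩
  rw [Finset.sum_congr rfl fun ψ _ => (mul_left_comm (m ψ : ℝ) s (c ψ : ℝ)), ← Finset.mul_sum]
    at hlt
  push_cast at hdC hdegR
  have hlt2 : s * ((d : ℝ) - 1) < ((d : ℝ) + 1) * ((d : ℝ) - 1) := by
    nlinarith [mul_le_mul_of_nonneg_left (show (d : ℝ) - 1 ≤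
      ∑ ψ ∈ Finset.univ.erase (principal G), (m ψ : ℝ) * c ψ by linarith) hs0]
  have hlt3 : s < (d : ℝ) + 1 := lt_of_mul_lt_mul_right hlt2 (by linarith)
  rw [← hs2]
  nlinarith

end Cfsg.Lib.OddChar.FeitThompsonBound
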