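import Cfsg.Agent.OddChar.CentralCoherence
import Cfsg.Agent.Chars.NormTwo
import Cfsg.Agent.Chars.FrobeniusTI
import Cfsg.Agent.Thompson.FixedPointFree

/-!
# Coherence for the characters of a Frobenius group nontrivial on its kernel
-/

set_option linter.unusedSectionVars false
set_option linter.style.haveILetI false
set_option linter.unusedVariables false

namespace Cfsg.Lib.FrobCoherence

open Cfsg.Lib.Chars Cfsg.Lib.InducedFamily
open scoped commutatorElement ComplexConjugate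

universe u v

variable {N : Type u} [Group N] [Fintype N] {G : Type v} [Group G] [Fintype G]

theorem isometry_mono {S T : Set (N → ℂ)} {τ : (N → ℂ) → (G → ℂ)}
    (hτ : Cfsg.IsLinearIsometryOn (Cfsg.zspanOn S {1}ᶜ) τ) (h : T ⊆ S) :
    Cfsg.IsLinearIsometryOn (Cfsg.zspanOn T {1}ᶜ) τ :=
  ⟨fun a ha b hb => hτ.1 a (Cfsg.Lib.Coherence.zspanOn_mono h ha) b (Cfsg.Lib.Coherence.zspanOn_mono h hb),
    fun a ha => hτ.2.1 a (Cfsg.Lib.Coherence.zspanOn_mono h ha),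
    fun a ha b hb => hτ.2.2.1 a (Cfsg.Lib.Coherence.zspanOn_mono h ha) b
      (Cfsg.Lib.Coherence.zspanOn_mono h hb),
    fun a ha => hτ.2.2.2 a (Cfsg.Lib.Coherence.zspanOn_mono h ha)⟩

theorem map_one_mono {S T : Set (N → ℂ)} {τ : (N → ℂ) → (G → ℂ)}
    (hτ1 : ∀ α ∈ Cfsg.zspanOn S {1}ᶜ, τ α 1 = 0) (h : T ⊆ S) :
    ∀ α ∈ Cfsg.zspanOn T {1}ᶜ, τ α 1 = 0 := fun α hα => hτ1 α (Cfsg.Lib.Coherence.zspanOn_mono h hα)

/-- One irreducible character may be added to a coherent set of small enough degree. -/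
theorem coherent_step (S₀ : Finset (N → ℂ)) (χ : N → ℂ) (hirr : ∀ ξ ∈ S₀, Cfsg.IsIrrCharacter N ξ)
    (hχ : Cfsg.IsIrrCharacter N χ) (hχS : χ ∉ S₀) (d : (N → ℂ) → ℕ)
    (hd : ∀ ξ ∈ insert χ S₀, ξ 1 = (d ξ : ℂ)) (τ : (N → ℂ) → (G → ℂ))
    (hτ : Cfsg.IsLinearIsometryOn (Cfsg.zspanOn (↑(insert χ S₀) : Set (N → ℂ)) {1}ᶜ) τ)
    (hτ1 : ∀ α ∈ Cfsg.zspanOn (↑(insert χ S₀) : Set (N → ℂ)) {1}ᶜ, τ α 1 = 0)
    (hcoh : Cfsg.IsCoherent (↑S₀ : Set (N → ℂ)) {1}ᶜ τ) (ψ : N → ℂ) (hψ : ψ ∈ S₀)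
    (hdvd : d ψ ∣ d χ) (hlt : 2 * d ψ * d χ < ∑ ξ ∈ S₀, d ξ ^ 2) :
    Cfsg.IsCoherent (↑(insert χ S₀) : Set (N → ℂ)) {1}ᶜ τ := by
  classical
  obtain ⟨⟨a₀, ha₀, ha₀ne⟩, τ₁, hτ₁, hag⟩ := hcoh
  have hirr' : ∀ ξ ∈ (↑(insert χ S₀) : Set (N → ℂ)), Cfsg.IsIrrCharacter N ξ := by
    intro ξ hξ
    rcases Finset.mem_insert.mp hξ with rfl | h
    exacts [hχ, hirr ξ h]
  have hsub : (↑S₀ : Set (N → ℂ)) ⊆ ↑(insert χ S₀) := fun ξ h => Finset.mem_insert_of_mem h
  have hz : ∀ ξ ∈ S₀, ξ ∈ Cfsg.zspan (↑S₀ : Set (N → ℂ)) := fun ξ h =>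
    Cfsg.Lib.Coherence.subset_zspan h
  have hdpos : ∀ ξ ∈ insert χ S₀, (0 : ℤ) < d ξ := fun ξ hξ => by
    have h := Cfsg.Lib.Chars.IsIrrCharacter.apply_one_ne_zero (hirr' ξ hξ)
    rw [hd ξ hξ] at h
    exact_mod_cast Nat.pos_of_ne_zero (by exact_mod_cast h)
  obtain ⟨a, ha⟩ := hdvd
  set f := (a : ℤ) • ψ with hf
  have hfS : f ∈ Cfsg.zspan (↑S₀ : Set (N → ℂ)) := (Submodule.span ℤ _).smul_mem _ (hz ψ hψ)
  have hf1 : (χ - f) 1 = 0 := by
    simp [hf, hd χ (Finset.mem_insert_self _ _), hd ψ (Finset.mem_insert_of_mem hψ), ha, mul_comm]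
  have hmem : χ - f ∈ Cfsg.zspanOn (↑(insert χ S₀) : Set (N → ℂ)) {1}ᶜ :=
    Cfsg.Lib.Coherence.mem_one.mpr ⟨(Submodule.span ℤ _).sub_mem
      (Cfsg.Lib.Coherence.subset_zspan (Finset.mem_insert_self _ _))
      (Cfsg.Lib.Coherence.zspan_mono hsub hfS), hf1⟩
  set β := τ (χ - f) with hβ
  have hβgen := hτ.2.2.2 _ hmem
  choose! x hx using fun ξ (hξ : ξ ∈ S₀) =>
    Cfsg.Lib.Coherence.inner_int hβgen (hτ₁.2.2.2 _ (hz ξ hξ))
  have hin : ∀ ξ ∈ S₀, Cfsg.classInner (χ - f) ξ = -((a : ℂ) * if ξ = ψ then 1 else 0) := by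
    intro ξ hξ
    rw [Cfsg.Lib.Chars.classInner_sub_left, hf, Cfsg.Lib.Chars.classInner_zsmul_left,
      Cfsg.Lib.Chars.classInner_irrChar hχ (hirr ξ hξ),
      Cfsg.Lib.Chars.classInner_irrChar (hirr ψ hψ) (hirr ξ hξ),
      if_neg (fun h : χ = ξ => hχS (h ▸ hξ))]
    by_cases h : ξ = ψ
    · simp [h]
    · simp [h, Ne.symm h]
  set b : ℤ := x ψ + a with hb
  have hθ : ∀ ξ ∈ S₀,
      (d ψ : ℤ) • ξ - (d ξ : ℤ) • ψ ∈ Cfsg.zspanOn (↑S₀ : Set (N → ℂ)) {1}ᶜ := fun ξ hξ =>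
    Cfsg.Lib.Coherence.mem_one.mpr
      ⟨(Submodule.span ℤ _).sub_mem ((Submodule.span ℤ _).smul_mem _ (hz ξ hξ))
        ((Submodule.span ℤ _).smul_mem _ (hz ψ hψ)), by
        simp [hd ξ (Finset.mem_insert_of_mem hξ), hd ψ (Finset.mem_insert_of_mem hψ), mul_comm]⟩
  have hτθ : ∀ ξ ∈ S₀, τ ((d ψ : ℤ) • ξ - (d ξ : ℤ) • ψ) =
      (d ψ : ℤ) • τ₁ ξ - (d ξ : ℤ) • τ₁ ψ := by
    intro ξ hξ
    rw [← hag _ (hθ ξ hξ), Cfsg.Lib.Coherence.map_sub' (Submodule.span ℤ _) hτ₁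
      ((Submodule.span ℤ _).smul_mem _ (hz ξ hξ)) ((Submodule.span ℤ _).smul_mem _ (hz ψ hψ)),
      hτ₁.2.1 _ (hz ξ hξ), hτ₁.2.1 _ (hz ψ hψ)]
  have hrel : ∀ ξ ∈ S₀, (d ψ : ℤ) * (x ξ + if ξ = ψ then (a : ℤ) else 0) = (d ξ : ℤ) * b := by
    intro ξ hξ
    have h := hτ.2.2.1 _ hmem _ (Cfsg.Lib.Coherence.zspanOn_mono hsub (hθ ξ hξ))
    rw [hτθ ξ hξ, ← hβ, Cfsg.Lib.Chars.classInner_sub_right,
      Cfsg.Lib.Chars.classInner_zsmul_right, Cfsg.Lib.Chars.classInner_zsmul_right, hx ξ hξ,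
      hx ψ hψ, Cfsg.Lib.Chars.classInner_sub_right, Cfsg.Lib.Chars.classInner_zsmul_right,
      Cfsg.Lib.Chars.classInner_zsmul_right, hin ξ hξ, hin ψ hψ, if_pos rfl] at h
    rw [hb]
    by_cases hξ' : ξ = ψ
    · rw [hξ']; simp
    · rw [if_neg hξ'] at h ⊢
      push_cast at h
      apply Int.cast_injective (α := ℂ)
      push_cast
      linear_combination h
  have hgram : ∀ ξ ∈ S₀, ∀ η ∈ S₀,
      Cfsg.classInner (τ₁ ξ) (τ₁ η) = if ξ = η then ((1 : ℝ) : ℂ) else 0 := fun ξ hξ η hη => by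
    rw [hτ₁.2.2.1 _ (hz ξ hξ) _ (hz η hη),
      Cfsg.Lib.Chars.classInner_irrChar (hirr ξ hξ) (hirr η hη)]
    simp
  obtain ⟨-, hN⟩ := Cfsg.Lib.Coherence.project S₀ (e := τ₁) (n := fun _ => (1 : ℝ))
    (fun _ _ => one_ne_zero) (fun ξ hξ η hη => by rw [hgram ξ hξ η hη]; congr) (a := β) (x := fun ξ => (x ξ : ℝ))
    (fun ξ hξ => by rw [hx ξ hξ]; simp)
  simp only [div_one] at hN
  set Δ := β - Cfsg.Lib.Coherence.comb S₀ τ₁ fun ξ => (x ξ : ℝ) with hΔ
  have hΔgen : Cfsg.IsGeneralizedCharacter G Δ := Cfsg.Lib.Chars.IsGeneralizedCharacter.sub hβgen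
    (Cfsg.Lib.Coherence.comb_gen _ _ _ fun ξ hξ => hτ₁.2.2.2 _ (hz ξ hξ))
  obtain ⟨k, hk⟩ := Cfsg.Lib.Coherence.inner_int hΔgen hΔgen
  have hk0 : 0 ≤ k := by
    have := Cfsg.Lib.Coherence.inner_self_re_nonneg Δ
    rw [hk] at this
    simpa using this
  have hβn : Cfsg.classInner β β = ((1 + (a : ℤ) ^ 2 : ℤ) : ℂ) := by
    rw [hβ, hτ.2.2.1 _ hmem _ hmem, Cfsg.Lib.Chars.classInner_sub_right,
      Cfsg.Lib.Chars.classInner_sub_left, Cfsg.Lib.Chars.classInner_self_irr hχ, hf,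
      Cfsg.Lib.Chars.classInner_zsmul_right, Cfsg.Lib.Chars.classInner_zsmul_left,
      Cfsg.Lib.Chars.classInner_irrChar (hirr ψ hψ) hχ, if_neg (fun h : ψ = χ => hχS (h ▸ hψ)),
      ← hf, hin ψ hψ, if_pos rfl]
    push_cast
    ring
  rw [hβn, hk, Complex.intCast_re, Complex.intCast_re] at hN
  have hN' : (1 : ℤ) + (a : ℤ) ^ 2 = ∑ ξ ∈ S₀, x ξ ^ 2 + k := by
    apply Int.cast_injective (α := ℝ)
    push_cast at hN ⊢
    linarith
  have hterm : ∀ ξ ∈ S₀, (d ψ : ℤ) ^ 2 * x ξ ^ 2 = b ^ 2 * (d ξ : ℤ) ^ 2 +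
      (if ξ = ψ then -2 * (a : ℤ) * b * (d ψ : ℤ) ^ 2 + (a : ℤ) ^ 2 * (d ψ : ℤ) ^ 2 else 0) ∧
      (d ψ : ℤ) * x ξ * d ξ = b * (d ξ : ℤ) ^ 2 +
      (if ξ = ψ then -(a : ℤ) * (d ψ : ℤ) ^ 2 else 0) := by
    intro ξ hξ
    have h := hrel ξ hξ
    by_cases hξ' : ξ = ψ
    · subst hξ'
      simp only [if_pos]
      rw [hb]
      constructor <;> ring
    · simp only [if_neg hξ', add_zero] at h ⊢
      constructor
      · linear_combination ((d ψ : ℤ) * x ξ + (d ξ : ℤ) * b) * h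
      · linear_combination (d ξ : ℤ) * h
  have hlt' : 2 * (a : ℤ) * (d ψ : ℤ) ^ 2 < ∑ ξ ∈ S₀, (d ξ : ℤ) ^ 2 := by
    have : ((2 * d ψ * d χ : ℕ) : ℤ) < ((∑ ξ ∈ S₀, d ξ ^ 2 : ℕ) : ℤ) := by exact_mod_cast hlt
    rw [ha] at this
    push_cast at this
    linarith
  have hb0 : b = 0 := by
    by_contra hb0
    have h1 : b ^ 2 * (∑ ξ ∈ S₀, (d ξ : ℤ) ^ 2) + k * (d ψ : ℤ) ^ 2 =
        2 * a * b * (d ψ : ℤ) ^ 2 + (d ψ : ℤ) ^ 2 := by
      have := congrArg (fun z : ℤ => (d ψ : ℤ) ^ 2 * z) hN'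
      simp only [mul_add, Finset.mul_sum] at this
      rw [Finset.sum_congr rfl (fun ξ hξ => (hterm ξ hξ).1), Finset.sum_add_distrib,
        ← Finset.mul_sum, Finset.sum_ite_eq' S₀ ψ, if_pos hψ] at this
      linarith
    have hD : (0 : ℤ) < (d ψ : ℤ) ^ 2 := by
      have := hdpos ψ (Finset.mem_insert_of_mem hψ)
      positivity
    have hS0 : (0 : ℤ) < ∑ ξ ∈ S₀, (d ξ : ℤ) ^ 2 :=
      lt_of_le_of_lt (by positivity) hlt'
    by_cases hk1 : k = 0
    · have hΔ0 : Δ = 0 := by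
        rw [← Cfsg.Lib.Chars.classInner_self_eq_zero, hk, hk1, Int.cast_zero]
      have hβ1 : β 1 = 0 := hτ1 _ hmem
      rw [hΔ, sub_eq_zero] at hΔ0
      rw [hΔ0] at hβ1
      simp only [Cfsg.Lib.Coherence.comb, Finset.sum_apply, Pi.smul_apply, smul_eq_mul] at hβ1
      have hdeg : ∀ ξ ∈ S₀, (d ψ : ℂ) * τ₁ ξ 1 = (d ξ : ℂ) * τ₁ ψ 1 := by
        intro ξ hξ
        have h := hτ1 _ (Cfsg.Lib.Coherence.zspanOn_mono hsub (hθ ξ hξ))
        rw [hτθ ξ hξ] at h
        simpa [sub_eq_zero] using h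
      have hψ1 : τ₁ ψ 1 ≠ 0 := by
        rcases Cfsg.Lib.Chars.isIrr_or_neg_of_norm_one (hτ₁.2.2.2 _ (hz ψ hψ))
          (by rw [hgram ψ hψ ψ hψ, if_pos rfl]; simp) with h | h
        · exact Cfsg.Lib.Chars.IsIrrCharacter.apply_one_ne_zero h
        · simpa using Cfsg.Lib.Chars.IsIrrCharacter.apply_one_ne_zero h
      have hsum : ((∑ ξ ∈ S₀, (d ψ : ℤ) * x ξ * d ξ : ℤ) : ℂ) * τ₁ ψ 1 =
          ((d ψ : ℂ) * d ψ) * ∑ ξ ∈ S₀, (x ξ : ℂ) * τ₁ ξ 1 := by
        push_cast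
        rw [Finset.sum_mul, Finset.mul_sum]
        refine Finset.sum_congr rfl fun ξ hξ => ?_
        have h := hdeg ξ hξ
        linear_combination (-(x ξ : ℂ) * d ψ) * h
      rw [show (∑ ξ ∈ S₀, (x ξ : ℂ) * τ₁ ξ 1) = 0 by simpa using hβ1, mul_zero,
        mul_eq_zero, or_iff_left hψ1, Int.cast_eq_zero,
        Finset.sum_congr rfl (fun ξ hξ => (hterm ξ hξ).2), Finset.sum_add_distrib,
        ← Finset.mul_sum, Finset.sum_ite_eq' S₀ ψ, if_pos hψ] at hsum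
      rcases lt_or_gt_of_ne hb0 with hneg | hpos
      · nlinarith [mul_neg_of_neg_of_pos hneg hS0]
      · nlinarith [mul_le_mul_of_nonneg_right (Int.add_one_le_iff.mpr hpos) hS0.le]
    · have h2 : b ^ 2 * (∑ ξ ∈ S₀, (d ξ : ℤ) ^ 2) ≤ 2 * a * b * (d ψ : ℤ) ^ 2 := by
        nlinarith [mul_le_mul_of_nonneg_right (show (1 : ℤ) ≤ k by omega) hD.le]
      rcases lt_or_gt_of_ne hb0 with hneg | hpos
      · nlinarith [mul_pos (pow_two_pos_of_ne_zero hb0) hS0,
          mul_nonneg (mul_nonneg (Int.natCast_nonneg a) (neg_nonneg.mpr hneg.le)) hD.le]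
      · have h3 : b * (∑ ξ ∈ S₀, (d ξ : ℤ) ^ 2) ≤ 2 * a * (d ψ : ℤ) ^ 2 :=
          le_of_mul_le_mul_left (by linarith) hpos
        nlinarith [mul_le_mul_of_nonneg_right (Int.add_one_le_iff.mpr hpos) hS0.le]
  refine Cfsg.Lib.Coherence.isCoherent_extend hsub
    (fun ξ hξ h => Cfsg.Lib.Chars.IsIrrCharacter.apply_one_ne_zero (hirr' ξ hξ) (by rw [h]; rfl))
    (fun ξ hξ η hη h => by
      rw [Cfsg.Lib.Chars.classInner_irrChar (hirr' ξ hξ) (hirr' η hη), if_neg h])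
    hτ hτ₁ hag ?_ ⟨a₀, Cfsg.Lib.Coherence.zspanOn_mono hsub ha₀, ha₀ne⟩
  intro t ht
  rcases Finset.mem_insert.mp ht with rfl | ht
  · refine ⟨f, hfS, hf1, fun ξ hξ => ?_⟩
    have h := hrel ξ hξ
    rw [hb0, mul_zero] at h
    have h' := (mul_eq_zero.mp h).resolve_left (hdpos ψ (Finset.mem_insert_of_mem hψ)).ne'
    rw [hx ξ hξ, hin ξ hξ, eq_neg_of_add_eq_zero_left h']
    split_ifs <;> simp
  · refine ⟨t, hz t ht, by simp, fun ξ _ => ?_⟩
    rw [sub_self, Cfsg.Lib.Coherence.map_zero' (Cfsg.Lib.Coherence.spanOn _ _) hτ,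
      Cfsg.Lib.Chars.classInner_zero_left, Cfsg.Lib.Chars.classInner_zero_left]

/-- Irreducible characters of small enough degree may be added one at a time. -/
theorem coherent_extend_irr {τ : (N → ℂ) → (G → ℂ)} {T₀ T : Finset (N → ℂ)} (h₀T : T₀ ⊆ T)
    (hirr : ∀ φ ∈ T, Cfsg.IsIrrCharacter N φ)
    (hτ : Cfsg.IsLinearIsometryOn (Cfsg.zspanOn (↑T : Set (N → ℂ)) {1}ᶜ) τ)
    (hτ1 : ∀ α ∈ Cfsg.zspanOn (↑T : Set (N → ℂ)) {1}ᶜ, τ α 1 = 0)
    (hcoh : Cfsg.IsCoherent (↑T₀ : Set (N → ℂ)) {1}ᶜ τ) {χ₁ : N → ℂ} (hχ₁ : χ₁ ∈ T₀)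
    (hstep : ∀ χ ∈ T, χ ∉ T₀ → deg χ₁ ∣ deg χ ∧ 2 * deg χ₁ * deg χ < ∑ φ ∈ T₀, deg φ ^ 2) :
    Cfsg.IsCoherent (↑T : Set (N → ℂ)) {1}ᶜ τ := by
  classical
  suffices H : ∀ R : Finset (N → ℂ), R ⊆ T \ T₀ →
      Cfsg.IsCoherent (↑(R ∪ T₀) : Set (N → ℂ)) {1}ᶜ τ by
    have := H _ (Finset.Subset.refl _)
    rwa [Finset.sdiff_union_of_subset h₀T] at this
  intro R
  induction R using Finset.induction with
  | empty => intro _; rwa [Finset.empty_union]
  | insert χ R hχR ih =>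
    intro hsub
    obtain ⟨hχT, hR⟩ := Finset.insert_subset_iff.mp hsub
    obtain ⟨hχT', hχ0⟩ := Finset.mem_sdiff.mp hχT
    obtain ⟨hdvd, hlt⟩ := hstep χ hχT' hχ0
    have hin : R ∪ T₀ ⊆ T := Finset.union_subset (hR.trans Finset.sdiff_subset) h₀T
    have hins : (↑(insert χ (R ∪ T₀)) : Set (N → ℂ)) ⊆ ↑T :=
      Finset.coe_subset.mpr (Finset.insert_subset hχT' hin)
    rw [Finset.insert_union]
    refine coherent_step (R ∪ T₀) χ (fun φ hφ => hirr φ (hin hφ)) (hirr χ hχT')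
      (fun h => (Finset.mem_union.mp h).elim hχR hχ0) deg (fun φ hφ => ?_) τ (isometry_mono hτ hins)
      (map_one_mono hτ1 hins) (ih hR) χ₁ (Finset.mem_union_right _ hχ₁) hdvd
      (hlt.trans_le (Finset.sum_le_sum_of_subset Finset.subset_union_right))
    exact IsCharacter.apply_one_eq_deg (isCharacter_of_irr (hirr φ (hins hφ)))

/-- Irreducible characters of one degree form a coherent set. -/
theorem coherent_equal_degree {τ : (N → ℂ) → (G → ℂ)} (S : Set (N → ℂ))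
    (hirr : ∀ φ ∈ S, Cfsg.IsIrrCharacter N φ) (htwo : ∃ a ∈ S, ∃ b ∈ S, a ≠ b)
    (hdeg : ∀ a ∈ S, ∀ b ∈ S, a 1 = b 1) (hτ : Cfsg.IsLinearIsometryOn (Cfsg.zspanOn S {1}ᶜ) τ)
    (hτ1 : ∀ α ∈ Cfsg.zspanOn S {1}ᶜ, τ α 1 = 0) : Cfsg.IsCoherent S {1}ᶜ τ := by
  classical
  haveI : Finite S := Finite.of_injective (fun φ : S => (⟨φ, hirr φ φ.2⟩ : Cfsg.IrrCharacter N))
    fun a b h => Subtype.ext (congrArg Subtype.val h :)
  letI : Fintype S := Fintype.ofFinite _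
  obtain ⟨χ₀, hχ₀, χ₂, hχ₂, hne⟩ := htwo
  set i₀ : S := ⟨χ₀, hχ₀⟩
  have hm : ∀ φ ∈ S, φ - χ₀ ∈ Cfsg.zspanOn S {1}ᶜ := fun φ hφ => Cfsg.Lib.Coherence.mem_one.mpr
    ⟨(Submodule.span ℤ S).sub_mem (Cfsg.Lib.Coherence.subset_zspan hφ)
      (Cfsg.Lib.Coherence.subset_zspan hχ₀), by simp [hdeg φ hφ χ₀ hχ₀]⟩
  obtain ⟨ε, hε, μ, hμ, hμi, hμτ⟩ := exists_star i₀ (fun i : S => τ ((i : N → ℂ) - χ₀))
    (by simp [i₀, Cfsg.Lib.Coherence.map_zero' (Cfsg.Lib.Coherence.spanOn S {1}ᶜ) hτ])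
    (fun i => hτ.2.2.2 _ (hm i i.2)) (fun i => hτ1 _ (hm i i.2))
    (fun i j hi hj => by
      have hi' : (i : N → ℂ) ≠ χ₀ := fun h => hi (Subtype.ext h)
      have hj' : (j : N → ℂ) ≠ χ₀ := fun h => hj (Subtype.ext h)
      rw [hτ.2.2.1 _ (hm i i.2) _ (hm j j.2), classInner_sub_left, classInner_sub_right,
        classInner_sub_right, classInner_irrChar (hirr _ i.2) (hirr _ j.2),
        classInner_irrChar (hirr _ i.2) (hirr _ hχ₀), classInner_irrChar (hirr _ hχ₀) (hirr _ j.2),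
        classInner_self_irr (hirr _ hχ₀), if_neg hi', if_neg (Ne.symm hj')]
      constructor
      · intro h; rw [if_pos (congrArg Subtype.val h)]; norm_num
      · intro h; rw [if_neg (fun h' => h (Subtype.ext h'))]; norm_num)
  have hε2 : ε * conj ε = 1 := by rcases hε with rfl | rfl <;> simp
  obtain ⟨T, hT, hTiso⟩ := Cfsg.Lib.Coherence.exists_ext (G := G) S
    (fun φ hφ h => IsIrrCharacter.apply_one_ne_zero (hirr φ hφ) (by rw [h]; rfl))
    (fun a ha b hb h => by rw [classInner_irrChar (hirr a ha) (hirr b hb), if_neg h])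
    (fun φ => if h : φ ∈ S then ε • μ ⟨φ, h⟩ else 0)
    (fun φ hφ => by
      rw [dif_pos hφ]
      rcases hε with rfl | rfl
      · rw [one_smul]; exact IsCharacter.isGeneralized (isCharacter_of_irr (hμ _))
      · rw [neg_one_smul]
        exact IsGeneralizedCharacter.neg (IsCharacter.isGeneralized (isCharacter_of_irr (hμ _))))
    (fun a ha b hb => by
      rw [dif_pos ha, dif_pos hb, classInner_smul_left, classInner_smul_right, ← mul_assoc, hε2, one_mul,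
        classInner_irrChar (hμ _) (hμ _), classInner_irrChar (hirr a ha) (hirr b hb)]
      by_cases h : a = b
      · subst h; simp
      · rw [if_neg h, if_neg fun h' => h (congrArg Subtype.val (hμi h') :)])
  refine ⟨⟨χ₂ - χ₀, hm χ₂ hχ₂, sub_ne_zero.mpr hne.symm⟩, T, hTiso, fun f hf => ?_⟩
  let E := Cfsg.Lib.Coherence.spanOn S ({1}ᶜ : Set N)
  have key : ∀ g ∈ Submodule.span ℤ S, ∃ k : ℤ,
      g - k • χ₀ ∈ Cfsg.zspanOn S {1}ᶜ ∧ T (g - k • χ₀) = τ (g - k • χ₀) := by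
    intro g hg
    induction hg using Submodule.span_induction with
    | mem φ hφ =>
      refine ⟨1, by rw [one_smul]; exact hm φ hφ, ?_⟩
      rw [one_smul, map_sub, hT φ hφ, hT χ₀ hχ₀, dif_pos hφ, dif_pos hχ₀, ← smul_sub]
      exact (hμτ ⟨φ, hφ⟩).symm
    | zero =>
      refine ⟨0, by rw [zero_smul, sub_zero]; exact E.zero_mem, ?_⟩
      rw [zero_smul, sub_zero, map_zero, Cfsg.Lib.Coherence.map_zero' E hτ]
    | add x y _ _ hx hy =>
      obtain ⟨k, hk, hk'⟩ := hx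
      obtain ⟨l, hl, hl'⟩ := hy
      refine ⟨k + l, ?_, ?_⟩ <;>
        rw [show x + y - (k + l) • χ₀ = (x - k • χ₀) + (y - l • χ₀) by rw [add_smul]; abel]
      · exact E.add_mem hk hl
      · rw [map_add, hk', hl', hτ.1 _ hk _ hl]
    | smul n x _ hx =>
      obtain ⟨k, hk, hk'⟩ := hx
      refine ⟨n * k, ?_, ?_⟩ <;> rw [mul_smul, ← smul_sub]
      · exact E.smul_mem n hk
      · rw [map_zsmul, hk', hτ.2.1 _ hk n]
  obtain ⟨k, hk, hk'⟩ := key f hf.1
  have h1 := (Cfsg.Lib.Coherence.mem_one.mp hk).2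
  have hk0 : k = 0 := by
    simpa [(Cfsg.Lib.Coherence.mem_one.mp hf).2,
      IsIrrCharacter.apply_one_ne_zero (hirr χ₀ hχ₀)] using h1
  rwa [hk0, zero_smul, sub_zero] at hk'

/-- The isometry of a pair of equal degree may be exchanged. -/
theorem exists_swap {u v : N → ℂ} (hu : Cfsg.IsIrrCharacter N u) (hv : Cfsg.IsIrrCharacter N v)
    (huv : u ≠ v) (hd : u 1 = v 1) {T : (N → ℂ) → (G → ℂ)}
    (hT : Cfsg.IsLinearIsometryOn (Cfsg.zspan ({u, v} : Set (N → ℂ))) T) :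
    ∃ T' : (N → ℂ) → (G → ℂ), Cfsg.IsLinearIsometryOn (Cfsg.zspan ({u, v} : Set (N → ℂ))) T' ∧
      (∀ f ∈ Cfsg.zspanOn ({u, v} : Set (N → ℂ)) {1}ᶜ, T' f = T f) ∧ T' u = -T v ∧ T' v = -T u := by
  classical
  set S : Set (N → ℂ) := {u, v}
  have hirr : ∀ φ ∈ S, Cfsg.IsIrrCharacter N φ := by
    rintro φ (rfl | rfl)
    exacts [hu, hv]
  have huS : u ∈ Cfsg.zspan S := Cfsg.Lib.Coherence.subset_zspan (Set.mem_insert _ _)
  have hvS : v ∈ Cfsg.zspan S := Cfsg.Lib.Coherence.subset_zspan (Set.mem_insert_of_mem _ rfl)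
  obtain ⟨T', hT', hT'iso⟩ := Cfsg.Lib.Coherence.exists_ext (G := G) S
    (fun φ hφ h => IsIrrCharacter.apply_one_ne_zero (hirr φ hφ) (by rw [h]; rfl))
    (fun a ha b hb h => by rw [classInner_irrChar (hirr a ha) (hirr b hb), if_neg h])
    (fun φ => if φ = u then -T v else -T u)
    (fun φ hφ => by
      split_ifs
      · exact IsGeneralizedCharacter.neg (hT.2.2.2 _ hvS)
      · exact IsGeneralizedCharacter.neg (hT.2.2.2 _ huS))
    (by
      have e : ∀ a ∈ S, ∀ b ∈ S, Cfsg.classInner (T a) (T b) = Cfsg.classInner a b := fun a ha b hb =>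
        hT.2.2.1 a (Cfsg.Lib.Coherence.subset_zspan ha) b (Cfsg.Lib.Coherence.subset_zspan hb)
      have hu' : u ∈ S := Set.mem_insert _ _
      have hv' : v ∈ S := Set.mem_insert_of_mem _ rfl
      intro a ha b hb
      rcases ha with rfl | rfl <;> rcases hb with rfl | rfl <;>
        simp [if_pos, if_neg huv.symm, classInner_neg_left, classInner_neg_right, e _ hu' _ hu',
          e _ hu' _ hv', e _ hv' _ hu', e _ hv' _ hv', classInner_irrChar hu hv,
          classInner_irrChar hv hu, classInner_self_irr hu, classInner_self_irr hv, huv, huv.symm])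
  have h1 : T' u = -T v := by rw [hT' u (Set.mem_insert _ _), if_pos rfl]
  have h2 : T' v = -T u := by rw [hT' v (Set.mem_insert_of_mem _ rfl), if_neg huv.symm]
  refine ⟨T', hT'iso, fun f hf => ?_, h1, h2⟩
  obtain ⟨i, j, rfl⟩ := Submodule.mem_span_pair.mp hf.1
  have hij := (Cfsg.Lib.Coherence.mem_one.mp hf).2
  have hj : j = -i := by
    simp only [Pi.add_apply, Pi.mul_apply, Pi.intCast_apply, zsmul_eq_mul, hd, ← add_mul, mul_eq_zero,
      IsIrrCharacter.apply_one_ne_zero hv, or_false] at hij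
    have : i + j = 0 := by exact_mod_cast hij
    omega
  rw [hj, map_add, map_zsmul, map_zsmul, h1, h2,
    hT.1 _ ((Submodule.span ℤ S).smul_mem _ huS) _ ((Submodule.span ℤ S).smul_mem _ hvS),
    hT.2.1 _ huS, hT.2.1 _ hvS, neg_smul, neg_smul, smul_neg, smul_neg, neg_neg]
  abel

section Kernel

variable {K : Subgroup N} [K.Normal]
  (hC : ∀ k ∈ K, k ≠ 1 → Subgroup.centralizer ({k} : Set N) ≤ K)
  {τ : (N → ℂ) → (G → ℂ)}

include hC in
theorem irr_above {A : Subgroup N} {φ : N → ℂ} (h : φ ∈ Cfsg.inducedIrrAbove K A) :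
    Cfsg.IsIrrCharacter N φ := by
  obtain ⟨θ, hθ, h1, -, rfl⟩ := h
  exact isIrr_indFun_of_centralizer_le K hC hθ h1

theorem above_mono {A B : Subgroup N} (h : B ≤ A) :
    Cfsg.inducedIrrAbove K A ⊆ Cfsg.inducedIrrAbove K B := by
  rintro φ ⟨θ, hθ, h1, hA, rfl⟩
  exact ⟨θ, hθ, h1, fun a ha => hA a (h ha), rfl⟩

include hC in
theorem above_eq : Cfsg.inducedIrrAbove K ⊥ =
    {χ : N → ℂ | Cfsg.IsIrrCharacter N χ ∧ ∃ k ∈ K, χ k ≠ χ 1} := by
  classical
  have hemp : Cfsg.inducedIrrAbove K K = ∅ := by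
    refine Set.eq_empty_iff_forall_notMem.mpr ?_
    rintro φ ⟨θ, hθ, h1, hK, -⟩
    have h2 := classInner_irrChar hθ (isIrrCharacter_one (G := K))
    rw [if_neg h1, classInner_def] at h2
    simp only [map_one, mul_one, Finset.sum_congr rfl fun x _ => hK x x.2, Finset.sum_const,
      Finset.card_univ, nsmul_eq_mul, mul_eq_zero, inv_eq_zero, Nat.cast_eq_zero] at h2
    rcases h2 with h | h | h
    · exact Nat.card_pos.ne' h
    · exact Fintype.card_ne_zero h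
    · exact IsIrrCharacter.apply_one_ne_zero hθ h
  have h := diff_eq (K := K) K le_rfl fun χ hχ => irr_above hC hχ.1
  rwa [hemp, Set.diff_empty] at h

include hC in
theorem sum_deg_sq (A : Subgroup N) [A.Normal] :
    ∑ φ ∈ (finite_above (K := K) A).toFinset, deg φ ^ 2 = K.index * (A.relIndex K - 1) := by
  have h := sum_ratio (K := K) A
  rw [Finset.sum_congr rfl fun φ hφ => by
    rw [classInner_self_irr (irr_above hC ((Set.Finite.mem_toFinset _).mp hφ)), Complex.one_re, div_one]] at h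
  have h1 : 1 ≤ A.relIndex K := Nat.pos_of_ne_zero Subgroup.index_ne_zero_of_finite
  apply Nat.cast_injective (R := ℝ)
  push_cast [h1]
  exact h

theorem deg_above_derived {A : Subgroup N} (hder : ⁅K, K⁆ ≤ A) {φ : N → ℂ}
    (h : φ ∈ Cfsg.inducedIrrAbove K A) : deg φ = K.index := by
  obtain ⟨θ, hθ, -, hker, rfl⟩ := h
  letI : Fintype K := Fintype.ofFinite _
  have hb := deg_sq_le_index hθ ⊤ fun z _ g => hker _ (hder (by
    simpa [commutatorElement_def] using Subgroup.commutator_mem_commutator z.2 g.2))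
  rw [Subgroup.index_top] at hb
  rw [deg_indFun (isCharacter_of_irr hθ),
    le_antisymm ((pow_le_one_iff (n := 2) two_ne_zero).mp hb) (deg_irr_pos ⟨θ, hθ⟩), mul_one]

include hC in
theorem two_above_derived (A : Subgroup N) [A.Normal] (hder : ⁅K, K⁆ ≤ A) (hAK : A < K)
    (hne : A.relIndex K ≠ K.index + 1) :
    ∃ a ∈ Cfsg.inducedIrrAbove K A, ∃ b ∈ Cfsg.inducedIrrAbove K A, a ≠ b := by
  by_contra hno
  push Not at hno
  have hsum := sum_deg_sq (K := K) hC A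
  rw [Finset.sum_congr rfl fun φ hφ => by
    rw [deg_above_derived hder ((Set.Finite.mem_toFinset _).mp hφ)], Finset.sum_const, smul_eq_mul] at hsum
  have hcard : ((finite_above (K := K) A).toFinset).card ≤ 1 := Finset.card_le_one.mpr fun a ha b hb =>
    hno a ((Set.Finite.mem_toFinset _).mp ha) b ((Set.Finite.mem_toFinset _).mp hb)
  have he : 0 < K.index := Nat.pos_of_ne_zero Subgroup.index_ne_zero_of_finite
  have h1 : A.relIndex K ≠ 1 := fun h => hAK.not_ge (Subgroup.relIndex_eq_one.mp h)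
  have h0 : A.relIndex K ≠ 0 := Subgroup.index_ne_zero_of_finite
  rcases Nat.le_one_iff_eq_zero_or_eq_one.mp hcard with h | h
  · rw [h, zero_mul, eq_comm, mul_eq_zero] at hsum
    omega
  · rw [h, one_mul, sq] at hsum
    have := Nat.eq_of_mul_eq_mul_left he hsum
    omega

include hC in
theorem coherent_derived (hτ : Cfsg.IsLinearIsometryOn (Cfsg.zspanOn (Cfsg.inducedIrrAbove K ⊥) {1}ᶜ) τ)
    (hτ1 : ∀ α ∈ Cfsg.zspanOn (Cfsg.inducedIrrAbove K ⊥) {1}ᶜ, τ α 1 = 0)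
    (A : Subgroup N) [A.Normal] (hder : ⁅K, K⁆ ≤ A) (hAK : A < K) (hne : A.relIndex K ≠ K.index + 1) :
    Cfsg.IsCoherent (Cfsg.inducedIrrAbove K A) {1}ᶜ τ := by
  refine coherent_equal_degree _ (fun φ hφ => irr_above hC hφ) (two_above_derived hC A hder hAK hne)
    (fun a ha b hb => ?_) (isometry_mono hτ (above_subset A)) (map_one_mono hτ1 (above_subset A))
  rw [IsCharacter.apply_one_eq_deg (isCharacter_of_irr (irr_above hC ha)),
    IsCharacter.apply_one_eq_deg (isCharacter_of_irr (irr_above hC hb)), deg_above_derived hder ha,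
    deg_above_derived hder hb]

include hC in
/-- Descent along a section with a large central part. -/
theorem coherent_descend (hτ : Cfsg.IsLinearIsometryOn (Cfsg.zspanOn (Cfsg.inducedIrrAbove K ⊥) {1}ᶜ) τ)
    (hτ1 : ∀ α ∈ Cfsg.zspanOn (Cfsg.inducedIrrAbove K ⊥) {1}ᶜ, τ α 1 = 0)
    (A B D : Subgroup N) [A.Normal] (hBA : B ≤ A) (hDB : ∀ x ∈ D, ∀ y ∈ K, ⁅x, y⁆ ∈ B)
    (hcoh : Cfsg.IsCoherent (Cfsg.inducedIrrAbove K A) {1}ᶜ τ)
    (hmin : ∃ χ₁ ∈ Cfsg.inducedIrrAbove K A, deg χ₁ = K.index)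
    (hlt : 4 * K.index ^ 2 * D.relIndex K < (A.relIndex K - 1) ^ 2) :
    Cfsg.IsCoherent (Cfsg.inducedIrrAbove K B) {1}ᶜ τ := by
  classical
  have hT₀ : (↑(finite_above (K := K) A).toFinset : Set (N → ℂ)) = Cfsg.inducedIrrAbove K A :=
    Set.Finite.coe_toFinset _
  have hT : (↑(finite_above (K := K) B).toFinset : Set (N → ℂ)) = Cfsg.inducedIrrAbove K B :=
    Set.Finite.coe_toFinset _
  obtain ⟨χ₁, hχ₁, hd₁⟩ := hmin
  have hsub : Cfsg.inducedIrrAbove K B ⊆ Cfsg.inducedIrrAbove K ⊥ := above_subset B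
  rw [← hT₀] at hcoh
  rw [← hT]
  refine coherent_extend_irr (Set.Finite.toFinset_subset_toFinset.mpr (above_mono hBA))
    (fun φ hφ => irr_above hC ((Set.Finite.mem_toFinset _).mp hφ)) (by rw [hT]; exact isometry_mono hτ hsub)
    (by rw [hT]; exact map_one_mono hτ1 hsub) hcoh ((Set.Finite.mem_toFinset _).mpr hχ₁) ?_
  intro χ hχ _
  obtain ⟨θ, hθ, -, hker, rfl⟩ := (Set.Finite.mem_toFinset _).mp hχ
  letI : Fintype K := Fintype.ofFinite _
  rw [hd₁, deg_indFun (isCharacter_of_irr hθ), sum_deg_sq hC A]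
  refine ⟨dvd_mul_right _ _, ?_⟩
  have hb := deg_sq_le_index hθ (D.subgroupOf K) fun z hz g => hker _ (by
    simpa [commutatorElement_def] using hDB z (Subgroup.mem_subgroupOf.mp hz) g g.2)
  rw [show 2 * K.index * (K.index * deg θ) = K.index * (2 * K.index * deg θ) by ring]
  refine Nat.mul_lt_mul_of_pos_left ?_ (Nat.pos_of_ne_zero Subgroup.index_ne_zero_of_finite)
  refine (Nat.pow_lt_pow_iff_left (n := 2) two_ne_zero).mp (lt_of_le_of_lt ?_ hlt)
  rw [mul_pow, mul_pow]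
  exact Nat.mul_le_mul_left _ hb

include hC in
/-- With a nilpotent kernel and a large section over `A`, coherence reaches the bottom. -/
theorem coherent_to_bot (hτ : Cfsg.IsLinearIsometryOn (Cfsg.zspanOn (Cfsg.inducedIrrAbove K ⊥) {1}ᶜ) τ)
    (hτ1 : ∀ α ∈ Cfsg.zspanOn (Cfsg.inducedIrrAbove K ⊥) {1}ᶜ, τ α 1 = 0)
    (hnil : Group.IsNilpotent K) (A : Subgroup N) [A.Normal] (hAK : A ≤ K)
    (hcoh : Cfsg.IsCoherent (Cfsg.inducedIrrAbove K A) {1}ᶜ τ)
    (hmin : ∃ χ₁ ∈ Cfsg.inducedIrrAbove K A, deg χ₁ = K.index)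
    (hbig : 4 * K.index ^ 2 + 1 < A.relIndex K) :
    Cfsg.IsCoherent (Cfsg.inducedIrrAbove K ⊥) {1}ᶜ τ := by
  suffices H : ∀ k : ℕ, ∀ B : Subgroup N, B.Normal → Nat.card B = k → B ≤ A →
      Cfsg.IsCoherent (Cfsg.inducedIrrAbove K B) {1}ᶜ τ →
      Cfsg.IsCoherent (Cfsg.inducedIrrAbove K ⊥) {1}ᶜ τ from H _ A inferInstance rfl le_rfl hcoh
  intro k
  induction k using Nat.strong_induction_on with
  | _ k ih =>
    intro B hB hk hBA hco
    haveI : ((⊥ : Subgroup N).subgroupOf K).Normal := inferInstance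
    haveI := hnil
    by_cases hfix : B ≤ ⁅B, K⁆ ⊔ ⊥
    · have : B = ⊥ := le_bot_iff.mp (le_of_commutator_sup_eq bot_le inferInstance (hBA.trans hAK) hfix)
      exact this ▸ hco
    rw [sup_bot_eq] at hfix
    have hle : ⁅B, K⁆ ≤ B := Subgroup.commutator_le_left B K
    have h1 : A.relIndex K ≤ B.relIndex K :=
      Nat.le_of_dvd (Nat.pos_of_ne_zero Subgroup.index_ne_zero_of_finite) (Subgroup.relIndex_dvd_of_le_left K hBA)
    obtain ⟨χ₁, hχ₁, hd₁⟩ := hmin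
    refine ih (Nat.card ↥⁅B, K⁆) ?_ ⁅B, K⁆ inferInstance rfl (hle.trans hBA)
      (coherent_descend hC hτ hτ1 B ⁅B, K⁆ B hle
        (fun x hx y hy => Subgroup.commutator_mem_commutator hx hy) hco ⟨χ₁, above_mono hBA hχ₁, hd₁⟩ ?_)
    · rw [← hk]
      exact lt_of_le_of_ne (Subgroup.card_le_of_le hle) fun h => hfix (Subgroup.eq_of_le_of_card_ge hle h.ge).ge
    · obtain ⟨w, hw⟩ : ∃ w, B.relIndex K = w + 1 := ⟨B.relIndex K - 1, by omega⟩
      rw [hw, Nat.add_sub_cancel]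
      have h3 : 4 * K.index ^ 2 + 1 ≤ w := by omega
      nlinarith

include hC in
theorem index_dvd_relIndex_sub_one {A B : Subgroup N} [A.Normal] [B.Normal] (hAB : A ≤ B) (hBK : B ≤ K) :
    K.index ∣ A.relIndex B - 1 := by
  have hA := index_dvd_card_sub_one K A (hAB.trans hBK) hC
  have hB := index_dvd_card_sub_one K B hBK hC
  have h := Subgroup.relIndex_mul_relIndex ⊥ A B bot_le hAB
  rw [Subgroup.relIndex_bot_left, Subgroup.relIndex_bot_left] at h
  rw [← h] at hB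
  have a0 : 0 < Nat.card A := Nat.card_pos
  have b0 : 0 < A.relIndex B := Nat.pos_of_ne_zero Subgroup.index_ne_zero_of_finite
  rw [← Nat.modEq_iff_dvd' b0]
  have e1 := ((Nat.modEq_iff_dvd' a0).mpr hA).mul_right (A.relIndex B)
  have e2 := (Nat.modEq_iff_dvd' (Nat.mul_pos a0 b0)).mpr hB
  simp only [Nat.succ_eq_add_one, zero_add, one_mul] at e1 e2 ⊢
  exact e2.trans e1.symm

include hC in
theorem index_add_one_le {A B : Subgroup N} [A.Normal] [B.Normal] (hAB : A < B) (hBK : B ≤ K) :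
    K.index + 1 ≤ A.relIndex B := by
  have h1 : A.relIndex B ≠ 1 := fun h => hAB.not_ge (Subgroup.relIndex_eq_one.mp h)
  have h0 : A.relIndex B ≠ 0 := Subgroup.index_ne_zero_of_finite
  have := Nat.le_of_dvd (by omega) (index_dvd_relIndex_sub_one hC hAB.le hBK)
  omega

include hC in
/-- The quotient by a normal subgroup inside the kernel keeps fixed-point-free action. -/
theorem mem_of_commutator_mem {A : Subgroup N} [A.Normal] (hAK : A ≤ K) {k : N} (hk : k ∈ K)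
    (hkA : k ∉ A) {x : N} (h : x * k * x⁻¹ * k⁻¹ ∈ A) : x ∈ K := by
  classical
  by_contra hx
  have hinj : Set.InjOn (fun y : N => y⁻¹ * (x * y * x⁻¹)) K := by
    intro y hy z hz he
    simp only at he
    have hc : x * (y * z⁻¹) = (y * z⁻¹) * x := by
      calc x * (y * z⁻¹) = y * (y⁻¹ * (x * y * x⁻¹)) * (x * z⁻¹) := by group
        _ = y * (z⁻¹ * (x * z * x⁻¹)) * (x * z⁻¹) := by rw [he]
        _ = (y * z⁻¹) * x := by group
    by_contra hne
    refine hx (hC (y * z⁻¹) (K.mul_mem hy (K.inv_mem hz)) (fun h1 => hne (mul_inv_eq_one.mp h1)) ?_)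
    exact Subgroup.mem_centralizer_singleton_iff.mpr hc
  have hmaps : Set.MapsTo (fun y : N => y⁻¹ * (x * y * x⁻¹)) A A := fun y hy =>
    A.mul_mem (A.inv_mem hy) (Subgroup.Normal.conj_mem inferInstance y hy x)
  have hk' : k⁻¹ * (x * k * x⁻¹) ∈ A := by
    have := Subgroup.Normal.conj_mem inferInstance _ h k⁻¹
    simpa [mul_assoc] using this
  obtain ⟨a, ha, hae⟩ := ((Set.toFinite (A : Set N)).injOn_iff_bijOn_of_mapsTo hmaps).mp
    (hinj.mono hAK) |>.surjOn hk'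
  exact hkA (hinj (hAK ha) hk hae ▸ ha)

include hC in
theorem isNilpotent_kernel (hK : K ≠ ⊤) : Group.IsNilpotent K := by
  classical
  have hcop := coprime_of_centralizer_le K hC
  have h1 : K.index ≠ 1 := fun h => hK (Subgroup.index_eq_one.mp h)
  obtain ⟨q, hq, hqd⟩ := Nat.exists_prime_and_dvd h1
  haveI : Fact q.Prime := ⟨hq⟩
  obtain ⟨x, hx⟩ := exists_prime_orderOf_dvd_card' q (hqd.trans K.index_dvd_card)
  have hxK : x ∉ K := by
    intro h
    have h2 : q ∣ Nat.card K := hx ▸ (Subgroup.orderOf_mk x h ▸ orderOf_dvd_natCard _)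
    exact hq.ne_one (Nat.eq_one_of_dvd_coprimes hcop h2 hqd)
  set φ : K →* K := (MulAut.conjNormal (H := K) x).toMonoidHom
  refine Cfsg.Lib.Thompson.isNilpotent_of_fpf φ (fun y hy => ?_) hq ?_
  · have hy' : x * (y : N) * x⁻¹ = y := congrArg Subtype.val hy
    by_contra hy1
    refine hxK (hC y y.2 (fun h => hy1 (Subtype.ext h)) (Subgroup.mem_centralizer_singleton_iff.mpr ?_))
    exact mul_inv_eq_iff_eq_mul.mp hy'
  · funext y
    apply Subtype.ext
    have : ∀ n : ℕ, ((φ^[n] y : K) : N) = x ^ n * y * (x ^ n)⁻¹ := by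
      intro n
      induction n with
      | zero => simp
      | succ n ih =>
        rw [Function.iterate_succ_apply']
        show x * ((φ^[n] y : K) : N) * x⁻¹ = _
        rw [ih, pow_succ']
        group
    rw [this, ← hx, pow_orderOf_eq_one]
    simp

/-- A nilpotent group whose abelianisation has prime power order has prime power order. -/
theorem card_eq_pow_of_relIndex (hnil : Group.IsNilpotent K) {p : ℕ} [Fact p.Prime] {k : ℕ}
    (hk : ⁅K, K⁆.relIndex K = p ^ k) : ∃ l, Nat.card K = p ^ l := by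
  haveI := hnil
  obtain ⟨P⟩ : Nonempty (Sylow p K) := inferInstance
  have hrel : (commutator K).index = p ^ k := by
    rw [← hk, Subgroup.relIndex, ← Subgroup.map_subtype_commutator K, Subgroup.subgroupOf,
      Subgroup.comap_map_eq_self_of_injective K.subtype_injective]
  have htop : (P : Subgroup K) = ⊤ := by
    refine eq_top_of_sup_commutator _ (Subgroup.index_eq_one.mp (Nat.dvd_one.mp ?_))
    have d1 := Subgroup.index_dvd_of_le (le_sup_left : (P : Subgroup K) ≤ ↑P ⊔ commutator _)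
    have d2 := Subgroup.index_dvd_of_le (le_sup_right : commutator K ≤ ↑P ⊔ commutator _)
    rw [hrel] at d2
    have hcop : Nat.Coprime (P : Subgroup K).index (p ^ k) :=
      (((Fact.out : p.Prime).coprime_iff_not_dvd.mpr P.not_dvd_index).symm).pow_right k
    exact hcop ▸ Nat.dvd_gcd d1 d2
  obtain ⟨l, hl⟩ := IsPGroup.iff_card.mp P.2
  rw [htop, Subgroup.card_top] at hl
  exact ⟨l, hl⟩

theorem commutator_le_bot_iff : ⁅K, K⁆ = ⊥ ↔ IsMulCommutative K := by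
  rw [Subgroup.commutator_eq_bot_iff_le_centralizer]
  constructor
  · intro h
    exact ⟨⟨fun a b => Subtype.ext (Subgroup.mem_centralizer_iff.mp (h b.2) a a.2)⟩⟩
  · intro h a ha
    rw [Subgroup.mem_centralizer_iff]
    intro b hb
    exact congrArg Subtype.val (h.is_comm.comm (⟨b, hb⟩ : K) ⟨a, ha⟩)

theorem derived_lt (hnil : Group.IsNilpotent K) (hK : K ≠ ⊥) : ⁅K, K⁆ < K := by
  haveI := hnil
  haveI : ((⊥ : Subgroup N).subgroupOf K).Normal := inferInstance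
  refine lt_of_le_of_ne (Subgroup.commutator_le_self K) fun h => hK (le_bot_iff.mp ?_)
  exact le_of_commutator_sup_eq bot_le inferInstance le_rfl (by rw [sup_bot_eq]; exact h.ge)

theorem exists_deg_index (hnil : Group.IsNilpotent K) (A : Subgroup N) [A.Normal] (hAK : A < K) :
    ∃ χ₁ ∈ Cfsg.inducedIrrAbove K A, deg χ₁ = K.index := by
  haveI := hnil
  exact exists_minimal inferInstance A hAK

/-- A normal subgroup between the derived group and a prime power part of the kernel. -/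
theorem exists_central_step (hnil : Group.IsNilpotent K) (hA : ⁅K, K⁆ ≠ ⊥)
    (hnp : ¬ ∃ p m : ℕ, p.Prime ∧ Nat.card K = p ^ m) :
    ∃ B D : Subgroup N, B.Normal ∧ D.Normal ∧ B < ⁅K, K⁆ ∧ ⁅K, K⁆ < D ∧ D < K ∧
      ∀ x ∈ D, ∀ y ∈ K, ⁅x, y⁆ ∈ B := by
  classical
  haveI := hnil
  set A := ⁅K, K⁆ with hAdef
  have hAK : A ≤ K := Subgroup.commutator_le_self K
  haveI : ((⊥ : Subgroup N).subgroupOf K).Normal := inferInstance
  set C := ⁅A, K⁆ with hCdef
  have hCA : C ≤ A := Subgroup.commutator_le_left A K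
  have hClt : C < A := lt_of_le_of_ne hCA fun h => hA (le_bot_iff.mp
    (le_of_commutator_sup_eq bot_le inferInstance hAK (by rw [sup_bot_eq]; exact h.ge)))
  -- the quotient of `A` by `C`
  have hc1 : (C.subgroupOf A).index ≠ 1 := fun h =>
    hClt.not_ge (Subgroup.relIndex_eq_one.mp h)
  obtain ⟨p, hp, hpd⟩ := Nat.exists_prime_and_dvd hc1
  haveI : Fact p.Prime := ⟨hp⟩
  haveI : (C.subgroupOf A).Normal := inferInstance
  set π := QuotientGroup.mk' (C.subgroupOf A) with hπ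
  have hab : ∀ a b : ↥A ⧸ C.subgroupOf A, a * b = b * a := by
    intro a b
    obtain ⟨a, rfl⟩ := QuotientGroup.mk'_surjective _ a
    obtain ⟨b, rfl⟩ := QuotientGroup.mk'_surjective _ b
    rw [← commutatorElement_eq_one_iff_mul_comm, ← map_commutatorElement]
    exact (QuotientGroup.eq_one_iff _).mpr (Subgroup.commutator_mem_commutator a.2 (hAK b.2))
  letI : CommGroup (↥A ⧸ C.subgroupOf A) :=
    { (inferInstance : Group (↥A ⧸ C.subgroupOf A)) with mul_comm := hab }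
  set M : Subgroup A := ((powMonoidHom p).range).comap π with hMdef
  set B : Subgroup N := M.map A.subtype with hBdef
  have hBA : B ≤ A := by rw [hBdef]; exact Subgroup.map_subtype_le _
  have hM : ∀ a : A, (a : N) ∈ M.map A.subtype ↔ a ∈ M := fun a =>
    ⟨fun ⟨b, hb, he⟩ => (Subtype.ext he : b = a) ▸ hb, fun h => ⟨a, h, rfl⟩⟩
  have hmemB : ∀ a : A, (a : N) ∈ B ↔ ∃ b : A, (a : N)⁻¹ * (b : N) ^ p ∈ C := by
    intro a
    rw [hBdef, hM a, hMdef, Subgroup.mem_comap]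
    constructor
    · rintro ⟨q, hq⟩
      obtain ⟨b, rfl⟩ := QuotientGroup.mk'_surjective _ q
      refine ⟨b, ?_⟩
      rw [powMonoidHom_apply, ← map_pow] at hq
      simpa [Subgroup.mem_subgroupOf] using QuotientGroup.eq.mp hq.symm
    · rintro ⟨b, hb⟩
      refine ⟨π b, ?_⟩
      rw [powMonoidHom_apply, ← map_pow]
      refine (QuotientGroup.eq.mpr ?_).symm
      simpa [Subgroup.mem_subgroupOf] using hb
  haveI hBn : B.Normal := ⟨fun x hx g => by
    obtain ⟨b, hb⟩ := (hmemB ⟨x, hBA hx⟩).mp hx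
    refine (hmemB ⟨g * x * g⁻¹, Subgroup.Normal.conj_mem inferInstance x (hBA hx) g⟩).mpr
      ⟨⟨g * b * g⁻¹, Subgroup.Normal.conj_mem inferInstance _ b.2 g⟩, ?_⟩
    have := Subgroup.Normal.conj_mem inferInstance _ hb g
    simp only at this ⊢
    rw [conj_pow]
    convert this using 1
    group⟩
  have hCB : C ≤ B := fun x hx => (hmemB ⟨x, hCA hx⟩).mpr ⟨1, by simpa using C.inv_mem hx⟩
  have hBlt : B < A := by
    refine lt_of_le_of_ne hBA fun hEq => ?_
    obtain ⟨q, hq⟩ := exists_prime_orderOf_dvd_card' (G := ↥A ⧸ C.subgroupOf A) p hpd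
    have hs : Function.Surjective (powMonoidHom p : (↥A ⧸ C.subgroupOf A) →* _) := by
      intro z
      obtain ⟨z, rfl⟩ := QuotientGroup.mk'_surjective _ z
      have hz : (z : N) ∈ B := hEq.ge z.2
      rw [hBdef, hM z] at hz
      exact hz
    have h1 := (Finite.injective_iff_surjective (f := powMonoidHom p)).mpr hs
      (show powMonoidHom p q = powMonoidHom p 1 by
        rw [powMonoidHom_apply, map_one, ← hq, pow_orderOf_eq_one])
    rw [h1, orderOf_one] at hq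
    exact hp.ne_one hq.symm
  -- the elements of `K` central modulo `B`
  set π' := QuotientGroup.mk' (B.subgroupOf K) with hπ'
  set D : Subgroup N := ((Subgroup.center (↥K ⧸ B.subgroupOf K)).comap π').map K.subtype with hDdef
  have hmem : ∀ x, x ∈ D ↔ x ∈ K ∧ ∀ y ∈ K, ⁅x, y⁆ ∈ B := by
    intro x
    constructor
    · rintro ⟨z, hz, rfl⟩
      refine ⟨z.2, fun y hy => ?_⟩
      have h : π' ⁅z, ⟨y, hy⟩⁆ = 1 := by
        rw [map_commutatorElement, commutatorElement_eq_one_iff_mul_comm]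
        exact (Subgroup.mem_center_iff.mp hz _).symm
      have h2 := (QuotientGroup.eq_one_iff _).mp h
      simpa [Subgroup.mem_subgroupOf, commutatorElement_def] using h2
    · rintro ⟨hx, h⟩
      refine ⟨⟨x, hx⟩, Subgroup.mem_center_iff.mpr fun q => ?_, rfl⟩
      obtain ⟨y, rfl⟩ := QuotientGroup.mk'_surjective _ q
      refine Eq.symm (commutatorElement_eq_one_iff_mul_comm.mp ?_)
      rw [← map_commutatorElement]
      refine (QuotientGroup.eq_one_iff _).mpr ?_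
      simpa [Subgroup.mem_subgroupOf, commutatorElement_def] using h y y.2
  haveI hDn : D.Normal := ⟨fun x hx g => by
    obtain ⟨hxK, h⟩ := (hmem x).mp hx
    refine (hmem _).mpr ⟨Subgroup.Normal.conj_mem inferInstance x hxK g, fun y hy => ?_⟩
    have h1 := Subgroup.Normal.conj_mem inferInstance _
      (h (g⁻¹ * y * g) (by simpa using Subgroup.Normal.conj_mem inferInstance y hy g⁻¹)) g
    convert h1 using 1
    simp only [commutatorElement_def]
    group⟩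
  have hAD : A ≤ D := fun x hx => (hmem x).mpr
    ⟨hAK hx, fun y hy => hCB (Subgroup.commutator_mem_commutator hx hy)⟩
  refine ⟨B, D, hBn, hDn, hBlt, lt_of_le_of_ne hAD fun hEq => ?_,
    lt_of_le_of_ne (fun x hx => ((hmem x).mp hx).1) fun hEq => ?_, fun x hx => ((hmem x).mp hx).2⟩
  · -- a second prime gives an element central modulo `B`
    have hm1 : A.relIndex K ≠ 0 := Subgroup.index_ne_zero_of_finite
    obtain ⟨q, hq, hqd, hqp⟩ : ∃ q : ℕ, q.Prime ∧ q ∣ A.relIndex K ∧ q ≠ p := by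
      by_contra hno
      push Not at hno
      obtain ⟨l, hl⟩ := card_eq_pow_of_relIndex hnil
        (Nat.eq_prime_pow_of_unique_prime_dvd hm1 fun {d} hd hdm => hno d hd hdm :)
      exact hnp ⟨p, l, hp, hl⟩
    haveI : Fact q.Prime := ⟨hq⟩
    haveI : (A.subgroupOf K).Normal := inferInstance
    obtain ⟨z, hz⟩ := exists_prime_orderOf_dvd_card' (G := ↥K ⧸ A.subgroupOf K) q hqd
    obtain ⟨x, rfl⟩ := QuotientGroup.mk'_surjective _ z
    have hxq : (x : N) ^ q ∈ A := by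
      have : QuotientGroup.mk' (A.subgroupOf K) (x ^ q) = 1 := by rw [map_pow, ← hz, pow_orderOf_eq_one]
      simpa [Subgroup.mem_subgroupOf] using (QuotientGroup.eq_one_iff (x ^ q)).mp this
    -- `p`-th powers are central modulo `B`
    have hcen : π' x ^ p ∈ Subgroup.center _ := by
      refine Subgroup.mem_center_iff.mpr fun w => ?_
      obtain ⟨y, rfl⟩ := QuotientGroup.mk'_surjective _ w
      set c := ⁅π' y, π' x⁆ with hc
      have hcc : Commute c (π' x) := by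
        have hcA : ((⁅y, x⁆ : K) : N) ∈ A := by
          simpa [commutatorElement_def] using Subgroup.commutator_mem_commutator y.2 x.2
        have : π' ⁅⁅y, x⁆, x⁆ = 1 := by
          refine (QuotientGroup.eq_one_iff _).mpr (hCB ?_)
          simpa [commutatorElement_def] using Subgroup.commutator_mem_commutator hcA x.2
        rw [map_commutatorElement, map_commutatorElement, commutatorElement_eq_one_iff_mul_comm] at this
        exact this
      have hcp : c ^ p = 1 := by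
        have hcA : ((⁅y, x⁆ : K) : N) ∈ A := by
          simpa [commutatorElement_def] using Subgroup.commutator_mem_commutator y.2 x.2
        rw [hc, ← map_commutatorElement, ← map_pow]
        refine (QuotientGroup.eq_one_iff _).mpr (Subgroup.mem_subgroupOf.mpr ?_)
        rw [Subgroup.coe_pow]
        exact (hmemB ⟨_, A.pow_mem hcA p⟩).mpr ⟨⟨_, hcA⟩, by simp [C.one_mem]⟩
      have h1 : π' y * π' x * (π' y)⁻¹ = c * π' x := by rw [hc, commutatorElement_def]; group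
      have h2 := congrArg (· ^ p) h1
      simp only [conj_pow, hcc.mul_pow, hcp, one_mul] at h2
      exact mul_inv_eq_iff_eq_mul.mp h2
    have hcenq : π' x ^ q ∈ Subgroup.center _ := by
      obtain ⟨z, hz, hze⟩ := hAD hxq
      have : z = x ^ q := Subtype.ext (by simpa using hze)
      rw [← map_pow, ← this]; exact hz
    have hcop : Nat.Coprime p q := (Nat.coprime_primes hp hq).mpr hqp.symm
    have hb : ((p : ℤ) * Nat.gcdA p q + q * Nat.gcdB p q) = 1 := by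
      rw [← Nat.gcd_eq_gcd_ab, hcop.gcd_eq_one, Nat.cast_one]
    have hx : π' x ∈ Subgroup.center _ := by
      rw [← zpow_one (π' x), ← hb, zpow_add, zpow_mul, zpow_mul, zpow_natCast, zpow_natCast]
      exact Subgroup.mul_mem _ (Subgroup.zpow_mem _ hcen _) (Subgroup.zpow_mem _ hcenq _)
    have hxA : (x : N) ∈ A := hEq.symm ▸ (⟨x, hx, rfl⟩ : (x : N) ∈ D)
    rw [show QuotientGroup.mk' (A.subgroupOf K) x = 1 from (QuotientGroup.eq_one_iff x).mpr hxA,
      orderOf_one] at hz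
    exact hq.ne_one hz.symm
  · refine hBlt.not_ge ?_
    rw [hAdef, Subgroup.commutator_le]
    intro a ha b hb
    exact ((hmem a).mp (hEq.symm ▸ ha)).2 b hb

theorem arith_step {e r a : ℕ} (he : 2 ≤ e) (hr : e + 1 ≤ r) (ha : e + 1 ≤ a) :
    4 * e ^ 2 * a < (r * a - 1) ^ 2 := by
  have h1 : (e + 1) * a ≤ r * a := Nat.mul_le_mul_right a hr
  have h2 : (e + 1) * (e + 1) ≤ (e + 1) * a := Nat.mul_le_mul_left _ ha
  obtain ⟨w, hw⟩ : ∃ w, r * a = w + 1 := ⟨r * a - 1, by have := Nat.mul_pos (show 0 < r by omega) (show 0 < a by omega); omega⟩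
  rw [hw, Nat.add_sub_cancel]
  rw [hw] at h1
  have h3 : e * a + e ≤ w := by linarith
  have h4 : (e * a + e) ^ 2 ≤ w ^ 2 := Nat.pow_le_pow_left h3 2
  nlinarith [Nat.mul_le_mul ha (le_refl (e ^ 2 * a)), Nat.mul_le_mul he he]

include hC in
/-- Feit's coherence theorem for the characters of a Frobenius group. -/
theorem coherent_or_pgroup (hK : K ≠ ⊥) (hKT : K ≠ ⊤) (he : Nat.card K ≠ K.index + 1)
    (hτ : Cfsg.IsLinearIsometryOn (Cfsg.zspanOn (Cfsg.inducedIrrAbove K ⊥) {1}ᶜ) τ)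
    (hτ1 : ∀ α ∈ Cfsg.zspanOn (Cfsg.inducedIrrAbove K ⊥) {1}ᶜ, τ α 1 = 0) :
    Cfsg.IsCoherent (Cfsg.inducedIrrAbove K ⊥) {1}ᶜ τ ∨
      ∃ p : ℕ, p.Prime ∧ (∃ m : ℕ, Nat.card K = p ^ m) ∧ ¬ IsMulCommutative K ∧
        ⁅K, K⁆.relIndex K ≤ 4 * K.index ^ 2 + 1 := by
  classical
  have hnil := isNilpotent_kernel hC hKT
  have hA := derived_lt hnil hK
  by_cases hab : ⁅K, K⁆ = ⊥
  · exact Or.inl (coherent_derived hC hτ hτ1 ⊥ hab.le (hab ▸ hA) (by rwa [Subgroup.relIndex_bot_left]))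
  have he2 : 2 ≤ K.index := by
    have h0 : K.index ≠ 0 := Subgroup.index_ne_zero_of_finite
    have h1 : K.index ≠ 1 := fun h => hKT (Subgroup.index_eq_one.mp h)
    omega
  by_cases hbig : 4 * K.index ^ 2 + 1 < ⁅K, K⁆.relIndex K
  · refine Or.inl (coherent_to_bot hC hτ hτ1 hnil _ hA.le (coherent_derived hC hτ hτ1 _ le_rfl hA ?_)
      (exists_deg_index hnil _ hA) hbig)
    nlinarith
  by_cases hp : ∃ p m : ℕ, p.Prime ∧ Nat.card K = p ^ m
  · obtain ⟨p, m, hp, hm⟩ := hp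
    exact Or.inr ⟨p, hp, ⟨m, hm⟩, fun h => hab (commutator_le_bot_iff.mpr h), not_lt.mp hbig⟩
  obtain ⟨B, D, hB, hD, hBA, hAD, hDK, hcen⟩ := exists_central_step hnil hab hp
  have hr := index_add_one_le hC hAD hDK.le
  have ha := index_add_one_le hC hDK le_rfl
  have hb := index_add_one_le hC hBA hA.le
  have hm : ⁅K, K⁆.relIndex K = ⁅K, K⁆.relIndex D * D.relIndex K :=
    (Subgroup.relIndex_mul_relIndex _ _ _ hAD.le hDK.le).symm
  have hmB : B.relIndex K = B.relIndex ⁅K, K⁆ * (⁅K, K⁆.relIndex D * D.relIndex K) := by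
    rw [← hm, Subgroup.relIndex_mul_relIndex _ _ _ hBA.le hA.le]
  set e := K.index
  set r := ⁅K, K⁆.relIndex D
  set a := D.relIndex K
  set b := B.relIndex ⁅K, K⁆
  have hm2 : (e + 1) * (e + 1) ≤ r * a := Nat.mul_le_mul hr ha
  have hlt : 4 * e ^ 2 * a < (r * a - 1) ^ 2 := arith_step he2 hr ha
  refine Or.inl (coherent_to_bot hC hτ hτ1 hnil B (hBA.le.trans hA.le) ?_ ?_ ?_)
  · exact coherent_descend hC hτ hτ1 _ B D hBA.le hcen
      (coherent_derived hC hτ hτ1 _ le_rfl hA (by rw [hm]; nlinarith)) (exists_deg_index hnil _ hA)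
      (by rw [hm]; exact hlt)
  · exact exists_deg_index hnil B (hBA.trans hA)
  · rw [hmB]
    have := Nat.mul_le_mul hb hm2
    nlinarith

end Kernel

end Cfsg.Lib.FrobCoherence
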