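import Cfsg.Agent.OddChar.FrobeniusLinear
import Cfsg.Agent.Chars.TI
import Cfsg.Agent.Chars.NormTwo
import Cfsg.Agent.S0850
import Mathlib.GroupTheory.Nilpotent

/-!
# The characters attached to a TI subgroup with Frobenius normaliser in a group of odd order
-/

set_option linter.unusedSectionVars false

namespace Cfsg.Lib.FrobCover

open scoped ComplexConjugate
open Cfsg.Lib.Chars Cfsg.Lib.Dual

universe u

/-- A nilpotent group with abelianization of prime order is the abelianization. -/
theorem commutator_eq_bot_of_prime {K : Type u} [Group K] [Finite K] [hK : Group.IsNilpotent K]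
    (hp : (commutator K).index.Prime) : commutator K = ⊥ := by
  have hne : commutator K ≠ ⊤ := fun h => hp.ne_one (by rw [h, Subgroup.index_top])
  obtain ⟨x, hx⟩ : ∃ x : K, x ∉ commutator K := by
    by_contra h
    push Not at h
    exact hne (eq_top_iff.mpr fun x _ => h x)
  have hgen : Subgroup.zpowers x = ⊤ := by
    by_contra hz
    obtain ⟨M, hM, hzM⟩ := (IsCoatomic.eq_top_or_exists_le_coatom (Subgroup.zpowers x)).resolve_left hz
    have hMn : M.Normal := Subgroup.NormalizerCondition.normal_of_coatom M Group.normalizerCondition_of_isNilpotent hM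
    obtain ⟨y, hy⟩ : ∃ y : K, y ∉ M := by
      by_contra h
      push Not at h
      exact hM.1 (eq_top_iff.mpr fun y _ => h y)
    have hMy : M ⊔ Subgroup.zpowers y = ⊤ := hM.2 _ (lt_of_le_of_ne le_sup_left fun h =>
      hy (h ▸ Subgroup.mem_sup_right (Subgroup.mem_zpowers y)))
    have hcM : commutator K ≤ M := by
      have hcyc : ∀ q : K ⧸ M, ∃ k : ℤ, (QuotientGroup.mk y : K ⧸ M) ^ k = q := by
        intro q
        obtain ⟨a, rfl⟩ := QuotientGroup.mk_surjective q
        obtain ⟨m, hm, z, hz', rfl⟩ := Subgroup.mem_sup_of_normal_left.mp (hMy ▸ Subgroup.mem_top a)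
        obtain ⟨k, rfl⟩ := Subgroup.mem_zpowers_iff.mp hz'
        refine ⟨k, ?_⟩
        rw [QuotientGroup.mk_mul, (QuotientGroup.eq_one_iff m).mpr hm, one_mul, QuotientGroup.mk_zpow]
      rw [commutator_def, Subgroup.commutator_le]
      intro a _ b _
      rw [← QuotientGroup.eq_one_iff (N := M)]
      obtain ⟨i, hi⟩ := hcyc (QuotientGroup.mk a)
      obtain ⟨j, hj⟩ := hcyc (QuotientGroup.mk b)
      rw [← QuotientGroup.mk'_apply, map_commutatorElement, QuotientGroup.mk'_apply,
        QuotientGroup.mk'_apply, ← hi, ← hj, commutatorElement_eq_one_iff_commute]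
      exact (Commute.refl _).zpow_zpow i j
    have hMi : M.index ∣ (commutator K).index := Subgroup.index_dvd_of_le hcM
    rcases hp.eq_one_or_self_of_dvd _ hMi with h | h
    · exact hM.1 (Subgroup.index_eq_one.mp h)
    · have hceq : commutator K = M := by
        refine Subgroup.eq_of_le_of_card_ge hcM (le_of_eq ?_)
        have h1 := Subgroup.card_mul_index (commutator K)
        rw [← h, ← M.card_mul_index] at h1
        exact (Nat.eq_of_mul_eq_mul_right (Nat.pos_of_ne_zero Subgroup.index_ne_zero_of_finite) h1).symm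
      exact hx (hceq ▸ hzM (Subgroup.mem_zpowers x))
  rw [commutator_def, Subgroup.commutator_eq_bot_iff_le_centralizer]
  intro a _ b _
  obtain ⟨i, hi⟩ := Subgroup.mem_zpowers_iff.mp (hgen ▸ Subgroup.mem_top a)
  obtain ⟨j, hj⟩ := Subgroup.mem_zpowers_iff.mp (hgen ▸ Subgroup.mem_top b)
  rw [← hi, ← hj]
  exact ((Commute.refl x).zpow_zpow j i).eq

theorem card_hom_eq_index (K : Type u) [Group K] [Finite K] :
    Nat.card (K →* ℂˣ) = (commutator K).index := by
  rw [Nat.card_congr (Abelianization.lift (G := K) (A := ℂˣ)),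
    card_hom (fun a b : Abelianization K => mul_comm a b)]
  rfl

variable {G : Type u} [Group G] [Fintype G]

/-- The data attached to one member of the cover. -/
structure Fam (K : Subgroup G) where
  /-- number of characters -/
  n : ℕ
  /-- order of the abelianization of `K` -/
  hb : ℕ
  /-- index of `K` in its normaliser -/
  e : ℕ
  /-- the induced differences -/
  β : Fin n → (G → ℂ)
  /-- the exceptional characters -/
  χ : Fin n → Cfsg.IrrCharacter G
  /-- the sign -/
  ε : ℤ
  /-- conjugation -/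
  σ : Fin n → Fin n
  two_le : 2 ≤ n
  n_even : Even n
  three_le : 3 ≤ e
  e_odd : Odd e
  e_eq : (K.subgroupOf (Subgroup.normalizer (K : Set G))).index = e
  hb_eq : hb = n * e + 1
  hb_dvd : hb ∣ Nat.card K
  hb_prime : hb.Prime → Nat.card K = hb
  gen : ∀ k, Cfsg.IsGeneralizedCharacter G (β k)
  supp : ∀ k x, β k x ≠ 0 → x ≠ 1 ∧ ∃ g : G, g * x * g⁻¹ ∈ K
  gram : ∀ k l, Cfsg.classInner (β k) (β l) = (e : ℂ) + if k = l then 1 else 0
  principal_inner : ∀ k, Cfsg.classInner (β k) (fun _ => 1) = 1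
  χ_inj : Function.Injective χ
  ε_unit : ε = 1 ∨ ε = -1
  diff : ∀ k l, β k - β l = (ε : ℂ) • ((χ l : G → ℂ) - (χ k : G → ℂ))
  σ_ne : ∀ k, σ k ≠ k
  β_conj : ∀ k, Cfsg.conjFun (β k) = β (σ k)
  χ_conj : ∀ k, Cfsg.conjFun (χ k : G → ℂ) = (χ (σ k) : G → ℂ)

theorem conjFun_indFun' (H : Subgroup G) (θ : H → ℂ) :
    Cfsg.conjFun (Cfsg.indFun H θ) = Cfsg.indFun H (Cfsg.conjFun θ) := by
  funext g
  simp only [Cfsg.conjFun, indFun_apply, map_mul, map_sum, map_inv₀, Complex.conj_natCast]
  congr 1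
  refine Finset.sum_congr rfl fun x _ => ?_
  by_cases hx : x⁻¹ * g * x ∈ H
  · rw [extendByZero_mem _ hx, extendByZero_mem _ hx]
    rfl
  · rw [extendByZero_not_mem _ hx, extendByZero_not_mem _ hx, map_zero]

theorem exists_fam (hodd : Odd (Nat.card G)) (K : Subgroup G) (hK1 : K ≠ ⊥)
    (hnil : Group.IsNilpotent K)
    (hTI : ∀ g : G, g ∉ Subgroup.normalizer (K : Set G) → ∀ k ∈ K, g * k * g⁻¹ ∈ K → k = 1)
    (hlt : K < Subgroup.normalizer (K : Set G))
    (hC : ∀ k ∈ K, k ≠ 1 → Subgroup.centralizer ({k} : Set G) ≤ K) : Nonempty (Fam K) := by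
  classical
  set N := Subgroup.normalizer (K : Set G) with hN
  haveI : Fintype N := Fintype.ofFinite _
  let L : Subgroup N := K.subgroupOf N
  haveI hLn : L.Normal := Subgroup.normal_in_normalizer
  haveI : Fintype L := Fintype.ofFinite _
  have hCL : ∀ n ∈ L, n ≠ 1 → Subgroup.centralizer ({n} : Set N) ≤ L := by
    intro n hn hn1 y hy
    refine hC n hn (fun h => hn1 (Subtype.ext h)) ?_
    rw [Subgroup.mem_centralizer_singleton_iff] at hy ⊢
    exact congrArg Subtype.val hy
  have hNodd : Odd (Nat.card N) := hodd.of_dvd_nat (Subgroup.card_subgroup_dvd_card N)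
  have eK : L ≃* K := Subgroup.subgroupOfEquivOfLe Subgroup.le_normalizer
  haveI := hnil
  haveI hLnil : Group.IsNilpotent L := Group.nilpotent_of_mulEquiv eK.symm
  have hKcard : Nat.card L = Nat.card K := Nat.card_congr eK.toEquiv
  set S := FrobLin.linSet L
  set hb := Nat.card (L →* ℂˣ) with hhb
  have hcard : S.card * L.index + 1 = hb := FrobLin.card_linSet L hCL
  have hbi : hb = (commutator L).index := card_hom_eq_index L
  have hbdvd : hb ∣ Nat.card K := by
    rw [hbi, ← hKcard]
    exact Subgroup.index_dvd_card _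
  haveI : Nontrivial L := eK.toEquiv.nontrivial_congr.mpr ((Subgroup.nontrivial_iff_ne_bot K).mpr hK1)
  have hb1 : 1 < hb := by
    rw [hbi]
    refine lt_of_le_of_ne (Nat.one_le_iff_ne_zero.mpr Subgroup.index_ne_zero_of_finite) fun h => ?_
    exact (Group.IsSolvable.commutator_lt_top_of_nontrivial L).ne
      (Subgroup.index_eq_one.mp h.symm)
  have hbprime : hb.Prime → Nat.card K = hb := by
    intro hp
    rw [hbi] at hp ⊢
    rw [commutator_eq_bot_of_prime hp, Subgroup.index_bot, hKcard]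
  have hKodd : Odd (Nat.card K) := hodd.of_dvd_nat (Subgroup.card_subgroup_dvd_card K)
  have hbodd : Odd hb := hKodd.of_dvd_nat hbdvd
  have heodd : Odd L.index := hNodd.of_dvd_nat L.index_dvd_card
  have he3 : 3 ≤ L.index := by
    have h1 : L.index ≠ 1 := fun h => hlt.not_ge (by
      have h2 := Subgroup.index_eq_one.mp h
      exact Subgroup.subgroupOf_eq_top.mp h2)
    obtain ⟨a, ha⟩ := heodd
    omega
  have hneven : Even S.card := by
    have h1 : Even (S.card * L.index) := by
      rcases Nat.even_or_odd (S.card * L.index) with h | h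
      · exact h
      · exact absurd (hcard ▸ Odd.add_one h) (Nat.not_even_iff_odd.mpr hbodd)
    exact (Nat.even_mul.mp h1).resolve_right (Nat.not_even_iff_odd.mpr heodd)
  have hn2 : 2 ≤ S.card := by
    have h1 : S.card ≠ 0 := fun h => by rw [h, zero_mul] at hcard; omega
    obtain ⟨a, ha⟩ := hneven
    omega
  let fe : Fin S.card ≃ S := S.equivFin.symm
  set n := S.card
  let φ : Fin n → (N → ℂ) := fun k => (fe k : N → ℂ)
  have hφm : ∀ k, φ k ∈ S := fun k => (fe k).2
  have hφinj : Function.Injective φ := fun a b h => fe.injective (Subtype.ext h)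
  let γ : Fin n → (N → ℂ) := fun k => Cfsg.indFun L (fun _ => 1) - φ k
  have hφout : ∀ k, ∀ x : N, x ∉ L → φ k x = 0 := by
    intro k x hx
    obtain ⟨θ, -, hθ⟩ := (FrobLin.mem_linSet L).mp (hφm k)
    rw [← hθ]
    exact indFun_normal_not_mem L _ hx
  have hγout : ∀ k, ∀ x : N, (x : G) ∉ K → γ k x = 0 := by
    intro k x hx
    show Cfsg.indFun L (fun _ => 1) x - φ k x = 0
    rw [indFun_normal_not_mem L _ hx, hφout k x hx, sub_zero]
  have hγ1 : ∀ k, γ k 1 = 0 := by
    intro k
    obtain ⟨θ, -, hθ⟩ := (FrobLin.mem_linSet L).mp (hφm k)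
    show Cfsg.indFun L (fun _ => 1) 1 - φ k 1 = 0
    rw [← hθ, FrobLin.indFun_const_one, FrobLin.indFun_ev_one, sub_self]
  have hγgen : ∀ k, Cfsg.IsGeneralizedCharacter N (γ k) := fun k =>
    IsGeneralizedCharacter.sub
      (IsCharacter.isGeneralized (IsCharacter.indFun (isCharacter_of_irr isIrrCharacter_one)))
      (IsCharacter.isGeneralized (isCharacter_of_irr (FrobLin.isIrr_of_mem L hCL (hφm k))))
  have hγc : ∀ k, Cfsg.IsClassFunction N (γ k) := fun k => isClassFunction_generalized (hγgen k)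
  have h01 : ∀ k, Cfsg.classInner (Cfsg.indFun L fun _ => 1) (φ k) = 0 := by
    intro k
    obtain ⟨θ, hθ1, hθ⟩ := (FrobLin.mem_linSet L).mp (hφm k)
    rw [← hθ, FrobLin.inner_one_lin L hθ1]
  have h10 : ∀ k, Cfsg.classInner (φ k) (Cfsg.indFun L fun _ => 1) = 0 := fun k => by
    rw [← classInner_conj_symm, h01, map_zero]
  have hφφ : ∀ k l, Cfsg.classInner (φ k) (φ l) = if k = l then 1 else 0 := fun k l => by
    rw [FrobLin.inner_eq L hCL (hφm k) (hφm l)]
    exact if_congr hφinj.eq_iff rfl rfl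
  have hγγ : ∀ k l, Cfsg.classInner (γ k) (γ l) = (L.index : ℂ) + if k = l then 1 else 0 := by
    intro k l
    simp only [γ, classInner_sub_left, classInner_sub_right, FrobLin.inner_one_one, h01, h10, hφφ]
    ring
  let β : Fin n → (G → ℂ) := fun k => Cfsg.indFun N (γ k)
  have hβgram : ∀ k l, Cfsg.classInner (β k) (β l) = (L.index : ℂ) + if k = l then 1 else 0 := by
    intro k l
    rw [← hγγ]
    exact classInner_indFun_TI (K : Set G) hTI (hγout k) (hγ1 k) (hγc l) (hγout l)
  have hβ1 : ∀ k, β k 1 = 0 := fun k => by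
    show Cfsg.indFun N (γ k) 1 = 0
    rw [indFun_one, hγ1, mul_zero]
  have hsupp : ∀ k x, β k x ≠ 0 → x ≠ 1 ∧ ∃ g : G, g * x * g⁻¹ ∈ K := by
    intro k x hx
    refine ⟨fun h => hx (h ▸ hβ1 k), ?_⟩
    by_contra hno
    push Not at hno
    apply hx
    show Cfsg.indFun N (γ k) x = 0
    rw [indFun_apply, Finset.sum_eq_zero, mul_zero]
    intro g _
    by_cases hm : g⁻¹ * x * g ∈ N
    · rw [extendByZero_mem _ hm]
      exact hγout k _ (by simpa using hno g⁻¹)
    · rw [extendByZero_not_mem _ hm]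
  have hprin : ∀ k, Cfsg.classInner (β k) (fun _ => (1 : ℂ)) = 1 := by
    intro k
    show Cfsg.classInner (Cfsg.indFun N (γ k)) _ = 1
    rw [frobenius_reciprocity N _ (isClassFunction_isChar (isCharacter_of_irr isIrrCharacter_one))]
    show Cfsg.classInner (Cfsg.indFun L (fun _ => 1) - φ k) (fun _ => 1) = 1
    rw [classInner_sub_left, FrobLin.inner_one_principal]
    obtain ⟨θ, hθ1, hθ⟩ := (FrobLin.mem_linSet L).mp (hφm k)
    rw [← hθ, frobenius_reciprocity L _ (isClassFunction_isChar (isCharacter_of_irr isIrrCharacter_one))]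
    show _ - Cfsg.classInner (ev θ) (fun _ => (1 : ℂ)) = 1
    rw [classInner_irrChar (isIrr_ev θ) isIrrCharacter_one, if_neg (FrobLin.ev_ne_one L hθ1), sub_zero]
  -- the exceptional characters
  let i₀ : Fin n := ⟨0, by omega⟩
  have hτ : ∀ i : Fin n, β i₀ - β i = Cfsg.indFun N (γ i₀ - γ i) := fun i => (indFun_sub N _ _).symm
  obtain ⟨ε, hε, μ, hμ, hμinj, hμτ⟩ := exists_star i₀ (fun i => β i₀ - β i) (sub_self _)
    (fun i => IsGeneralizedCharacter.sub (IsGeneralizedCharacter.indFun (hγgen i₀))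
      (IsGeneralizedCharacter.indFun (hγgen i)))
    (fun i => by simp [hβ1])
    (fun i j hi hj => by
      constructor <;> intro hij <;>
        simp only [classInner_sub_left, classInner_sub_right, hβgram]
      · subst hij
        simp only [if_true, if_neg (Ne.symm hi), if_neg hi]
        ring
      · simp only [if_true, if_neg (Ne.symm hj), if_neg hi, if_neg hij]
        ring)
  obtain ⟨εz, hεz, hεu⟩ : ∃ z : ℤ, (z : ℂ) = ε ∧ (z = 1 ∨ z = -1) := by
    rcases hε with rfl | rfl
    · exact ⟨1, by simp, Or.inl rfl⟩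
    · exact ⟨-1, by simp, Or.inr rfl⟩
  let χ : Fin n → Cfsg.IrrCharacter G := fun i => ⟨μ i, hμ i⟩
  have hχinj : Function.Injective χ := fun a b h => hμinj (congrArg Subtype.val h)
  have hdiff : ∀ k l, β k - β l = (εz : ℂ) • ((χ l : G → ℂ) - (χ k : G → ℂ)) := by
    intro k l
    have h1 : β k - β l = (β i₀ - β l) - (β i₀ - β k) := by abel
    rw [h1, hμτ l, hμτ k, hεz, ← smul_sub]
    congr 1
    show μ l - μ i₀ - (μ k - μ i₀) = μ l - μ k
    abel
  let σ : Fin n → Fin n := fun k => fe.symm ⟨Cfsg.conjFun (φ k), FrobLin.conj_mem L (hφm k)⟩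
  have hσφ : ∀ k, φ (σ k) = Cfsg.conjFun (φ k) := fun k => by
    show ((fe (fe.symm _)) : N → ℂ) = _
    rw [Equiv.apply_symm_apply]
  have hσne : ∀ k, σ k ≠ k := fun k h =>
    FrobLin.conj_ne L hCL hNodd (hφm k) (by rw [← hσφ k, h])
  have hβconj : ∀ k, Cfsg.conjFun (β k) = β (σ k) := by
    intro k
    show Cfsg.conjFun (Cfsg.indFun N (γ k)) = Cfsg.indFun N (γ (σ k))
    rw [conjFun_indFun']
    congr 1
    funext x
    show conj (Cfsg.indFun L (fun _ => 1) x - φ k x) = Cfsg.indFun L (fun _ => 1) x - φ (σ k) x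
    rw [hσφ, map_sub]
    congr 1
    have := congrFun (FrobLin.conjFun_indFun L (fun _ : L => (1 : ℂ))) x
    rw [show Cfsg.conjFun (fun _ : L => (1 : ℂ)) = fun _ => 1 from funext fun _ => map_one _] at this
    exact this
  have hσσ : ∀ k, σ (σ k) = k := fun k => hφinj (by
    rw [hσφ, hσφ]; funext x; exact Complex.conj_conj _)
  have hχconj : ∀ k, Cfsg.conjFun (χ k : G → ℂ) = (χ (σ k) : G → ℂ) := by
    intro k
    have h := hdiff k (σ k)
    have hc : Cfsg.conjFun (β k - β (σ k)) = β (σ k) - β k := by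
      have e1 := hβconj k
      have e2 := hβconj (σ k)
      rw [hσσ] at e2
      funext g
      show conj (β k g - β (σ k) g) = β (σ k) g - β k g
      rw [map_sub]
      exact congrArg₂ (· - ·) (congrFun e1 g) (congrFun e2 g)
    have hx : Cfsg.IsIrrCharacter G (Cfsg.conjFun (χ k : G → ℂ)) := IsIrrCharacter.conjugate (χ k).2
    have hy : Cfsg.IsIrrCharacter G (Cfsg.conjFun (χ (σ k) : G → ℂ)) :=
      IsIrrCharacter.conjugate (χ (σ k)).2
    have heq : Cfsg.conjFun (χ (σ k) : G → ℂ) - Cfsg.conjFun (χ k : G → ℂ) =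
        (χ k : G → ℂ) - (χ (σ k) : G → ℂ) := by
      have hne : (εz : ℂ) ≠ 0 := by rcases hεu with r | r <;> simp [r]
      refine smul_right_injective (G → ℂ) hne ?_
      show (εz : ℂ) • _ = (εz : ℂ) • _
      rw [← hdiff (σ k) k, ← hc, h]
      funext g
      simp [Cfsg.conjFun]
    have h3 := congrArg (fun f => Cfsg.classInner f (χ (σ k) : G → ℂ)) heq
    simp only [classInner_sub_left] at h3
    rw [classInner_irrChar hy (χ (σ k)).2, classInner_irrChar hx (χ (σ k)).2,
      classInner_irrChar (χ k).2 (χ (σ k)).2, classInner_self_irr (χ (σ k)).2,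
      if_neg (fun e => hσne k (hχinj (Subtype.ext e)).symm)] at h3
    by_contra hne2
    rw [if_neg hne2] at h3
    split_ifs at h3 <;> norm_num at h3
  exact ⟨{
    n := n, hb := hb, e := L.index, β := β, χ := χ, ε := εz, σ := σ
    two_le := hn2, n_even := hneven, three_le := he3, e_odd := heodd, e_eq := rfl
    hb_eq := hcard.symm, hb_dvd := hbdvd, hb_prime := hbprime
    gen := fun k => IsGeneralizedCharacter.indFun (hγgen k)
    supp := hsupp, gram := hβgram, principal_inner := hprin, χ_inj := hχinj, ε_unit := hεu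
    diff := hdiff, σ_ne := hσne, β_conj := hβconj, χ_conj := hχconj }⟩

end Cfsg.Lib.FrobCover
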