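import Cfsg.Agent.S1519

/-!
# Coherence extends down a nilpotent section
-/

set_option linter.unusedSectionVars false
set_option linter.style.haveILetI false

namespace Cfsg.Lib.InducedFamily

open scoped commutatorElement

universe u v

/-- A normal subgroup equal to its commutator with a nilpotent section is trivial there. -/
theorem le_of_commutator_sup_eq {L : Type u} [Group L] {M N H : Subgroup L} [(M.subgroupOf H).Normal]
    (hMH : M ≤ H) (hnil : Group.IsNilpotent (↥H ⧸ M.subgroupOf H)) (hNH : N ≤ H)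
    (h : N ≤ ⁅N, H⁆ ⊔ M) : N ≤ M := by
  set π := QuotientGroup.mk' (M.subgroupOf H) with hπ
  set Nb := (N.subgroupOf H).map π with hNb
  have hstep : Nb ≤ ⁅Nb, (⊤ : Subgroup (↥H ⧸ M.subgroupOf H))⁆ := by
    rw [hNb, ← Subgroup.map_top_of_surjective π (QuotientGroup.mk'_surjective _), ← Subgroup.map_commutator]
    rintro _ ⟨x, hx, rfl⟩
    have hle : ⁅N, H⁆ ≤ H := (Subgroup.commutator_mono hNH le_rfl).trans (Subgroup.commutator_le_self H)
    have heq : (⁅N, H⁆).subgroupOf H ⊔ M.subgroupOf H = (⁅N, H⁆ ⊔ M).subgroupOf H :=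
      (Subgroup.subgroupOf_sup hle hMH).symm
    have hx' : x ∈ (⁅N, H⁆).subgroupOf H ⊔ M.subgroupOf H := by
      rw [heq]; exact h hx
    obtain ⟨a, ha, b, hb, rfl⟩ := Subgroup.mem_sup_of_normal_right.mp hx'
    refine ⟨a, ?_, ?_⟩
    · have h1 : (⁅N.subgroupOf H, (⊤ : Subgroup H)⁆).map H.subtype = ⁅N, H⁆ := by
        rw [Subgroup.map_commutator, Subgroup.map_subgroupOf_eq_of_le hNH, ← MonoidHom.range_eq_map,
          Subgroup.range_subtype]
      obtain ⟨c, hc, hca⟩ : (a : L) ∈ (⁅N.subgroupOf H, (⊤ : Subgroup H)⁆).map H.subtype := by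
        rw [h1]; exact ha
      rwa [← H.subtype_injective hca]
    · rw [map_mul, show π b = 1 from (QuotientGroup.eq_one_iff b).mpr hb, mul_one]
  have hall : ∀ n, Nb ≤ (⊤ : Subgroup (↥H ⧸ M.subgroupOf H)).lowerCentralSeries n := by
    intro n
    induction n with
    | zero => exact le_top
    | succ n ih =>
      refine hstep.trans ?_
      exact Subgroup.commutator_mono ih le_rfl
  obtain ⟨n, hn⟩ := Subgroup.nilpotent_iff_lowerCentralSeries.mp hnil
  have hbot : Nb ≤ ⊥ := hn ▸ hall n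
  intro x hx
  have := hbot ⟨⟨x, hNH hx⟩, hx, rfl⟩
  exact Subgroup.mem_subgroupOf.mp ((QuotientGroup.eq_one_iff (⟨x, hNH hx⟩ : H)).mp (Subgroup.mem_bot.mp this))

variable {L : Type u} [Group L] [Fintype L] {G : Type v} [Group G] [Fintype G] {K : Subgroup L} [K.Normal]
  {τ : (L → ℂ) → (G → ℂ)} {R : (L → ℂ) → Finset (G → ℂ)}

theorem coherent_nilpotent_section (hsolv : Group.IsSolvable K)
    (hS : Cfsg.IsCoherenceSystem (Cfsg.inducedIrrAbove K ⊥) τ R) (M H₁ H : Subgroup L) [M.Normal] [H₁.Normal]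
    [H.Normal] (hMH₁ : M ≤ H₁) (hH₁H : H₁ ≤ H) (hHK : H ≤ K) [(M.subgroupOf H).Normal]
    (hnil : Group.IsNilpotent (↥H ⧸ M.subgroupOf H))
    (hcoh : Cfsg.IsCoherent (Cfsg.inducedIrrAbove K H₁) {1}ᶜ τ) (hbig : 4 * K.index ^ 2 + 1 < H₁.relIndex H) :
    Cfsg.IsCoherent (Cfsg.inducedIrrAbove K M) {1}ᶜ τ := by
  suffices H' : ∀ k : ℕ, ∀ N : Subgroup L, N.Normal → Nat.card N = k → M ≤ N → N ≤ H₁ →
      Cfsg.IsCoherent (Cfsg.inducedIrrAbove K N) {1}ᶜ τ → Cfsg.IsCoherent (Cfsg.inducedIrrAbove K M) {1}ᶜ τ from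
    H' _ H₁ inferInstance rfl hMH₁ le_rfl hcoh
  intro k
  induction k using Nat.strong_induction_on with
  | _ k ih =>
    intro N hN hk hMN hNH₁ hco
    by_cases hfix : N ≤ ⁅N, H⁆ ⊔ M
    · have : N = M := le_antisymm (le_of_commutator_sup_eq (hMH₁.trans hH₁H) hnil (hNH₁.trans hH₁H) hfix) hMN
      exact this ▸ hco
    set B := ⁅N, H⁆ ⊔ M with hB
    haveI : B.Normal := inferInstance
    have hBN : B ≤ N := sup_le (Subgroup.commutator_le_left N H) hMN
    have hBlt : B < N := lt_of_le_not_ge hBN hfix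
    have h1 : H₁.relIndex H ≤ N.relIndex H :=
      Nat.le_of_dvd (Nat.pos_of_ne_zero Subgroup.index_ne_zero_of_finite) (Subgroup.relIndex_dvd_of_le_left H hNH₁)
    have hmul : N.relIndex K = N.relIndex H * H.relIndex K :=
      (Subgroup.relIndex_mul_relIndex N H K (hNH₁.trans hH₁H) hHK).symm
    have hk0 : 1 ≤ H.relIndex K := Nat.pos_of_ne_zero Subgroup.index_ne_zero_of_finite
    have hNK : N < K := lt_of_le_of_ne (hNH₁.trans (hH₁H.trans hHK)) fun he => by
      have hone : N.relIndex H = 1 := Subgroup.relIndex_eq_one.mpr (he ▸ hHK)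
      omega
    have hlt : 4 * H.index ^ 2 * N.relIndex H < (N.relIndex K - 1) ^ 2 := by
      rw [hmul, ← Subgroup.relIndex_mul_index hHK]
      set h := N.relIndex H
      set c := H.relIndex K
      set e := K.index
      have h2 : c * (h - 1) ≤ h * c - 1 := by
        rw [Nat.mul_sub, mul_one, mul_comm]; omega
      refine lt_of_lt_of_le ?_ (Nat.pow_le_pow_left h2 2)
      obtain ⟨w, hw⟩ : ∃ w, h = w + 1 := ⟨h - 1, by omega⟩
      rw [hw, Nat.add_sub_cancel, mul_pow, mul_pow]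
      have h3 : 4 * e ^ 2 + 1 ≤ w := by omega
      have hc : 0 < c ^ 2 := pow_pos hk0 2
      have h4 : 4 * e ^ 2 * (w + 1) < w ^ 2 := by nlinarith
      calc 4 * (c ^ 2 * e ^ 2) * (w + 1) = c ^ 2 * (4 * e ^ 2 * (w + 1)) := by ring
        _ < c ^ 2 * w ^ 2 := Nat.mul_lt_mul_of_pos_left h4 hc
    have hcoB := Cfsg.Agent.S1519.result K hsolv τ R hS N B H N hNK (hBlt.trans hNK) hBN (hNH₁.trans hH₁H) hHK
      (fun x hx y hy => Subgroup.mem_sup_left (Subgroup.commutator_mem_commutator hx hy)) hco hlt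
    have hcard : Nat.card B < k := by
      rw [← hk]
      exact lt_of_le_of_ne (Subgroup.card_le_of_le hBN)
        fun h => hBlt.ne (Subgroup.eq_of_le_of_card_ge hBN h.ge)
    exact ih _ hcard B inferInstance rfl le_sup_right (hBN.trans hNH₁) hcoB

end Cfsg.Lib.InducedFamily
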