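import Cfsg.Agent.Chars.Construct
import Cfsg.Agent.Chars.Count
import Cfsg.Agent.Chars.Galois
import Cfsg.Agent.Chars.Induced
import Cfsg.Agent.Chars.Irr

/-!
A cyclic group acting on a normal complement with constant fixed points: the irreducible
characters not vanishing off the fixed points.
-/

set_option autoImplicit false
set_option linter.unusedSectionVars false
set_option linter.style.haveILetI false

namespace Cfsg.Lib.PrimeCyclic

open scoped Pointwise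
open Finset
open Cfsg.Lib.Chars

universe u

/-! ## Linear characters of a commutative group -/

section Linear

variable {A : Type u} [Group A] [Finite A]

/-- A linear character as an irreducible character. -/
noncomputable def linIrr (f : A →* ℂˣ) : Cfsg.IrrCharacter A := ⟨fun a => (f a : ℂ), isIrrCharacter_linear f⟩

theorem linIrr_injective : Function.Injective (linIrr (A := A)) := fun f g h => by
  refine MonoidHom.ext fun a => Units.ext ?_
  exact congrFun (congrArg Subtype.val h) a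

noncomputable instance linFintype : Fintype (A →* ℂˣ) :=
  @Fintype.ofFinite _ (Finite.of_injective _ linIrr_injective)

theorem linIrr_bijective (hA : ∀ a b : A, a * b = b * a) : Function.Bijective (linIrr (A := A)) := by
  refine ⟨linIrr_injective, fun χ => ?_⟩
  obtain ⟨f, hf⟩ := exists_hom_of_deg_one (isCharacter_of_irr χ.2) (irr_deg_one_of_comm hA χ.2)
  exact ⟨f, Subtype.ext hf.symm⟩

theorem card_lin (hA : ∀ a b : A, a * b = b * a) : Fintype.card (A →* ℂˣ) = Nat.card A := by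
  rw [← sum_deg_sq_nat (G := A), ← (Equiv.ofBijective _ (linIrr_bijective hA)).sum_comp]
  have h : ∀ f : A →* ℂˣ, deg (linIrr f : A → ℂ) ^ 2 = 1 := fun f => by
    have h1 := IsCharacter.apply_one_eq_deg (isCharacter_linear f)
    simp only [map_one, Units.val_one] at h1
    have h2 : deg (fun a => (f a : ℂ)) = 1 := by exact_mod_cast h1.symm
    show deg (fun a => (f a : ℂ)) ^ 2 = 1
    rw [h2, one_pow]
  simp only [Equiv.ofBijective_apply, h, sum_const, card_univ, smul_eq_mul, mul_one]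

theorem inner_lin [Fintype A] (f g : A →* ℂˣ) :
    Cfsg.classInner (fun a => (f a : ℂ)) (fun a => (g a : ℂ)) = if f = g then 1 else 0 := by
  classical
  rw [classInner_irrChar (isIrrCharacter_linear f) (isIrrCharacter_linear g)]
  exact if_congr ⟨fun h => MonoidHom.ext fun a => Units.ext (congrFun h a), fun h => h ▸ rfl⟩ rfl rfl

theorem sum_lin_mul [Fintype A] (f g : A →* ℂˣ) :
    ∑ a, (f a : ℂ) * starRingEnd ℂ (g a : ℂ) = if f = g then (Nat.card A : ℂ) else 0 := by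
  have h := inner_lin f g
  rw [classInner_def, inv_mul_eq_iff_eq_mul₀ (Nat.cast_ne_zero.mpr Nat.card_pos.ne')] at h
  rw [h, mul_ite, mul_one, mul_zero]

theorem lin_expand [Fintype A] (hA : ∀ a b : A, a * b = b * a) (φ : A → ℂ) (a : A) :
    φ a = ∑ f : A →* ℂˣ, Cfsg.classInner φ (fun x => (f x : ℂ)) * (f a : ℂ) := by
  have hφ : Cfsg.IsClassFunction A φ := fun g h => by rw [hA h g, mul_inv_cancel_right]
  rw [classFunction_expand_apply hφ, ← (Equiv.ofBijective _ (linIrr_bijective hA)).sum_comp]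
  rfl

theorem exists_lin_ne_one [Fintype A] (hA : ∀ a b : A, a * b = b * a) {a : A} (ha : a ≠ 1) :
    ∃ f : A →* ℂˣ, f a ≠ 1 := by
  classical
  by_contra! h
  have h1 := lin_expand hA (fun x => if x = 1 then (1 : ℂ) else 0) a
  have h2 := lin_expand hA (fun x => if x = 1 then (1 : ℂ) else 0) 1
  simp only [if_neg ha, h, Units.val_one, mul_one] at h1
  simp only [if_true, map_one, Units.val_one, mul_one] at h2
  exact one_ne_zero (h2.trans h1.symm)

end Linear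

/-! ## An integral inequality -/

theorem var_bound {ι : Type*} [DecidableEq ι] (s : Finset ι) (c : ι → ℤ) {a b : ι} (ha : a ∈ s) (hb : b ∈ s)
    (hab : c a ≠ c b) :
    2 * ((s.card : ℤ) - 1) ≤ ∑ i ∈ s, ∑ j ∈ s, (c i - c j) ^ 2 ∧
      (3 ≤ s.card → ∑ i ∈ s, ∑ j ∈ s, (c i - c j) ^ 2 = 2 * ((s.card : ℤ) - 1) →
        ∃ i₀ ∈ s, ∃ d : ℤ, (d = 1 ∨ d = -1) ∧ ∀ j ∈ s, j ≠ i₀ → c i₀ = c j + d) := by
  have hne : a ≠ b := fun h => hab (h ▸ rfl)
  set t := (s.erase a).erase b with ht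
  have hb' : b ∈ s.erase a := mem_erase.mpr ⟨hne.symm, hb⟩
  have hsplit : ∀ F : ι → ℤ, ∑ i ∈ s, F i = F a + (F b + ∑ i ∈ t, F i) := fun F => by
    rw [← add_sum_erase s F ha, ← add_sum_erase (s.erase a) F hb']
  set g : ι → ℤ := fun i => (c a - c i) ^ 2 + (c b - c i) ^ 2 with hg
  have hS : ∑ i ∈ s, ∑ j ∈ s, (c i - c j) ^ 2 =
      2 * (c a - c b) ^ 2 + 2 * (∑ i ∈ t, g i) + ∑ i ∈ t, ∑ j ∈ t, (c i - c j) ^ 2 := by
    rw [hsplit, sum_congr rfl fun i (_ : i ∈ t) => hsplit (fun j => (c i - c j) ^ 2),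
      hsplit (fun j => (c a - c j) ^ 2), hsplit (fun j => (c b - c j) ^ 2)]
    simp only [sum_add_distrib, hg]
    have hsym : ∀ z, ∑ i ∈ t, (c i - c z) ^ 2 = ∑ i ∈ t, (c z - c i) ^ 2 :=
      fun z => sum_congr rfl fun i _ => by ring
    rw [hsym a, hsym b]
    ring
  have hd : 1 ≤ (c a - c b) ^ 2 := by
    have h : c a - c b ≠ 0 := sub_ne_zero.mpr hab
    have := Int.one_le_abs h
    nlinarith [sq_abs (c a - c b)]
  have hg1 : ∀ i, 1 ≤ g i := fun i => by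
    by_cases h : c a = c i
    · have h' : c b - c i ≠ 0 := sub_ne_zero.mpr fun e => hab (h.trans e.symm)
      have := Int.one_le_abs h'
      simp only [hg]
      nlinarith [sq_abs (c b - c i), sq_nonneg (c a - c i)]
    · have h' : c a - c i ≠ 0 := sub_ne_zero.mpr h
      have := Int.one_le_abs h'
      simp only [hg]
      nlinarith [sq_abs (c a - c i), sq_nonneg (c b - c i)]
  have hG : (t.card : ℤ) ≤ ∑ i ∈ t, g i := by
    simpa using card_nsmul_le_sum t g 1 fun i _ => hg1 i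
  have hR : 0 ≤ ∑ i ∈ t, ∑ j ∈ t, (c i - c j) ^ 2 := sum_nonneg fun i _ => sum_nonneg fun j _ => sq_nonneg _
  have hcard : (s.card : ℤ) = t.card + 2 := by
    have h1 := card_erase_add_one ha
    have h2 := card_erase_add_one hb'
    rw [← ht] at h2
    omega
  refine ⟨by rw [hS]; linarith, fun h3 heq => ?_⟩
  rw [hS] at heq
  have e1 : (c a - c b) ^ 2 = 1 := by linarith
  have e2 : ∑ i ∈ t, g i = t.card := by linarith
  have e3 : ∑ i ∈ t, ∑ j ∈ t, (c i - c j) ^ 2 = 0 := by linarith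
  have hall : ∀ i ∈ t, ∀ j ∈ t, c i = c j := fun i hi j hj => by
    have h1 := (sum_eq_zero_iff_of_nonneg fun i _ => sum_nonneg fun j _ => sq_nonneg _).mp e3 i hi
    have h2 := (sum_eq_zero_iff_of_nonneg fun j _ => sq_nonneg _).mp h1 j hj
    exact sub_eq_zero.mp (pow_eq_zero_iff two_ne_zero |>.mp h2)
  have hg2 : ∀ i ∈ t, g i = 1 := fun i hi => by
    by_contra h
    have h2 : 1 < g i := lt_of_le_of_ne (hg1 i) (Ne.symm h)
    have h3 := sum_lt_sum (f := fun _ => (1 : ℤ)) (fun j _ => hg1 j) ⟨i, hi, h2⟩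
    simp at h3
    omega
  obtain ⟨k, hk⟩ : t.Nonempty := card_pos.mp (by omega)
  have hkg := hg2 k hk
  simp only [hg] at hkg
  have hd' : c a - c b = 1 ∨ c a - c b = -1 := sq_eq_one_iff.mp e1
  have hmem : ∀ j ∈ s, j = a ∨ j = b ∨ j ∈ t := fun j hj => by
    by_cases h1 : j = a
    · exact Or.inl h1
    by_cases h2 : j = b
    · exact Or.inr (Or.inl h2)
    exact Or.inr (Or.inr (mem_erase.mpr ⟨h2, mem_erase.mpr ⟨h1, hj⟩⟩))
  by_cases hka : c a = c k
  · refine ⟨b, hb, c b - c a, by omega, fun j hj hjb => ?_⟩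
    rcases hmem j hj with rfl | h | h
    · ring
    · exact absurd h hjb
    · rw [hall j h k hk, ← hka]; ring
  · have h' : c a - c k ≠ 0 := sub_ne_zero.mpr hka
    have := Int.one_le_abs h'
    have hkb : c b = c k := by
      have : (c b - c k) ^ 2 ≤ 0 := by nlinarith [sq_abs (c a - c k)]
      exact sub_eq_zero.mp (pow_eq_zero_iff two_ne_zero |>.mp (le_antisymm this (sq_nonneg _)))
    refine ⟨a, ha, c a - c b, hd', fun j hj hja => ?_⟩
    rcases hmem j hj with h | rfl | h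
    · exact absurd h hja
    · ring
    · rw [hall j h k hk, ← hkb]; ring

/-! ## The setting -/

variable {L : Type u} [Group L] [Fintype L] {K W₁ W₂ : Subgroup L}

/-- The hypotheses. -/
structure Hyp (K W₁ W₂ : Subgroup L) : Prop where
  normal : K.Normal
  disj : K ⊓ W₁ = ⊥
  top : K ⊔ W₁ = ⊤
  ne : W₁ ≠ ⊥
  cyc₁ : IsCyclic W₁
  cop : (Nat.card W₁).Coprime (Nat.card W₂)
  le : W₂ ≤ K
  fix : ∀ x ∈ W₁, x ≠ 1 → K ⊓ Subgroup.centralizer ({x} : Set L) = W₂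
  comm : ∀ a ∈ W₁ ⊔ W₂, ∀ b ∈ W₁ ⊔ W₂, a * b = b * a
  odd : Odd (Nat.card ↥(W₁ ⊔ W₂))

theorem hyp_of (K W₁ W₂ : Subgroup L) [hK : K.Normal] (hKW₁ : K ⊓ W₁ = ⊥) (hKW₁' : K ⊔ W₁ = ⊤)
    (hW₁ : W₁ ≠ ⊥) (hW₁c : IsCyclic W₁) (hHall : Nat.Coprime (Nat.card W₁) W₁.index) (hW₂K : W₂ ≤ K)
    (hC : ∀ x ∈ W₁, x ≠ 1 → K ⊓ Subgroup.centralizer ({x} : Set L) = W₂)
    (hcyc : IsCyclic ↥(W₁ ⊔ W₂)) (hodd : Odd (Nat.card ↥(W₁ ⊔ W₂))) : Hyp K W₁ W₂ := by
  refine ⟨hK, hKW₁, hKW₁', hW₁, hW₁c, ?_, hW₂K, hC, fun a ha b hb => ?_, hodd⟩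
  · have h : K.IsComplement' W₁ := Subgroup.isComplement'_of_disjoint_and_mul_eq_univ
      (disjoint_iff.mpr hKW₁) (by rw [← Subgroup.coe_mul_of_right_le_normalizer_left K W₁
        Subgroup.le_normalizer_of_normal, hKW₁']; rfl)
    exact Nat.Coprime.coprime_dvd_right (Subgroup.card_dvd_of_le hW₂K) (h.index_eq_card ▸ hHall)
  · exact congrArg Subtype.val (@mul_comm' _ _ (@IsCyclic.isMulCommutative _ _ hcyc) ⟨a, ha⟩ ⟨b, hb⟩)

namespace Hyp

variable (h : Hyp K W₁ W₂)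
include h

theorem decomp {x : L} (hx : x ∈ W₁ ⊔ W₂) : ∃ a ∈ W₁, ∃ b ∈ W₂, x = a * b := by
  have hn : W₂ ≤ Subgroup.normalizer (W₁ : Set L) := fun b hb => by
    refine mem_normalizer_of_forall fun z hz => ?_
    rw [h.comm b (Subgroup.mem_sup_right hb) z (Subgroup.mem_sup_left hz), mul_inv_cancel_right]
    exact hz
  rw [← SetLike.mem_coe, Subgroup.coe_mul_of_right_le_normalizer_left _ _ hn] at hx
  obtain ⟨a, ha, b, hb, rfl⟩ := Set.mem_mul.mp hx
  exact ⟨a, ha, b, hb, rfl⟩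
where
  mem_normalizer_of_forall {H : Subgroup L} {g : L} (hg : ∀ z ∈ H, g * z * g⁻¹ ∈ H) :
      g ∈ Subgroup.normalizer (H : Set L) := by
    rw [Subgroup.mem_normalizer_iff_map_conj_eq]
    refine Subgroup.eq_of_le_of_card_ge (Subgroup.map_le_iff_le_comap.mpr fun z hz => hg z hz) ?_
    rw [Subgroup.card_map_of_injective (MulAut.conj g).injective]

theorem exists_proj : ∃ π : L →* W₁, (∀ a : W₁, π a = a) ∧ ∀ k ∈ K, π k = 1 := by
  haveI := h.normal
  set f := (QuotientGroup.mk' K).comp W₁.subtype with hf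
  have hinj : Function.Injective f := by
    rw [injective_iff_map_eq_one]
    intro a ha
    have h1 : (a : L) ∈ K ⊓ W₁ := ⟨(QuotientGroup.eq_one_iff _).mp ha, a.2⟩
    rw [h.disj, Subgroup.mem_bot] at h1
    exact Subtype.ext h1
  have hsurj : Function.Surjective f := fun q => by
    obtain ⟨g, rfl⟩ := QuotientGroup.mk_surjective q
    obtain ⟨k, hk, w, hw, rfl⟩ := Subgroup.mem_sup_of_normal_left.mp (h.top.ge (Subgroup.mem_top g))
    refine ⟨⟨w, hw⟩, ?_⟩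
    show (QuotientGroup.mk w : L ⧸ K) = QuotientGroup.mk (k * w)
    rw [QuotientGroup.mk_mul, (QuotientGroup.eq_one_iff k).mpr hk, one_mul]
  let e := MulEquiv.ofBijective f ⟨hinj, hsurj⟩
  refine ⟨e.symm.toMonoidHom.comp (QuotientGroup.mk' K), fun a => e.symm_apply_apply a, fun k hk => ?_⟩
  show e.symm (QuotientGroup.mk k) = 1
  rw [(QuotientGroup.eq_one_iff k).mpr hk, map_one]

/-- The projection to the complement. -/
noncomputable def proj : L →* W₁ := h.exists_proj.choose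

theorem proj_self (a : W₁) : h.proj a = a := h.exists_proj.choose_spec.1 a

theorem proj_ker {k : L} (hk : k ∈ K) : h.proj k = 1 := h.exists_proj.choose_spec.2 k hk

theorem proj_mul {a b : L} (ha : a ∈ W₁) (hb : b ∈ W₂) : (h.proj (a * b) : L) = a := by
  rw [map_mul, h.proj_ker (h.le hb), mul_one, h.proj_self ⟨a, ha⟩]

theorem proj_eq_one_iff {x : L} (hx : x ∈ W₁ ⊔ W₂) : h.proj x = 1 ↔ x ∈ W₂ := by
  refine ⟨fun h1 => ?_, fun h1 => h.proj_ker (h.le h1)⟩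
  obtain ⟨a, ha, b, hb, rfl⟩ := h.decomp hx
  have := h.proj_mul ha hb
  rw [h1] at this
  rwa [← this, Subgroup.coe_one, one_mul]

theorem card_W : Nat.card ↥(W₁ ⊔ W₂) = Nat.card W₁ * Nat.card W₂ := by
  rw [← Nat.card_prod]
  refine Nat.card_congr (Equiv.ofBijective (fun ab : W₁ × W₂ =>
    (⟨(ab.1 : L) * ab.2, mul_mem (Subgroup.mem_sup_left ab.1.2) (Subgroup.mem_sup_right ab.2.2)⟩ : ↥(W₁ ⊔ W₂)))
    ⟨fun x y e => ?_, fun x => ?_⟩).symm
  · have e' : (x.1 : L) * x.2 = y.1 * y.2 := congrArg Subtype.val e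
    have e1 : x.1 = y.1 := Subtype.ext (by
      rw [← h.proj_mul x.1.2 x.2.2, ← h.proj_mul y.1.2 y.2.2, e'])
    refine Prod.ext e1 (Subtype.ext ?_)
    rwa [e1, mul_right_inj] at e'
  · obtain ⟨a, ha, b, hb, e⟩ := h.decomp x.2
    exact ⟨(⟨a, ha⟩, ⟨b, hb⟩), Subtype.ext e.symm⟩

theorem three_le : 3 ≤ Nat.card W₁ := by
  have h1 : Odd (Nat.card W₁) := Odd.of_dvd_nat h.odd (Subgroup.card_dvd_of_le le_sup_left)
  have h2 : 1 < Nat.card W₁ := (Subgroup.one_lt_card_iff_ne_bot W₁).mpr h.ne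
  obtain ⟨k, hk⟩ := h1
  omega

theorem conj_eq {x y g : L} (hx : x ∈ W₁ ⊔ W₂) (hx2 : x ∉ W₂) (hy : y ∈ W₁ ⊔ W₂) (hxy : g * x * g⁻¹ = y) :
    g ∈ W₁ ⊔ W₂ ∧ x = y := by
  obtain ⟨a, ha, b, hb, rfl⟩ := h.decomp hx
  obtain ⟨a', ha', b', hb', rfl⟩ := h.decomp hy
  have ha1 : a ≠ 1 := fun e => hx2 (by rw [e, one_mul]; exact hb)
  obtain ⟨t, ht0, ht1⟩ := Nat.chineseRemainder h.cop.symm 0 1
  have hpow : ∀ a ∈ W₁, ∀ b ∈ W₂, (a * b) ^ t = a := by
    intro a ha b hb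
    rw [(show Commute a b from h.comm a (Subgroup.mem_sup_left ha) b (Subgroup.mem_sup_right hb)).mul_pow]
    obtain ⟨d, hd⟩ := Nat.modEq_zero_iff_dvd.mp ht0
    have hbp : b ^ Nat.card W₂ = 1 := congrArg Subtype.val (pow_card_eq_one' (x := (⟨b, hb⟩ : W₂)))
    have hap : a ^ Nat.card W₁ = 1 := congrArg Subtype.val (pow_card_eq_one' (x := (⟨a, ha⟩ : W₁)))
    rw [show b ^ t = 1 by rw [hd, pow_mul, hbp, one_pow], mul_one]
    conv_rhs => rw [← pow_one a]
    exact pow_eq_pow_iff_modEq.mpr (ht1.of_dvd (orderOf_dvd_of_pow_eq_one hap))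
  have h1 := congrArg (fun z => z ^ t) hxy
  simp only [conj_pow, hpow a ha b hb, hpow a' ha' b' hb'] at h1
  haveI := h.normal
  obtain ⟨k, hk, w, hw, rfl⟩ := Subgroup.mem_sup_of_normal_left.mp (h.top.ge (Subgroup.mem_top g))
  have hwx : w * a * w⁻¹ = a := by
    rw [h.comm w (Subgroup.mem_sup_left hw) a (Subgroup.mem_sup_left ha), mul_inv_cancel_right]
  rw [show k * w * a * (k * w)⁻¹ = k * (w * a * w⁻¹) * k⁻¹ by group, hwx] at h1
  have e : a' = a := by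
    have h3 := congrArg (fun z => (h.proj z : L)) h1
    simp only [map_mul, map_inv, h.proj_ker hk, inv_one, one_mul, mul_one] at h3
    rwa [h.proj_self ⟨a, ha⟩, h.proj_self ⟨a', ha'⟩, eq_comm] at h3
  rw [e, mul_inv_eq_iff_eq_mul] at h1
  have hk2 : k ∈ K ⊓ Subgroup.centralizer ({a} : Set L) :=
    ⟨hk, Subgroup.mem_centralizer_singleton_iff.mpr h1⟩
  rw [h.fix a ha ha1] at hk2
  have hg : k * w ∈ W₁ ⊔ W₂ := mul_mem (Subgroup.mem_sup_right hk2) (Subgroup.mem_sup_left hw)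
  refine ⟨hg, ?_⟩
  rw [← hxy, h.comm _ hg _ hx, mul_inv_cancel_right]

theorem centralizer_eq {x : L} (hx : x ∈ W₁ ⊔ W₂) (hx2 : x ∉ W₂) :
    Subgroup.centralizer ({x} : Set L) = W₁ ⊔ W₂ := by
  refine le_antisymm (fun g hg => ?_) fun g hg => Subgroup.mem_centralizer_singleton_iff.mpr (h.comm g hg x hx)
  refine (h.conj_eq hx hx2 hx ?_).1
  rw [Subgroup.mem_centralizer_singleton_iff.mp hg, mul_inv_cancel_right]

variable [Fintype ↥(W₁ ⊔ W₂)]

/-- The elements off the fixed points. -/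
noncomputable def offSet (_h : Hyp K W₁ W₂) : Finset ↥(W₁ ⊔ W₂) :=
  letI : DecidablePred fun x : ↥(W₁ ⊔ W₂) => (x : L) ∉ W₂ := Classical.decPred _
  Finset.univ.filter fun x => (x : L) ∉ W₂

theorem mem_offSet {x : ↥(W₁ ⊔ W₂)} : x ∈ h.offSet ↔ (x : L) ∉ W₂ := by
  simp [offSet]

theorem mul_comm_W (x y : ↥(W₁ ⊔ W₂)) : x * y = y * x := Subtype.ext (h.comm x x.2 y y.2)

theorem column {x y : ↥(W₁ ⊔ W₂)} (hx : x ∈ h.offSet) (hy : y ∈ h.offSet) [DecidableEq ↥(W₁ ⊔ W₂)] :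
    ∑ χ : Cfsg.IrrCharacter L, (χ : L → ℂ) x * starRingEnd ℂ ((χ : L → ℂ) y) =
      if x = y then (Nat.card ↥(W₁ ⊔ W₂) : ℂ) else 0 := by
  classical
  rw [second_orthogonality]
  by_cases e : x = y
  · rw [if_pos (e ▸ IsConj.refl _), if_pos e, h.centralizer_eq x.2 (h.mem_offSet.mp hx)]
  · rw [if_neg e, if_neg]
    intro hc
    obtain ⟨g, hg⟩ := isConj_iff.mp hc
    exact e (Subtype.ext (h.conj_eq x.2 (h.mem_offSet.mp hx) y.2 hg).2)

/-- Restriction of linear characters to the fixed points. -/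
noncomputable def res (_h : Hyp K W₁ W₂) (ω : ↥(W₁ ⊔ W₂) →* ℂˣ) : W₂ →* ℂˣ :=
  ω.comp (Subgroup.inclusion le_sup_right)

/-- A character of the complement, seen on the product. -/
noncomputable def tw (l : W₁ →* ℂˣ) : ↥(W₁ ⊔ W₂) →* ℂˣ := (l.comp h.proj).comp (W₁ ⊔ W₂).subtype

theorem res_tw (ω : ↥(W₁ ⊔ W₂) →* ℂˣ) (l : W₁ →* ℂˣ) : h.res (ω * h.tw l) = h.res ω := by
  refine MonoidHom.ext fun b => ?_
  show ω _ * l (h.proj b) = ω _
  rw [h.proj_ker (h.le b.2), map_one, mul_one]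

theorem exists_tw {ω ω' : ↥(W₁ ⊔ W₂) →* ℂˣ} (e : h.res ω' = h.res ω) : ∃ l, ω' = ω * h.tw l := by
  let i : W₁ →* ↥(W₁ ⊔ W₂) := Subgroup.inclusion le_sup_left
  refine ⟨(ω⁻¹ * ω').comp i, MonoidHom.ext fun x => ?_⟩
  obtain ⟨a, ha, b, hb, hxab⟩ := h.decomp x.2
  have hx : x = i ⟨a, ha⟩ * Subgroup.inclusion (le_sup_right : W₂ ≤ W₁ ⊔ W₂) ⟨b, hb⟩ := Subtype.ext hxab
  have hp : h.proj (x : L) = ⟨a, ha⟩ := Subtype.ext (by rw [hxab, h.proj_mul ha hb])
  have hb' := DFunLike.congr_fun e ⟨b, hb⟩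
  simp only [res, MonoidHom.comp_apply] at hb'
  show ω' x = ω x * ((ω⁻¹ * ω').comp i (h.proj (x : L)))
  rw [hp, MonoidHom.comp_apply, MonoidHom.mul_apply, MonoidHom.inv_apply, hx, map_mul, map_mul, hb']
  rw [mul_comm (ω (i ⟨a, ha⟩)), mul_assoc, mul_inv_cancel_left, mul_comm]

theorem tw_injective : Function.Injective h.tw := fun l l' e => MonoidHom.ext fun a => by
  have := DFunLike.congr_fun e ⟨a, Subgroup.mem_sup_left a.2⟩
  simpa [tw, h.proj_self] using this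

/-- The fibre of the restriction map. -/
noncomputable def fib (ω : ↥(W₁ ⊔ W₂) →* ℂˣ) : Finset (↥(W₁ ⊔ W₂) →* ℂˣ) :=
  letI := Classical.decEq (W₂ →* ℂˣ)
  Finset.univ.filter fun ω' => h.res ω' = h.res ω

theorem mem_fib {ω ω' : ↥(W₁ ⊔ W₂) →* ℂˣ} : ω' ∈ h.fib ω ↔ h.res ω' = h.res ω := by
  simp [fib]

theorem card_fib (ω : ↥(W₁ ⊔ W₂) →* ℂˣ) : (h.fib ω).card = Nat.card W₁ := by
  classical
  have hA : ∀ a b : W₁, a * b = b * a :=
    fun a b => Subtype.ext (h.comm a (Subgroup.mem_sup_left a.2) b (Subgroup.mem_sup_left b.2))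
  rw [← card_lin hA, ← Finset.card_univ]
  refine (Finset.card_bij (fun l _ => ω * h.tw l) (fun l _ => h.mem_fib.mpr (h.res_tw ω l))
    (fun l _ l' _ e => h.tw_injective (mul_left_cancel e)) fun ω' hω' => ?_).symm
  obtain ⟨l, hl⟩ := h.exists_tw (h.mem_fib.mp hω')
  exact ⟨l, mem_univ l, hl.symm⟩

/-- The combination of linear characters with given integral coefficients. -/
noncomputable def comb (_h : Hyp K W₁ W₂) (c : (↥(W₁ ⊔ W₂) →* ℂˣ) → ℤ) (x : ↥(W₁ ⊔ W₂)) : ℂ :=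
  ∑ ω, (c ω : ℂ) * (ω x : ℂ)

/-- Twice the square sum off the fixed points, in terms of the coefficients. -/
theorem off_norm (c : (↥(W₁ ⊔ W₂) →* ℂˣ) → ℤ) :
    2 * ∑ x ∈ h.offSet, h.comb c x * starRingEnd ℂ (h.comb c x) =
      (Nat.card W₂ : ℂ) * ((∑ ω, ∑ ω' ∈ h.fib ω, (c ω - c ω') ^ 2 : ℤ) : ℂ) := by
  classical
  haveI : Fintype W₂ := Fintype.ofFinite _
  set ι : W₂ →* ↥(W₁ ⊔ W₂) := Subgroup.inclusion le_sup_right with hι
  have hexp : ∀ x, h.comb c x * starRingEnd ℂ (h.comb c x) =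
      ∑ ω, ∑ ω', (c ω : ℂ) * (c ω' : ℂ) * ((ω x : ℂ) * starRingEnd ℂ (ω' x : ℂ)) := by
    intro x
    simp only [comb, map_sum, map_mul, map_intCast, sum_mul, mul_sum]
    rw [Finset.sum_comm]
    exact sum_congr rfl fun _ _ => sum_congr rfl fun _ _ => by ring
  have hW : ∑ x, h.comb c x * starRingEnd ℂ (h.comb c x) =
      (Nat.card ↥(W₁ ⊔ W₂) : ℂ) * ((∑ ω, c ω * c ω : ℤ) : ℂ) := by
    simp only [hexp]
    rw [Finset.sum_comm]
    simp only [Finset.sum_comm (γ := ↥(W₁ ⊔ W₂)) (α := (↥(W₁ ⊔ W₂) →* ℂˣ)), ← mul_sum, sum_lin_mul, mul_ite,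
      mul_zero, Finset.sum_ite_eq, mem_univ, if_true]
    push_cast
    rw [mul_sum]
    exact sum_congr rfl fun _ _ => by ring
  have hW2 : ∑ x ∈ (h.offSet)ᶜ, h.comb c x * starRingEnd ℂ (h.comb c x) =
      (Nat.card W₂ : ℂ) * ((∑ ω, ∑ ω' ∈ h.fib ω, c ω * c ω' : ℤ) : ℂ) := by
    rw [show (h.offSet)ᶜ = (univ : Finset W₂).image ι from ?_,
      sum_image (fun a _ b _ e => Subgroup.inclusion_injective _ e)]
    swap
    · ext x
      simp only [mem_compl, h.mem_offSet, not_not, mem_image, mem_univ, true_and]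
      exact ⟨fun hx => ⟨⟨x, hx⟩, Subtype.ext rfl⟩, fun ⟨b, hb⟩ => hb ▸ b.2⟩
    simp only [hexp]
    rw [Finset.sum_comm]
    simp only [Finset.sum_comm (γ := W₂) (α := (↥(W₁ ⊔ W₂) →* ℂˣ)), ← mul_sum]
    push_cast
    rw [mul_sum]
    refine sum_congr rfl fun ω _ => ?_
    rw [fib, sum_filter, mul_sum, mul_sum]
    refine sum_congr rfl fun ω' _ => ?_
    have : ∑ a : W₂, (ω (Subgroup.inclusion le_sup_right a) : ℂ) *
        starRingEnd ℂ (ω' (Subgroup.inclusion le_sup_right a) : ℂ) =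
        if h.res ω = h.res ω' then (Nat.card W₂ : ℂ) else 0 := sum_lin_mul (h.res ω) (h.res ω')
    rw [this]
    by_cases e : h.res ω' = h.res ω
    · rw [if_pos e]
      split_ifs with e'
      · ring
      · exact absurd e.symm e'
    · rw [if_neg e]
      split_ifs with e'
      · exact absurd e'.symm e
      · ring
  have hsplit : ∑ x ∈ h.offSet, h.comb c x * starRingEnd ℂ (h.comb c x) =
      ∑ x, h.comb c x * starRingEnd ℂ (h.comb c x) -
        ∑ x ∈ (h.offSet)ᶜ, h.comb c x * starRingEnd ℂ (h.comb c x) := by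
    rw [eq_sub_iff_add_eq, sum_add_sum_compl]
  have hsym : ∑ ω, ∑ ω' ∈ h.fib ω, c ω' * c ω' = ∑ ω, ∑ ω' ∈ h.fib ω, c ω * c ω :=
    Finset.sum_comm' fun a b => by simp [h.mem_fib, eq_comm]
  have hfin : ∑ ω, ∑ ω' ∈ h.fib ω, (c ω - c ω') ^ 2 =
      2 * ((Nat.card W₁ : ℤ) * ∑ ω, c ω * c ω) - 2 * ∑ ω, ∑ ω' ∈ h.fib ω, c ω * c ω' := by
    simp only [sub_sq]
    simp only [sum_add_distrib, sum_sub_distrib, pow_two]
    rw [hsym]
    simp only [sum_const, h.card_fib, nsmul_eq_mul, mul_assoc, ← mul_sum]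
    ring
  rw [hsplit, hW, hW2, hfin, h.card_W]
  push_cast
  ring

theorem comb_zero_iff (c : (↥(W₁ ⊔ W₂) →* ℂˣ) → ℤ) :
    (∀ x ∈ h.offSet, h.comb c x = 0) ↔ ∀ ω, ∀ ω' ∈ h.fib ω, c ω = c ω' := by
  have key := h.off_norm c
  constructor
  · intro h0 ω ω' hω'
    rw [sum_eq_zero (fun x hx => by rw [h0 x hx, zero_mul]), mul_zero, eq_comm, mul_eq_zero,
      Int.cast_eq_zero] at key
    have k1 := key.resolve_left (Nat.cast_ne_zero.mpr Nat.card_pos.ne')
    have k2 := (sum_eq_zero_iff_of_nonneg fun a _ => sum_nonneg fun b _ => sq_nonneg _).mp k1 ω (mem_univ ω)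
    have k3 := (sum_eq_zero_iff_of_nonneg fun b _ => sq_nonneg _).mp k2 ω' hω'
    exact sub_eq_zero.mp (pow_eq_zero_iff two_ne_zero |>.mp k3)
  · intro hc x hx
    have hz : (∑ ω, ∑ ω' ∈ h.fib ω, (c ω - c ω') ^ 2 : ℤ) = 0 :=
      sum_eq_zero fun ω _ => sum_eq_zero fun ω' hω' => by rw [hc ω ω' hω']; ring
    rw [hz, Int.cast_zero, mul_zero, mul_eq_zero] at key
    have k1 := key.resolve_left two_ne_zero
    simp only [Complex.mul_conj, ← Complex.ofReal_sum, Complex.ofReal_eq_zero] at k1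
    exact Complex.normSq_eq_zero.mp ((sum_eq_zero_iff_of_nonneg fun x _ => Complex.normSq_nonneg _).mp k1 x hx)

theorem var_lower {c : (↥(W₁ ⊔ W₂) →* ℂˣ) → ℤ} {ω₀ ω₁ : ↥(W₁ ⊔ W₂) →* ℂˣ} (h1 : ω₁ ∈ h.fib ω₀)
    (hne : c ω₀ ≠ c ω₁) :
    2 * ((Nat.card W₁ : ℤ) - 1) ≤ ∑ ω, ∑ ω' ∈ h.fib ω, (c ω - c ω') ^ 2 ∧
      (∑ ω, ∑ ω' ∈ h.fib ω, (c ω - c ω') ^ 2 = 2 * ((Nat.card W₁ : ℤ) - 1) →
        ∃ η : ↥(W₁ ⊔ W₂) →* ℂˣ, ∃ d : ℤ, (d = 1 ∨ d = -1) ∧ ∀ x ∈ h.offSet, h.comb c x = (d : ℂ) * (η x : ℂ)) := by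
  classical
  have hself : ∀ a, a ∈ h.fib a := fun a => h.mem_fib.mpr rfl
  have hfeq : ∀ a ∈ h.fib ω₀, h.fib a = h.fib ω₀ := fun a ha => by
    ext b; rw [h.mem_fib, h.mem_fib, h.mem_fib.mp ha]
  have hsub : ∑ ω ∈ h.fib ω₀, ∑ ω' ∈ h.fib ω, (c ω - c ω') ^ 2 ≤ ∑ ω, ∑ ω' ∈ h.fib ω, (c ω - c ω') ^ 2 :=
    sum_le_univ_sum_of_nonneg fun a => sum_nonneg fun b _ => sq_nonneg _
  rw [sum_congr rfl fun a ha => by rw [hfeq a ha]] at hsub
  obtain ⟨hb1, hb2⟩ := var_bound (h.fib ω₀) c (hself ω₀) h1 hne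
  rw [h.card_fib] at hb1 hb2
  refine ⟨hb1.trans hsub, fun heq => ?_⟩
  have heq' := le_antisymm (hsub.trans heq.le) hb1
  obtain ⟨η, hη, d, hd, hj⟩ := hb2 h.three_le heq'
  refine ⟨η, d, hd, fun x hx => ?_⟩
  set e : (↥(W₁ ⊔ W₂) →* ℂˣ) → ℤ := fun ω => c ω - if ω = η then d else 0 with he
  have hconst : ∀ ω, ∀ ω' ∈ h.fib ω, e ω = e ω' := by
    intro ω ω' hω'
    by_cases hω : ω ∈ h.fib ω₀
    · rw [hfeq ω hω] at hω'
      have key : ∀ a ∈ h.fib ω₀, e a = c η - d := fun a ha => by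
        simp only [he]
        by_cases hae : a = η
        · rw [if_pos hae, hae]
        · rw [if_neg hae, hj a ha hae]; ring
      rw [key ω hω, key ω' hω']
    · have houts : ∀ a, a ∉ h.fib ω₀ → e a = c a := fun a ha => by
        simp only [he]
        rw [if_neg (fun e : a = η => ha (e ▸ hη)), sub_zero]
      have hω'0 : ω' ∉ h.fib ω₀ := fun hh => hω (h.mem_fib.mpr ((h.mem_fib.mp hω').symm.trans (h.mem_fib.mp hh)))
      rw [houts ω hω, houts ω' hω'0]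
      by_contra hcc
      have hrest : ∑ a ∈ (h.fib ω₀)ᶜ, ∑ b ∈ h.fib a, (c a - c b) ^ 2 = 0 := by
        have hs := sum_add_sum_compl (h.fib ω₀) fun a => ∑ b ∈ h.fib a, (c a - c b) ^ 2
        rw [sum_congr rfl fun a ha => by rw [hfeq a ha], heq', heq] at hs
        linarith
      have k2 := (sum_eq_zero_iff_of_nonneg fun a _ => sum_nonneg fun b _ => sq_nonneg _).mp hrest ω
        (mem_compl.mpr hω)
      have k3 := (sum_eq_zero_iff_of_nonneg fun b _ => sq_nonneg _).mp k2 ω' hω'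
      exact hcc (sub_eq_zero.mp (pow_eq_zero_iff two_ne_zero |>.mp k3))
  have := (h.comb_zero_iff e).mpr hconst x hx
  simp only [comb, he, Int.cast_sub, sub_mul, sum_sub_distrib, Int.cast_ite, Int.cast_zero, ite_mul, zero_mul,
    sum_ite_eq', mem_univ, if_true] at this
  exact sub_eq_zero.mp this

theorem card_offSet : (h.offSet.card : ℂ) = (Nat.card W₂ : ℂ) * ((Nat.card W₁ : ℂ) - 1) := by
  classical
  have h1 : h.offSetᶜ.card = Nat.card W₂ := by
    haveI : Fintype W₂ := Fintype.ofFinite _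
    rw [Nat.card_eq_fintype_card, ← card_univ]
    refine (card_bij (fun b _ => (Subgroup.inclusion le_sup_right b : ↥(W₁ ⊔ W₂)))
      (fun b _ => by simp [h.mem_offSet]) (fun a _ b _ e => Subgroup.inclusion_injective _ e) fun x hx => ?_).symm
    simp only [mem_compl, h.mem_offSet, not_not] at hx
    exact ⟨⟨x, hx⟩, mem_univ _, Subtype.ext rfl⟩
  have h2 := card_add_card_compl h.offSet
  rw [h1, ← Nat.card_eq_fintype_card, h.card_W] at h2
  have h3 : (h.offSet.card : ℂ) + Nat.card W₂ = (Nat.card W₁ : ℂ) * Nat.card W₂ := by exact_mod_cast h2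
  linear_combination h3

theorem eq_of_off {ω ω' : ↥(W₁ ⊔ W₂) →* ℂˣ} {d d' : ℂ} (hd : d ≠ 0)
    (e : ∀ x ∈ h.offSet, d * (ω x : ℂ) = d' * (ω' x : ℂ)) : ω = ω' ∧ d = d' := by
  obtain ⟨g, hg⟩ := h.cyc₁.exists_generator
  have hA : ∀ z : ↥(W₁ ⊔ W₂), ∃ x ∈ h.offSet, x * z ∈ h.offSet := by
    intro z
    obtain ⟨a', ha'⟩ : ∃ a' : W₁, a' ≠ 1 ∧ a' * h.proj z ≠ 1 := by
      classical
      haveI : Fintype W₁ := Fintype.ofFinite _
      by_contra! hh
      have hsub : (univ : Finset W₁) ⊆ {1, (h.proj z)⁻¹} := fun a _ => by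
        rcases eq_or_ne a 1 with e | e
        · simp [e]
        · simp [eq_inv_of_mul_eq_one_left (hh a e)]
      have := (card_le_card hsub).trans card_le_two
      rw [card_univ, ← Nat.card_eq_fintype_card] at this
      have := h.three_le
      omega
    refine ⟨⟨a', Subgroup.mem_sup_left a'.2⟩, h.mem_offSet.mpr fun hh => ha'.1 ?_, h.mem_offSet.mpr fun hh => ha'.2 ?_⟩
    · rw [← h.proj_self a']; exact h.proj_ker (h.le hh)
    · rw [← h.proj_self a', ← map_mul]; exact h.proj_ker (h.le hh)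
  have hval : ∀ z, ω z = ω' z := by
    intro z
    obtain ⟨x, hx, hxz⟩ := hA z
    have e1 := e x hx
    have e2 := e _ hxz
    rw [map_mul, map_mul, Units.val_mul, Units.val_mul, ← mul_assoc, ← mul_assoc, ← e1] at e2
    exact Units.ext (mul_left_cancel₀ (mul_ne_zero hd (Units.ne_zero _)) e2)
  have hω := MonoidHom.ext hval
  obtain ⟨x, hx, -⟩ := hA 1
  have e1 := e x hx
  rw [hω] at e1
  exact ⟨hω, mul_right_cancel₀ (Units.ne_zero _) e1⟩

theorem exists_coeff (χ : Cfsg.IrrCharacter L) :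
    ∃ c : (↥(W₁ ⊔ W₂) →* ℂˣ) → ℤ, ∀ x : ↥(W₁ ⊔ W₂), (χ : L → ℂ) x = h.comb c x := by
  have hc := IsCharacter.restrict (isCharacter_of_irr χ.2) (W₁ ⊔ W₂)
  choose m hm using fun ω : ↥(W₁ ⊔ W₂) →* ℂˣ => IsCharacter.exists_mult hc (isIrrCharacter_linear ω)
  refine ⟨fun ω => m ω, fun x => ?_⟩
  refine (lin_expand h.mul_comm_W (fun y : ↥(W₁ ⊔ W₂) => (χ : L → ℂ) y) x).trans ?_
  simp only [comb, hm, Int.cast_natCast]

/-- The characters not vanishing off the fixed points. -/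
noncomputable def nonvan : Finset (Cfsg.IrrCharacter L) :=
  letI : DecidablePred fun χ : Cfsg.IrrCharacter L => ∃ x ∈ h.offSet, (χ : L → ℂ) x ≠ 0 := Classical.decPred _
  Finset.univ.filter fun χ => ∃ x ∈ h.offSet, (χ : L → ℂ) x ≠ 0

theorem mem_nonvan {χ : Cfsg.IrrCharacter L} : χ ∈ h.nonvan ↔ ∃ x ∈ h.offSet, (χ : L → ℂ) x ≠ 0 := by
  simp [nonvan]

/-- The twist of an irreducible character of the whole group. -/
noncomputable def twist (l : W₁ →* ℂˣ) (χ : Cfsg.IrrCharacter L) : Cfsg.IrrCharacter L :=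
  ⟨fun g => (l (h.proj g) : ℂ) * (χ : L → ℂ) g, IsIrrCharacter.mul_linear χ.2 (l.comp h.proj)⟩

theorem card_le_nonvan : Nat.card ↥(W₁ ⊔ W₂) ≤ h.nonvan.card := by
  classical
  haveI : Fintype W₂ := Fintype.ofFinite _
  obtain ⟨g, hg⟩ := h.cyc₁.exists_generator
  have hg1 : g ≠ 1 := fun e => h.ne (eq_bot_iff.mpr fun x hx => by
    obtain ⟨m, hm⟩ := Subgroup.mem_zpowers_iff.mp (hg ⟨x, hx⟩)
    rw [e, one_zpow] at hm
    exact Subgroup.mem_bot.mpr (congrArg Subtype.val hm).symm)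
  let v : W₂ → ↥(W₁ ⊔ W₂) := fun b =>
    ⟨(g : L) * b, mul_mem (Subgroup.mem_sup_left g.2) (Subgroup.mem_sup_right b.2)⟩
  have hv : ∀ b, v b ∈ h.offSet := fun b => h.mem_offSet.mpr fun hh => hg1 (by
    have := h.proj_ker (h.le hh)
    exact Subtype.ext ((h.proj_mul g.2 b.2).symm.trans (congrArg Subtype.val this)))
  have hpv : ∀ b, h.proj (v b : L) = g := fun b => Subtype.ext (h.proj_mul g.2 b.2)
  have hfree : ∀ (l : W₁ →* ℂˣ), l g = 1 → l = 1 := fun l hl => MonoidHom.ext fun a => by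
    obtain ⟨m, hm⟩ := Subgroup.mem_zpowers_iff.mp (hg a)
    rw [← hm, map_zpow, hl, one_zpow, MonoidHom.one_apply]
  let N := {χ : Cfsg.IrrCharacter L // ∃ b, (χ : L → ℂ) (v b) ≠ 0}
  have htw : ∀ (l : W₁ →* ℂˣ) χ b, (h.twist l χ : L → ℂ) (v b) = (l g : ℂ) * (χ : L → ℂ) (v b) :=
    fun l χ b => by rw [← hpv b]; rfl
  have hone : ∀ χ, h.twist 1 χ = χ := fun χ => Subtype.ext (funext fun a => by simp [twist])
  have hmul : ∀ l l' χ, h.twist l (h.twist l' χ) = h.twist (l * l') χ := fun l l' χ =>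
    Subtype.ext (funext fun a => by simp [twist, mul_assoc])
  let rel : Setoid N := ⟨fun χ ψ => ∃ l, h.twist l χ.1 = ψ.1,
    fun χ => ⟨1, hone _⟩,
    fun {χ ψ} ⟨l, hl⟩ => ⟨l⁻¹, by rw [← hl, hmul, show l⁻¹ * l = 1 from inv_mul_cancel l, hone]⟩,
    fun {χ ψ θ} ⟨l, hl⟩ ⟨l', hl'⟩ => ⟨l' * l, by rw [← hmul, hl, hl']⟩⟩
  haveI : Fintype (Quotient rel) := Fintype.ofFinite _
  let Φ : (W₂ → ℂ) →ₗ[ℂ] (Quotient rel → ℂ) :=
    { toFun := fun u q => ∑ b, u b * ((Quotient.out q).1 : L → ℂ) (v b)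
      map_add' := fun u u' => funext fun q => by simp [add_mul, sum_add_distrib]
      map_smul' := fun c u => funext fun q => by simp [mul_sum, mul_assoc] }
  have hΦ : Function.Injective Φ := by
    rw [← LinearMap.ker_eq_bot, LinearMap.ker_eq_bot']
    intro u hu
    have hall : ∀ χ : Cfsg.IrrCharacter L, ∑ b, u b * (χ : L → ℂ) (v b) = 0 := by
      intro χ
      by_cases hχ : ∃ b, (χ : L → ℂ) (v b) ≠ 0
      · obtain ⟨l, hl⟩ := Quotient.mk_out (s := rel) (⟨χ, hχ⟩ : N)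
        have := congrFun hu (Quotient.mk rel ⟨χ, hχ⟩)
        change ∑ b, u b * ((Quotient.out (Quotient.mk rel (⟨χ, hχ⟩ : N))).1 : L → ℂ) (v b) = 0 at this
        change ∑ b, u b * (((⟨χ, hχ⟩ : N).1 : Cfsg.IrrCharacter L) : L → ℂ) (v b) = 0
        rw [← hl]
        simp only [htw, mul_left_comm (u _), ← mul_sum, this, mul_zero]
      · push Not at hχ
        exact sum_eq_zero fun b _ => by rw [hχ b, mul_zero]
    funext b'
    have : ∑ χ : Cfsg.IrrCharacter L, (∑ b, u b * (χ : L → ℂ) (v b)) * starRingEnd ℂ ((χ : L → ℂ) (v b')) = 0 :=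
      sum_eq_zero fun χ _ => by rw [hall, zero_mul]
    simp only [sum_mul, mul_assoc] at this
    rw [Finset.sum_comm] at this
    simp only [← mul_sum, h.column (hv _) (hv b'), mul_ite, mul_zero] at this
    rw [sum_eq_single b' (fun b _ hb => if_neg fun e => hb (Subtype.ext (mul_left_cancel
      (congrArg Subtype.val e)))) (by simp), if_pos rfl, mul_eq_zero] at this
    exact this.resolve_right (Nat.cast_ne_zero.mpr Nat.card_pos.ne')
  have hdim := LinearMap.finrank_le_finrank_of_injective hΦ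
  simp only [Module.finrank_pi] at hdim
  have hN : ∀ (χ : N) (l : W₁ →* ℂˣ), h.twist l χ.1 ∈ h.nonvan := fun χ l => by
    obtain ⟨b, hb⟩ := χ.2
    exact h.mem_nonvan.mpr ⟨v b, hv b, by rw [htw]; exact mul_ne_zero (Units.ne_zero _) hb⟩
  have hinj : (univ : Finset ((W₁ →* ℂˣ) × Quotient rel)).card ≤ h.nonvan.card := by
    refine card_le_card_of_injOn (fun lq => h.twist lq.1 (Quotient.out lq.2).1) (fun lq _ => hN _ _) ?_
    rintro ⟨l, q⟩ - ⟨l', q'⟩ - e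
    simp only at e
    have hq : q = q' := by
      rw [← Quotient.out_eq q, ← Quotient.out_eq q']
      exact Quotient.sound ⟨l'⁻¹ * l, by rw [← hmul, e, hmul, show l'⁻¹ * l' = 1 from inv_mul_cancel l', hone]⟩
    subst hq
    obtain ⟨b, hb⟩ := (Quotient.out q).2
    have e2 := congrArg (fun χ : Cfsg.IrrCharacter L => (χ : L → ℂ) (v b)) e
    simp only [htw] at e2
    have hll : l'⁻¹ * l = 1 := hfree _ (by
      rw [MonoidHom.mul_apply, MonoidHom.inv_apply, Units.ext (mul_right_cancel₀ hb e2), inv_mul_cancel])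
    have hll' : l = l' := MonoidHom.ext fun a => by
      have hk := DFunLike.congr_fun hll a
      rw [MonoidHom.mul_apply, MonoidHom.inv_apply, MonoidHom.one_apply] at hk
      exact (inv_mul_eq_one.mp hk).symm
    rw [hll']
  have hA : ∀ a b : W₁, a * b = b * a :=
    fun a b => Subtype.ext (h.comm a (Subgroup.mem_sup_left a.2) b (Subgroup.mem_sup_left b.2))
  rw [card_univ, Fintype.card_prod, card_lin hA] at hinj
  rw [h.card_W, Nat.card_eq_fintype_card (α := W₂)]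
  exact le_trans (Nat.mul_le_mul_left _ hdim) hinj

/-- Every such character agrees with a signed linear character. -/
theorem classify {χ : Cfsg.IrrCharacter L} (hχ : χ ∈ h.nonvan) :
    ∃ η : ↥(W₁ ⊔ W₂) →* ℂˣ, ∃ d : ℂ, (d = 1 ∨ d = -1) ∧ ∀ x ∈ h.offSet, (χ : L → ℂ) x = d * (η x : ℂ) := by
  classical
  choose c hc using h.exists_coeff
  let T : Cfsg.IrrCharacter L → ℤ := fun χ => ∑ ω, ∑ ω' ∈ h.fib ω, (c χ ω - c χ ω') ^ 2
  have hlow : ∀ χ ∈ h.nonvan, 2 * ((Nat.card W₁ : ℤ) - 1) ≤ T χ ∧ (T χ = 2 * ((Nat.card W₁ : ℤ) - 1) →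
      ∃ η : ↥(W₁ ⊔ W₂) →* ℂˣ, ∃ d : ℤ, (d = 1 ∨ d = -1) ∧ ∀ x ∈ h.offSet, h.comb (c χ) x = (d : ℂ) * (η x : ℂ)) := by
    intro χ hχ
    obtain ⟨x, hx, hx0⟩ := h.mem_nonvan.mp hχ
    obtain ⟨ω₀, ω₁, h1, hne⟩ : ∃ ω₀ ω₁, ω₁ ∈ h.fib ω₀ ∧ c χ ω₀ ≠ c χ ω₁ := by
      by_contra! hh
      exact hx0 (by rw [hc χ x, (h.comb_zero_iff (c χ)).mpr hh x hx])
    exact h.var_lower h1 hne
  have hT : (Nat.card W₂ : ℤ) * ∑ χ ∈ h.nonvan, T χ =
      2 * ((Nat.card W₂ : ℤ) * ((Nat.card W₁ : ℤ) - 1)) * Nat.card ↥(W₁ ⊔ W₂) := by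
    apply Int.cast_injective (α := ℂ)
    push_cast
    rw [← h.card_offSet, mul_sum,
      sum_congr rfl fun χ _ => (h.off_norm (c χ)).symm.trans
        (congrArg (2 * ·) (sum_congr rfl fun x _ => by rw [← hc χ x])),
      ← mul_sum, Finset.sum_comm, mul_assoc]
    refine congrArg (2 * ·) ?_
    rw [sum_congr rfl fun x hx => (sum_subset (subset_univ h.nonvan) fun χ _ hχ' => by
      have : (χ : L → ℂ) x = 0 := by_contra fun h0 => hχ' (h.mem_nonvan.mpr ⟨x, hx, h0⟩)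
      rw [this, zero_mul]).trans ((h.column hx hx).trans (if_pos rfl)), sum_const, nsmul_eq_mul]
  have hcard := h.card_le_nonvan
  have heq : T χ = 2 * ((Nat.card W₁ : ℤ) - 1) := by
    by_contra hne
    have hgt : 2 * ((Nat.card W₁ : ℤ) - 1) < T χ := lt_of_le_of_ne (hlow χ hχ).1 (Ne.symm hne)
    have hs := sum_lt_sum (f := fun _ => 2 * ((Nat.card W₁ : ℤ) - 1)) (fun ψ hψ => (hlow ψ hψ).1) ⟨χ, hχ, hgt⟩
    rw [sum_const, nsmul_eq_mul] at hs
    have h2 : (0 : ℤ) < Nat.card W₂ := by exact_mod_cast Nat.card_pos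
    have h3 := mul_lt_mul_of_pos_left hs h2
    rw [hT] at h3
    have h4 : (Nat.card ↥(W₁ ⊔ W₂) : ℤ) ≤ h.nonvan.card := by exact_mod_cast hcard
    have h5 : (0 : ℤ) ≤ (Nat.card W₂ : ℤ) * (2 * ((Nat.card W₁ : ℤ) - 1)) := by
      have := h.three_le
      have : (3 : ℤ) ≤ Nat.card W₁ := by exact_mod_cast this
      exact mul_nonneg h2.le (by linarith)
    nlinarith [mul_le_mul_of_nonneg_left h4 h5]
  obtain ⟨η, d, hd, he⟩ := (hlow χ hχ).2 heq
  refine ⟨η, d, ?_, fun x hx => by rw [hc χ x]; exact he x hx⟩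
  rcases hd with rfl | rfl <;> simp

theorem existsUnique_char (η : ↥(W₁ ⊔ W₂) →* ℂˣ) :
    ∃! χ : Cfsg.IrrCharacter L, ∃ d : ℂ, (d = 1 ∨ d = -1) ∧ ∀ x ∈ h.offSet, (χ : L → ℂ) x = d * (η x : ℂ) := by
  classical
  choose! om sg hsg hom using fun χ (hχ : χ ∈ h.nonvan) => h.classify hχ
  let f : ↥(W₁ ⊔ W₂) → ℂ := fun z => ∑ χ ∈ h.nonvan, (om χ z : ℂ)
  have hd2 : ∀ d : ℂ, (d = 1 ∨ d = -1) → d * starRingEnd ℂ d = 1 := by
    rintro d (rfl | rfl) <;> simp
  have hf : ∀ z, z ≠ 1 → f z = 0 := by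
    intro z hz
    obtain ⟨a', ha1, ha2⟩ : ∃ a' : W₁, a' ≠ 1 ∧ a' * h.proj z ≠ 1 := by
      haveI : Fintype W₁ := Fintype.ofFinite _
      by_contra! hh
      have hsub : (univ : Finset W₁) ⊆ {1, (h.proj z)⁻¹} := fun a _ => by
        rcases eq_or_ne a 1 with e | e
        · simp [e]
        · simp [eq_inv_of_mul_eq_one_left (hh a e)]
      have := (card_le_card hsub).trans card_le_two
      rw [card_univ, ← Nat.card_eq_fintype_card] at this
      have := h.three_le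
      omega
    set y : ↥(W₁ ⊔ W₂) := ⟨a', Subgroup.mem_sup_left a'.2⟩
    have hy : y ∈ h.offSet := h.mem_offSet.mpr fun hh => ha1 (by
      rw [← h.proj_self a']; exact h.proj_ker (h.le hh))
    have hx : y * z ∈ h.offSet := h.mem_offSet.mpr fun hh => ha2 (by
      rw [← h.proj_self a', ← map_mul]; exact h.proj_ker (h.le hh))
    have hcol := h.column hx hy
    rw [if_neg (fun e => hz (mul_left_cancel (a := y) (by rw [e, mul_one]))),
      ← sum_subset (subset_univ h.nonvan) (fun χ _ hχ' => by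
        have : (χ : L → ℂ) y = 0 := by_contra fun h0 => hχ' (h.mem_nonvan.mpr ⟨y, hy, h0⟩)
        rw [this, map_zero, mul_zero])] at hcol
    rw [← hcol]
    refine sum_congr rfl fun χ hχ => ?_
    rw [hom χ hχ _ hx, hom χ hχ _ hy, map_mul, map_mul, Units.val_mul]
    have h1 : (om χ y : ℂ) * starRingEnd ℂ (om χ y : ℂ) = 1 := by
      rw [← IsCharacter.conj_inv (isCharacter_linear (om χ)) y, ← Units.val_mul, ← map_mul, mul_inv_cancel,
        map_one, Units.val_one]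
    linear_combination (-((om χ z : ℂ) * (sg χ * starRingEnd ℂ (sg χ)))) * h1 - (om χ z : ℂ) * hd2 _ (hsg χ hχ)
  have hm : ((h.nonvan.filter fun χ => om χ = η).card : ℂ) = (h.nonvan.card : ℂ) / Nat.card ↥(W₁ ⊔ W₂) := by
    have h1 : Cfsg.classInner f (fun z => (η z : ℂ)) = (h.nonvan.filter fun χ => om χ = η).card := by
      rw [show f = ∑ χ ∈ h.nonvan, fun z => (om χ z : ℂ) from funext fun z => by simp [f, Finset.sum_apply],
        classInner_sum_left, sum_congr rfl fun χ _ => inner_lin (om χ) η, sum_boole]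
    rw [← h1, classInner_def, sum_eq_single 1 (fun z _ hz => by rw [hf z hz, zero_mul]) (by simp)]
    simp [f, div_eq_inv_mul]
  have hN : h.nonvan.card = Nat.card ↥(W₁ ⊔ W₂) * (h.nonvan.filter fun χ => om χ = η).card := by
    rw [eq_div_iff (Nat.cast_ne_zero.mpr Nat.card_pos.ne'), mul_comm] at hm
    exact_mod_cast hm.symm
  have hle : h.nonvan.card ≤ Nat.card ↥(W₁ ⊔ W₂) := by
    -- the square sums add up to at most the right total
    obtain ⟨x, hx⟩ : h.offSet.Nonempty := by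
      by_contra hne
      rw [not_nonempty_iff_eq_empty] at hne
      have := h.card_offSet
      rw [hne, card_empty, Nat.cast_zero, eq_comm, mul_eq_zero] at this
      rcases this with e | e
      · exact Nat.card_pos.ne' (Nat.cast_eq_zero.mp e)
      · have := h.three_le
        have : (Nat.card W₁ : ℂ) = 1 := sub_eq_zero.mp e
        have : Nat.card W₁ = 1 := by exact_mod_cast this
        omega
    have hcol := h.column hx hx
    rw [if_pos rfl, ← sum_subset (subset_univ h.nonvan) (fun χ _ hχ' => by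
        have : (χ : L → ℂ) x = 0 := by_contra fun h0 => hχ' (h.mem_nonvan.mpr ⟨x, hx, h0⟩)
        rw [this, zero_mul]),
      sum_congr rfl fun (χ : Cfsg.IrrCharacter L) (hχ : χ ∈ h.nonvan) => show (χ : L → ℂ) x * starRingEnd ℂ ((χ : L → ℂ) x) = 1 by
        rw [hom χ hχ x hx, map_mul]
        have h1 : (om χ x : ℂ) * starRingEnd ℂ (om χ x : ℂ) = 1 := by
          rw [← IsCharacter.conj_inv (isCharacter_linear (om χ)) x, ← Units.val_mul, ← map_mul, mul_inv_cancel,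
            map_one, Units.val_one]
        linear_combination (sg χ * starRingEnd ℂ (sg χ)) * h1 + hd2 _ (hsg χ hχ),
      sum_const, nsmul_eq_mul, mul_one] at hcol
    exact le_of_eq (by exact_mod_cast hcol)
  have hone : (h.nonvan.filter fun χ => om χ = η).card = 1 := by
    have := h.card_le_nonvan
    have hpos : 0 < Nat.card ↥(W₁ ⊔ W₂) := Nat.card_pos
    have h1 : Nat.card ↥(W₁ ⊔ W₂) * (h.nonvan.filter fun χ => om χ = η).card = Nat.card ↥(W₁ ⊔ W₂) * 1 := by omega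
    exact Nat.eq_of_mul_eq_mul_left hpos h1
  obtain ⟨χ, hχ⟩ := card_eq_one.mp hone
  have hχmem : χ ∈ h.nonvan ∧ om χ = η := mem_filter.mp (hχ ▸ mem_singleton_self χ)
  refine ⟨χ, ⟨sg χ, hsg χ hχmem.1, fun x hx => by rw [hom χ hχmem.1 x hx, hχmem.2]⟩, ?_⟩
  rintro ψ ⟨d, hd, hψ⟩
  have hd0 : d ≠ 0 := by rcases hd with rfl | rfl <;> simp
  have hψN : ψ ∈ h.nonvan := by
    obtain ⟨x, hx, -⟩ := h.mem_nonvan.mp hχmem.1
    exact h.mem_nonvan.mpr ⟨x, hx, by rw [hψ x hx]; exact mul_ne_zero hd0 (Units.ne_zero _)⟩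
  have := (h.eq_of_off hd0 fun x hx => (hψ x hx).symm.trans (hom ψ hψN x hx)).1
  exact mem_singleton.mp (hχ ▸ mem_filter.mpr ⟨hψN, this.symm⟩)

theorem main : ∃ (μ : (↥(W₁ ⊔ W₂) →* ℂˣ) → (L → ℂ)) (δ : (↥(W₁ ⊔ W₂) →* ℂˣ) → ℂ),
    Function.Injective μ ∧ (∀ ω, Cfsg.IsIrrCharacter L (μ ω)) ∧ (∀ ω, δ ω = 1 ∨ δ ω = -1) ∧
    (∀ ω ω' : ↥(W₁ ⊔ W₂) →* ℂˣ, (∀ w : ↥(W₁ ⊔ W₂), (w : L) ∈ W₂ → ω w = ω' w) →
      δ ω = δ ω' ∧ Cfsg.indFun (W₁ ⊔ W₂) (fun w => (ω w : ℂ) - (ω' w : ℂ)) = δ ω • (μ ω - μ ω')) ∧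
    (∀ ω, ∀ w : ↥(W₁ ⊔ W₂), (w : L) ∉ W₂ → μ ω w = δ ω * (ω w : ℂ)) ∧
    (∀ θ : L → ℂ, Cfsg.IsIrrCharacter L θ → (∀ ω, θ ≠ μ ω) → ∀ w : ↥(W₁ ⊔ W₂), (w : L) ∉ W₂ → θ w = 0) ∧
    (∀ ω, ∃ n : ℤ, μ ω 1 - δ ω = n * (Nat.card W₁ : ℂ)) := by
  classical
  choose μ δ hδ hμ using fun η => (h.existsUnique_char η).exists
  have hinj : ∀ a b, μ a = μ b → a = b := fun a b e => by
    refine (h.eq_of_off (d := δ a) (d' := δ b) ?_ fun x hx => ?_).1
    · rcases hδ a with e' | e' <;> rw [e'] <;> simp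
    · rw [← hμ a x hx, ← hμ b x hx, e]
  have huniq : ∀ η χ d, (d = 1 ∨ d = -1) → (∀ x ∈ h.offSet, ((χ : Cfsg.IrrCharacter L) : L → ℂ) x = d * (η x : ℂ)) →
      χ = μ η ∧ d = δ η := by
    intro η χ d hd hx
    have e := (h.existsUnique_char η).unique ⟨d, hd, hx⟩ ⟨δ η, hδ η, hμ η⟩
    refine ⟨e, (h.eq_of_off (ω := η) (ω' := η) ?_ fun x hx' => ?_).2⟩
    · rcases hd with rfl | rfl <;> simp
    · rw [← hx x hx', e, hμ η x hx']
  have hlin : ∀ ω ω', h.res ω' = h.res ω → δ ω = δ ω' := by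
    intro ω ω' e
    obtain ⟨l, rfl⟩ := h.exists_tw e
    refine (huniq (ω * h.tw l) (h.twist l (μ ω)) (δ ω) (hδ ω) fun x hx => ?_).2
    show (l (h.proj x) : ℂ) * (μ ω : L → ℂ) x = _
    rw [hμ ω x hx, MonoidHom.mul_apply, Units.val_mul]
    simp only [tw, MonoidHom.comp_apply, Subgroup.coe_subtype]
    ring
  have hvan : ∀ θ : Cfsg.IrrCharacter L, (∀ ω, θ ≠ μ ω) → ∀ x ∈ h.offSet, (θ : L → ℂ) x = 0 := by
    intro θ hne x hx
    by_contra h0
    obtain ⟨η, d, hd, he⟩ := h.classify (h.mem_nonvan.mpr ⟨x, hx, h0⟩)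
    exact hne η (huniq η θ d hd he).1
  refine ⟨fun ω => (μ ω : L → ℂ), δ, fun a b e => hinj a b (Subtype.ext e), fun ω => (μ ω).2, hδ,
    fun ω ω' hag => ?_, fun ω w hw => hμ ω w (h.mem_offSet.mpr hw),
    fun θ hθ hne w hw => hvan ⟨θ, hθ⟩ (fun ω e => hne ω (congrArg Subtype.val e)) w (h.mem_offSet.mpr hw),
    fun ω => ?_⟩
  · have hres : h.res ω' = h.res ω := MonoidHom.ext fun b => (hag _ b.2).symm
    have hdd := hlin ω ω' hres
    refine ⟨hdd, classFunction_ext (isClassFunction_indFun _ _) (fun a b => ?_) fun θ hθ => ?_⟩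
    · simp only [Pi.smul_apply, Pi.sub_apply, isClassFunction_irr (μ ω) a b, isClassFunction_irr (μ ω') a b]
    rw [frobenius_reciprocity _ _ (isClassFunction_isChar (isCharacter_of_irr hθ)), classInner_smul_left,
      classInner_sub_left]
    by_cases hex : ∃ η, (⟨θ, hθ⟩ : Cfsg.IrrCharacter L) = μ η
    · obtain ⟨η, hη⟩ := hex
      have hθη : θ = (μ η : L → ℂ) := congrArg Subtype.val hη
      have hin : ∀ a, Cfsg.classInner (μ a : L → ℂ) θ = if a = η then 1 else 0 := fun a => by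
        rw [classInner_irrChar (μ a).2 hθ]
        exact if_congr ⟨fun e => hinj a η (Subtype.ext (e.trans hθη)), fun e => e ▸ hθη.symm⟩ rfl rfl
      rw [hin, hin]
      have hsum : Cfsg.classInner (fun w : ↥(W₁ ⊔ W₂) => (ω w : ℂ) - (ω' w : ℂ)) (fun w => θ w)
          = δ η * Cfsg.classInner (fun w : ↥(W₁ ⊔ W₂) => (ω w : ℂ) - (ω' w : ℂ)) (fun w => (η w : ℂ)) := by
        rw [classInner_def, classInner_def, mul_left_comm (δ η)]
        congr 1
        rw [mul_sum]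
        refine sum_congr rfl fun w _ => ?_
        by_cases hw : (w : L) ∈ W₂
        · rw [hag w hw]; simp
        · rw [hθη, hμ η w (h.mem_offSet.mpr hw), map_mul]
          rcases hδ η with e | e <;> rw [e] <;> simp
      rw [hsum, show (fun w : ↥(W₁ ⊔ W₂) => (ω w : ℂ) - (ω' w : ℂ)) =
        (fun w => (ω w : ℂ)) - (fun w => (ω' w : ℂ)) from rfl, classInner_sub_left, inner_lin, inner_lin]
      by_cases e1 : ω = η
      · subst e1; rfl
      · by_cases e2 : ω' = η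
        · subst e2; rw [hdd]
        · rw [if_neg e1, if_neg e2]; simp
    · push Not at hex
      have hz : Cfsg.classInner (fun w : ↥(W₁ ⊔ W₂) => (ω w : ℂ) - (ω' w : ℂ)) (fun w => θ w) = 0 := by
        rw [classInner_def, sum_eq_zero, mul_zero]
        intro w _
        by_cases hw : (w : L) ∈ W₂
        · rw [hag w hw, sub_self, zero_mul]
        · rw [show θ w = 0 from hvan ⟨θ, hθ⟩ hex w (h.mem_offSet.mpr hw), map_zero, mul_zero]
      have hne : ∀ a, Cfsg.classInner (μ a : L → ℂ) θ = 0 := fun a => by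
        rw [classInner_irrChar (μ a).2 hθ, if_neg]
        exact fun e => hex a (Subtype.ext e.symm)
      rw [hz, hne, hne]; simp
  · obtain ⟨c, hc⟩ := h.exists_coeff (μ ω)
    obtain ⟨d, hd⟩ : ∃ d : ℤ, (d : ℂ) = δ ω := by
      rcases hδ ω with e | e
      · exact ⟨1, by simp [e]⟩
      · exact ⟨-1, by simp [e]⟩
    set e : (↥(W₁ ⊔ W₂) →* ℂˣ) → ℤ := fun a => c a - if a = ω then d else 0 with he
    have he0 : ∀ x, h.comb e x = (μ ω : L → ℂ) x - δ ω * (ω x : ℂ) := fun x => by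
      simp only [comb, he, Int.cast_sub, sub_mul, sum_sub_distrib, Int.cast_ite, Int.cast_zero, ite_mul, zero_mul,
        sum_ite_eq', mem_univ, if_true]
      rw [hd, hc x]
      rfl
    have hconst := (h.comb_zero_iff e).mp fun x hx => by rw [he0, hμ ω x hx, sub_self]
    refine ⟨∑ ψ : W₂ →* ℂˣ, if hψ : ∃ a, h.res a = ψ then e hψ.choose else 0, ?_⟩
    have h1 := he0 1
    simp only [comb, map_one, Units.val_one, mul_one, Subgroup.coe_one] at h1
    rw [← h1, ← sum_fiberwise univ h.res fun a => (e a : ℂ), Int.cast_sum, sum_mul]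
    refine sum_congr rfl fun ψ _ => ?_
    by_cases hψ : ∃ a, h.res a = ψ
    · rw [dif_pos hψ, sum_congr (show (univ.filter fun a => h.res a = ψ) = h.fib hψ.choose by
        ext a; simp [h.mem_fib, hψ.choose_spec]) fun a ha => by rw [← hconst _ a ha], sum_const, h.card_fib,
        nsmul_eq_mul, mul_comm]
    · rw [dif_neg hψ, Int.cast_zero, zero_mul, sum_eq_zero]
      intro a ha
      exact absurd ⟨a, (mem_filter.mp ha).2⟩ hψ

end Hyp

end Cfsg.Lib.PrimeCyclic
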